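import Mathlib.FieldTheory.Finite.Basic
import Mathlib.LinearAlgebra.FreeModule.Finite.Matrix
import Mathlib.LinearAlgebra.Dimension.FreeAndStrongRankCondition
import Mathlib.Algebra.Module.ZMod
import Mathlib.Algebra.Algebra.ZMod

/-!
Additive maps of a finite field of characteristic two as combinations of Frobenius powers, and what they
give for a twisted isotopy of the multiplication.
-/

set_option autoImplicit false
set_option linter.unusedSectionVars false
set_option linter.style.haveILetI false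

namespace CfsgLib.RootTwo.Linearized

variable {F : Type} [Field F] [Fintype F] [CharP F 2] {n : ℕ}

theorem pow_mod (hn : Fintype.card F = 2 ^ n) (y : F) (j : ℕ) : y ^ 2 ^ j = y ^ 2 ^ (j % n) := by
  conv_lhs => rw [← Nat.mod_add_div j n, pow_add, pow_mul, pow_mul, ← hn, FiniteField.pow_card_pow]

theorem n_pos (hn : Fintype.card F = 2 ^ n) : 0 < n := by
  rcases Nat.eq_zero_or_pos n with rfl | h
  · exact absurd (hn ▸ Fintype.one_lt_card (α := F)) (by norm_num)
  · exact h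

theorem pow_injective (hn : Fintype.card F = 2 ^ n) {i j : Fin n} (h : ∀ y : F, y ^ 2 ^ (i : ℕ) = y ^ 2 ^ (j : ℕ)) :
    i = j := by
  obtain ⟨g, hg⟩ := IsCyclic.exists_ofOrder_eq_natCard (α := Fˣ)
  have hcard : orderOf g = 2 ^ n - 1 := by
    classical
    rw [hg, Nat.card_eq_fintype_card, Fintype.card_units, hn]
  have h1 : g ^ 2 ^ (i : ℕ) = g ^ 2 ^ (j : ℕ) := Units.ext (by rw [Units.val_pow_eq_pow_val, Units.val_pow_eq_pow_val, h])
  rw [pow_eq_pow_iff_modEq, hcard, Nat.ModEq] at h1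
  by_cases h2 : n ≤ 1
  · exact Fin.ext (by omega)
  obtain ⟨m, rfl⟩ : ∃ m, n = m + 2 := ⟨n - 2, by omega⟩
  have hb : ∀ k : Fin (m + 2), (2 : ℕ) ^ (k : ℕ) < 2 ^ (m + 2) - 1 := fun k => by
    have h3 : (2 : ℕ) ^ (k : ℕ) ≤ 2 ^ (m + 1) := Nat.pow_le_pow_right (by norm_num) (by omega)
    have h4 : 2 ≤ 2 ^ (m + 1) := Nat.le_self_pow (by omega) 2
    have h5 : (2 : ℕ) ^ (m + 2) = 2 * 2 ^ (m + 1) := pow_succ' 2 _
    omega
  rw [Nat.mod_eq_of_lt (hb i), Nat.mod_eq_of_lt (hb j)] at h1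
  exact Fin.ext (Nat.pow_right_injective (le_refl 2) h1)

/-- The Frobenius powers are independent. -/
theorem coef_zero (hn : Fintype.card F = 2 ^ n) {c : Fin n → F} (h : ∀ y : F, ∑ i, c i * y ^ 2 ^ (i : ℕ) = 0) :
    ∀ i, c i = 0 := by
  have hind := (linearIndependent_monoidHom F F).comp (fun i : Fin n => powMonoidHom (2 ^ (i : ℕ)))
    fun i j hij => pow_injective hn fun y => DFunLike.congr_fun hij y
  refine Fintype.linearIndependent_iff.1 hind c ?_
  funext y
  simpa [Finset.sum_apply, Pi.smul_apply] using h y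

/-- Every additive map is a combination of Frobenius powers. -/
theorem exists_coef (hn : Fintype.card F = 2 ^ n) (α : F →+ F) :
    ∃ c : Fin n → F, ∀ y, α y = ∑ i, c i * y ^ 2 ^ (i : ℕ) := by
  letI : Algebra (ZMod 2) F := ZMod.algebra F 2
  let v : Fin n → (F →ₗ[ZMod 2] F) := fun i => ((iterateFrobenius F 2 (i : ℕ)).toAddMonoidHom).toZModLinearMap 2
  have hv : ∀ i y, v i y = y ^ 2 ^ (i : ℕ) := fun i y => iterateFrobenius_def 2 _ y
  have hind : LinearIndependent F v := Fintype.linearIndependent_iff.2 fun c hc => coef_zero hn fun y => by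
    have h1 := LinearMap.congr_fun hc y
    simpa [LinearMap.sum_apply, hv] using h1
  have hdim : Fintype.card (Fin n) = Module.finrank F (F →ₗ[ZMod 2] F) := by
    rw [Module.finrank_linearMap, Module.finrank_self, mul_one, Fintype.card_fin]
    have h1 := Module.card_eq_pow_finrank (K := ZMod 2) (V := F)
    rw [hn, ZMod.card] at h1
    exact Nat.pow_right_injective (le_refl 2) h1
  haveI : Nonempty (Fin n) := ⟨⟨0, n_pos hn⟩⟩
  refine ⟨fun i => (basisOfLinearIndependentOfCardEqFinrank hind hdim).repr (α.toZModLinearMap 2) i, fun y => ?_⟩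
  have h1 := (basisOfLinearIndependentOfCardEqFinrank hind hdim).sum_repr (α.toZModLinearMap 2)
  rw [coe_basisOfLinearIndependentOfCardEqFinrank] at h1
  have h2 := LinearMap.congr_fun h1 y
  simp only [LinearMap.sum_apply, LinearMap.smul_apply, hv, smul_eq_mul] at h2
  exact h2.symm

/-- A map related to the product by two twists. -/
def Rel (σ τ : F →+ F) : Prop := ∃ μ γ : F →+ F, ∀ t y, τ t * σ y = μ (t * y) + γ (t * y ^ 2)

theorem Rel.split (hn : Fintype.card F = 2 ^ n) {σ τ : F →+ F} (h : Rel σ τ) :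
    ∃ β a b : Fin n → F, (∀ t, τ t = ∑ j, β j * t ^ 2 ^ (j : ℕ)) ∧
      ∀ j y, β j * σ y = a j * y ^ 2 ^ (j : ℕ) + b j * y ^ 2 ^ ((j : ℕ) + 1) := by
  obtain ⟨μ, γ, h⟩ := h
  obtain ⟨β, hβ⟩ := exists_coef hn τ
  obtain ⟨a, ha⟩ := exists_coef hn μ
  obtain ⟨b, hb⟩ := exists_coef hn γ
  refine ⟨β, a, b, hβ, fun j y => sub_eq_zero.1 (coef_zero hn
    (c := fun j => β j * σ y - (a j * y ^ 2 ^ (j : ℕ) + b j * y ^ 2 ^ ((j : ℕ) + 1))) (fun t => ?_) j)⟩
  have h1 := h t y
  rw [hβ, ha, hb, Finset.sum_mul, ← Finset.sum_add_distrib, ← sub_eq_zero, ← Finset.sum_sub_distrib] at h1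
  refine Eq.trans (Finset.sum_congr rfl fun i _ => ?_) h1
  rw [mul_pow, mul_pow, ← pow_mul, ← pow_succ']
  ring

theorem frob_surjective (k : ℕ) : Function.Surjective fun y : F => y ^ 2 ^ k := fun z => by
  obtain ⟨y, hy⟩ := Finite.injective_iff_surjective.1 (iterateFrobenius F 2 k).injective z
  exact ⟨y, by rwa [iterateFrobenius_def] at hy⟩

/-- The first map is semilinear. -/
theorem Rel.semilinear (hn : Fintype.card F = 2 ^ n) {σ τ : F →+ F} (h : Rel σ τ) (hσ : Function.Injective σ)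
    (hτ : Function.Injective τ) : ∃ (α : F) (k : ℕ), ∀ y, σ y = α * y ^ 2 ^ k := by
  obtain ⟨β, a, b, hβ, hj⟩ := h.split hn
  obtain ⟨j, hj0⟩ : ∃ j, β j ≠ 0 := by
    by_contra hno
    push Not at hno
    exact one_ne_zero (hτ (show τ 1 = τ 0 by simp [hβ, hno]))
  have key : ∀ y, σ y = a j / β j * y ^ 2 ^ (j : ℕ) + b j / β j * y ^ 2 ^ ((j : ℕ) + 1) := fun y => by
    rw [div_mul_eq_mul_div, div_mul_eq_mul_div, ← add_div, eq_div_iff hj0, mul_comm, hj]
  by_cases ha : a j = 0
  · exact ⟨b j / β j, (j : ℕ) + 1, fun y => by rw [key, ha, zero_div, zero_mul, zero_add]⟩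
  by_cases hb : b j = 0
  · exact ⟨a j / β j, j, fun y => by rw [key, hb, zero_div, zero_mul, add_zero]⟩
  obtain ⟨y, hy⟩ := frob_surjective (j : ℕ) (a j / b j)
  simp only at hy
  have h1 : σ y = σ 0 := by
    rw [map_zero, key, pow_succ, pow_mul, hy]
    field_simp
    linear_combination (a j ^ 2) * CharTwo.two_eq_zero (R := F)
  rw [hσ h1, zero_pow (by positivity)] at hy
  exact absurd hy.symm (div_ne_zero ha hb)

/-- With the first map trivial an involutive second one is trivial. -/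
theorem Rel.id_of_id (hn : Fintype.card F = 2 ^ n) (hn3 : 3 ≤ n) {σ τ : F →+ F} (h : Rel σ τ)
    (hσ : ∀ y, σ y = y) (hτ : ∀ t, τ (τ t) = t) : ∀ t, τ t = t := by
  obtain ⟨β, a, b, hβ, hj⟩ := h.split hn
  set i0 : Fin n := ⟨0, by omega⟩
  set i1 : Fin n := ⟨n - 1, by omega⟩
  set i2 : Fin n := ⟨n - 2, by omega⟩
  have hzero : ∀ j, j ≠ i0 → j ≠ i1 → β j = 0 := by
    intro j h0 h1
    have hlt : (j : ℕ) + 1 < n := by
      have : (j : ℕ) ≠ n - 1 := fun e => h1 (Fin.ext e)
      omega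
    set j' : Fin n := ⟨(j : ℕ) + 1, hlt⟩
    have h2 := coef_zero hn (c := fun i => (if i = i0 then β j else 0) - (if i = j then a j else 0) -
      (if i = j' then b j else 0)) (fun y => by
        simp only [sub_mul, ite_mul, zero_mul, Finset.sum_sub_distrib, Finset.sum_ite_eq', Finset.mem_univ, if_true]
        have h3 := hj j y
        rw [hσ] at h3
        show β j * y ^ 2 ^ 0 - _ - _ = 0
        rw [pow_zero, pow_one, h3]
        ring) i0
    rw [if_pos rfl, if_neg h0.symm, if_neg (fun e => by have := congrArg Fin.val e; simp [i0, j'] at this)] at h2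
    simpa using h2
  set e := β i0
  set c := β i1
  have h01 : i0 ≠ i1 := fun e => by have := congrArg Fin.val e; simp [i0, i1] at this; omega
  have hform : ∀ t, τ t = e * t + c * t ^ 2 ^ (n - 1) := fun t => by
    rw [hβ, Fintype.sum_eq_add i0 i1 h01 fun j hj' => by rw [hzero j hj'.1 hj'.2, zero_mul]]
    simp [i0, i1, e, c]
  have hsq : ∀ y : F, (y ^ 2 ^ (n - 1)) ^ 2 ^ (n - 1) = y ^ 2 ^ (n - 2) := fun y => by
    rw [← pow_mul, ← pow_add, pow_mod hn, show (n - 1 + (n - 1)) % n = n - 2 by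
      rw [show n - 1 + (n - 1) = n - 2 + n by omega, Nat.add_mod_right, Nat.mod_eq_of_lt (by omega)]]
  have h2 := coef_zero hn (c := fun i => (if i = i0 then e * e - 1 else 0) +
    (if i = i1 then e * c + c * e ^ 2 ^ (n - 1) else 0) + (if i = i2 then c * c ^ 2 ^ (n - 1) else 0)) (fun t => by
      simp only [add_mul, ite_mul, zero_mul, Finset.sum_add_distrib, Finset.sum_ite_eq', Finset.mem_univ, if_true]
      show (e * e - 1) * t ^ 2 ^ 0 + _ + _ * t ^ 2 ^ (n - 2) = 0
      have h3 := hτ t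
      rw [hform (τ t), hform t, add_pow_char_pow, mul_pow, mul_pow, hsq] at h3
      rw [pow_zero, pow_one]
      linear_combination h3)
  have h12 : i1 ≠ i2 := fun e => by have := congrArg Fin.val e; simp [i1, i2] at this; omega
  have h02 : i0 ≠ i2 := fun e => by have := congrArg Fin.val e; simp [i0, i2] at this; omega
  have hc : c = 0 := by
    have h3 := h2 i2
    rw [if_neg h02.symm, if_neg h12.symm, if_pos rfl] at h3
    simp at h3
    exact h3
  have he : e = 1 := by
    have h3 := h2 i0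
    rw [if_pos rfl, if_neg h01, if_neg h02, add_zero, add_zero, sub_eq_zero] at h3
    exact frobenius_inj F 2 (by rw [frobenius_def, frobenius_def, one_pow, pow_two, h3])
  intro t
  rw [hform, hc, he, zero_mul, add_zero, one_mul]

theorem dvd_of_fix (hn : Fintype.card F = 2 ^ n) {k : ℕ} (h : ∀ y : F, y ^ 2 ^ k = y) : n ∣ k := by
  refine Nat.dvd_of_mod_eq_zero (congrArg Fin.val (pow_injective hn (i := ⟨k % n, Nat.mod_lt _ (n_pos hn)⟩)
    (j := ⟨0, n_pos hn⟩) fun y => ?_))
  show y ^ 2 ^ (k % n) = y ^ 2 ^ 0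
  rw [← pow_mod hn, h, pow_zero, pow_one]

theorem scalar_invol {σ : F →+ F} {α : F} (h : ∀ y, σ y = α * y) (h2 : ∀ y, σ (σ y) = y) : ∀ y, σ y = y := by
  have h3 := h2 1
  rw [h, h, mul_one] at h3
  have h4 : α = 1 := frobenius_inj F 2 (by rw [frobenius_def, frobenius_def, one_pow, pow_two, h3])
  intro y
  rw [h, h4, one_mul]

/-- Two nontrivial semilinear involutions whose product is an involution are equal. -/
theorem comp_eq_id (hn : Fintype.card F = 2 ^ n) {σ σ' : F →+ F} (h : ∃ (α : F) (k : ℕ), ∀ y, σ y = α * y ^ 2 ^ k)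
    (h' : ∃ (α : F) (k : ℕ), ∀ y, σ' y = α * y ^ 2 ^ k) (hi : ∀ y, σ (σ y) = y) (hi' : ∀ y, σ' (σ' y) = y)
    (hne : ¬ ∀ y, σ y = y) (hne' : ¬ ∀ y, σ' y = y) (hp : ∀ y, σ (σ' (σ (σ' y))) = y) :
    ∀ y, σ (σ' y) = y := by
  have key : ∀ {σ : F →+ F}, (∃ (α : F) (k : ℕ), ∀ y, σ y = α * y ^ 2 ^ k) → (∀ y, σ (σ y) = y) → (¬ ∀ y, σ y = y) →
      ∃ (α : F) (k : ℕ), (∀ y, σ y = α * y ^ 2 ^ k) ∧ k < n ∧ 2 * k = n := by
    rintro σ ⟨α, k₀, hk₀⟩ hi hne
    set k := k₀ % n
    have hk : ∀ y, σ y = α * y ^ 2 ^ k := fun y => by rw [hk₀, pow_mod hn]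
    have hkn : k < n := Nat.mod_lt _ (n_pos hn)
    have h1 : ∀ y, α * α ^ 2 ^ k * y ^ 2 ^ (k + k) = y := fun y => by
      have := hi y
      rw [hk, hk, mul_pow, ← pow_mul, ← pow_add] at this
      rw [mul_assoc]; exact this
    have h2 := h1 1
    rw [one_pow, mul_one] at h2
    obtain ⟨m, hm⟩ := dvd_of_fix hn (k := k + k) fun y => by
      have := h1 y
      rwa [h2, one_mul] at this
    refine ⟨α, k, hk, hkn, ?_⟩
    have hk0 : k ≠ 0 := fun e => hne (scalar_invol (fun y => by rw [hk, e, pow_zero, pow_one]) hi)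
    have : m < 2 := by
      by_contra hm2
      have := Nat.mul_le_mul_left n (not_lt.1 hm2)
      omega
    interval_cases m <;> omega
  obtain ⟨α, k, hk, -, hkk⟩ := key h hi hne
  obtain ⟨α', k', hk', -, hkk'⟩ := key h' hi' hne'
  refine scalar_invol (σ := σ.comp σ') (α := α * α' ^ 2 ^ k) (fun y => ?_) hp
  show σ (σ' y) = _
  rw [hk', hk, mul_pow, ← pow_mul, ← pow_add, show k' + k = n by omega, ← hn, FiniteField.pow_card, mul_assoc]

end CfsgLib.RootTwo.Linearized
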