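import Cfsg.Agent.Lib.RootTwo.Members

/-!
An anchor of order two commutes with every member of the Sylow subgroup.
-/

set_option autoImplicit false
set_option linter.unusedSectionVars false
set_option linter.unusedVariables false
set_option linter.style.haveILetI false

namespace CfsgLib.RootTwo

open CfsgLib CfsgLib.RootCommute CfsgLib.StrongFusion
open CfsgLib.SL2Pair (fix)

universe u v

variable {P : Type u} [Group P] [Finite P] {U : Type v} [AddCommGroup U] [Finite U] {ρ : P →* AddMonoid.End U}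
  {T : Sylow 2 P} {M : Subgroup P}

/-- A power argument: an element with a power of coprime exponent in a subgroup. -/
theorem mem_of_cube {H : Subgroup P} {g : P} (h3 : g ^ 3 ∈ H) (hg : IsPGroup 2 (Subgroup.zpowers g)) : g ∈ H := by
  obtain ⟨k, hk⟩ := hg ⟨g, Subgroup.mem_zpowers g⟩
  have hk' : g ^ 2 ^ k = 1 := congrArg Subtype.val hk
  have hcop : Nat.Coprime 3 (2 ^ k) := Nat.Coprime.pow_right k (by decide)
  have h1 : g ^ Nat.gcd 3 (2 ^ k) = g := by rw [hcop.gcd_eq_one, pow_one]
  rw [← h1, ← zpow_natCast, Nat.gcd_eq_gcd_ab, zpow_add, zpow_mul, zpow_mul, zpow_natCast, zpow_natCast, hk',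
    one_zpow, mul_one]
  exact H.zpow_mem h3 _

section

variable (hU : ∀ x : U, 2 • x = 0)
include hU

/-- A quadratic element of order two fixes its displacements. -/
theorem invol_disp {a : P} (ha : a * a = 1) (u : U) : ρ a (ρ a u - u) = ρ a u - u := by
  rw [map_sub, ← act_mul, ha, act_one, sub_eq_add' hU, sub_eq_add' hU, add_comm]

/-- The commutator of two involutions, the second fixing the displacements of the first. -/
theorem act_comm_invol {a s : P} (ha : a * a = 1) (hs : s * s = 1)
    (h : ∀ u, ρ a (ρ s u - u) = ρ s u - u) (u : U) :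
    ρ (s * a * s * a) u = u + (ρ s (ρ a u - u) - (ρ a u - u)) := by
  have hsi : s⁻¹ = s := inv_eq_of_mul_eq_one_right hs
  have hai : a⁻¹ = a := inv_eq_of_mul_eq_one_right ha
  have h' := act_commutator (fun u => invol_disp hU ha u) (fun u => invol_disp hU hs u) h u
  rwa [hsi, hai] at h'

end

/-- **Anchors of order two commute with all members.** -/
theorem anchorComm_two {S₀ : Subgroup P → Prop} {cl : Set (Subgroup P)} {C : Subgroup P} {F : Type} [Field F]
    [Fintype F] (hc : Cls ρ T M S₀ cl C F) (hq : Fintype.card F = 2) : AnchorComm ρ T M cl := by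
  intro g₀ A R F' iF iF' hA c S hS hST
  classical
  have hs := hA.set_up
  have hU := hs.smul_zero
  haveI := hs.nontriv
  have rS := hc.reg S hS
  have hq' : Fintype.card F' = 2 := c.card_eq.symm.trans ((hc.reg A hA.mem).card.trans hq)
  have two : ∀ x : F', x = 0 ∨ x = 1 := fun x => by
    by_contra hne
    push Not at hne
    have h3 := (Finset.card_le_univ ({0, 1, x} : Finset F')).trans hq'.le
    rw [Finset.card_insert_of_notMem (by simp [hne.1.symm]),
      Finset.card_insert_of_notMem (by simp [hne.2.symm]), Finset.card_singleton] at h3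
    omega
  have hh1 : ∀ x : F', x ≠ 0 → x = 1 := fun x hx => (two x).resolve_left hx
  intro a₁ ha₁ s hs'
  obtain ⟨t, rfl⟩ := c.av_surj a₁ ha₁
  rcases two t with rfl | rfl
  · rw [c.av_zero, one_mul, mul_one]
  by_cases hs1 : s = 1
  · rw [hs1, one_mul, mul_one]
  set a := c.av 1 with ha
  set e := c.rv 1 with he
  have ha2 : a * a = 1 := by rw [ha, ← c.av_add, one_add_one_eq_two, c.char_two, c.av_zero]
  have he2 : e * e = 1 := by rw [he, ← c.rv_add, one_add_one_eq_two, c.char_two, c.rv_zero]
  have hs2 : s * s = 1 := by rw [← pow_two]; exact (hc.least S hS).1.1.pow s hs'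
  obtain ⟨hXV, hXA, hXR⟩ := hA.kept_facts c
  -- displacements
  let e1 : F' →+ U := AddMonoidHom.mk' (fun y => ρ a (c.ey y) - c.ey y) fun x y => by
    rw [map_add, map_add]; abel
  let e2 : F' →+ U := AddMonoidHom.mk' (fun x => ρ e (c.ex x) - c.ex x) fun x y => by
    rw [map_add, map_add]; abel
  have hdA : ∀ u, ρ a u - u = e1 (c.cy u) := fun u => c.a_disp (c.av_mem 1) (by rw [c.cy_ey])
  have hdR : ∀ u, ρ e u - u = e2 (c.cx u) := fun u => c.r_disp (c.rv_mem 1) (by rw [c.cx_ex])
  have he1 : ∀ y, c.cx (e1 y) = y ∧ c.cy (e1 y) = 0 := fun y => by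
    show c.cx (ρ a (c.ey y) - c.ey y) = y ∧ c.cy (ρ a (c.ey y) - c.ey y) = 0
    rw [map_sub, map_sub, ha, c.cx_a, c.cy_a, c.cy_ey, one_mul, add_sub_cancel_left, sub_self]
    exact ⟨rfl, rfl⟩
  have he2' : ∀ y, c.cx (e2 y) = 0 ∧ c.cy (e2 y) = y := fun y => by
    show c.cx (ρ e (c.ex y) - c.ex y) = 0 ∧ c.cy (ρ e (c.ex y) - c.ex y) = y
    rw [map_sub, map_sub, he, c.cx_r, c.cy_r, c.cx_ex, one_mul, add_sub_cancel_left, sub_self]
    exact ⟨rfl, rfl⟩
  -- a member fixes what it fixes elementwise
  have hsall : ∀ u, ρ s u = u → u ∈ fix ρ S := fun u hu => rS.ker s hs' hs1 u hu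
  have hsq : ∀ u, ρ s (ρ s u - u) = ρ s u - u := fun u => invol_disp hU hs2 u
  suffices key : (∀ u, ρ a (ρ s u - u) = ρ s u - u) ∧ ∀ u, ρ s (ρ a u - u) = ρ a u - u by
    refine act_ext ρ hs.inj fun u => ?_
    rw [act_mul, act_mul]
    have e3 := key.1 u
    have e4 := key.2 u
    rw [map_sub] at e3 e4
    rw [eq_add_of_sub_eq e3, eq_add_of_sub_eq e4]
    abel
  -- not both
  have hnb : (∀ u, ρ a (ρ s u - u) = ρ s u - u) ∨ ∀ u, ρ s (ρ a u - u) = ρ a u - u := by
    by_contra hno
    push Not at hno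
    obtain ⟨⟨u, hu⟩, v, hv⟩ := hno
    rw [hdA v] at hv
    have hv1 : c.cy v = 1 := hh1 _ fun h => hv (by rw [h, map_zero, map_zero])
    rw [hv1] at hv
    set c₁ := e1 1
    set cs := ρ s c₁ - c₁ with hcs
    have hcsy : c.cy cs = 1 := by
      refine hh1 _ fun h0 => hu ?_
      have h1 := c.mem_fix_iff.2 h0 a (c.av_mem 1)
      -- both are the one nonzero displacement
      have hk : Nat.card U = 2 * Nat.card (fix ρ S) := hq ▸ rS.idx
      by_cases h2 : ρ s u = u
      · rw [h2, sub_self, map_zero]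
      have h3 : ρ s (u - c₁) - (u - c₁) = 0 := by
        by_contra h4
        have hidx : (fix ρ S).index = 2 := by
          have h5 := (fix ρ S).card_mul_index
          rw [hk, mul_comm 2] at h5
          exact Nat.eq_of_mul_eq_mul_left Nat.card_pos h5
        have h6 : (u - c₁) - u ∈ fix ρ S := by
          rw [sub_eq_add_neg, AddSubgroup.add_mem_iff_of_index_two hidx, AddSubgroup.neg_mem_iff]
          exact iff_of_false (fun h => h4 (sub_eq_zero.2 (h s hs'))) fun h => h2 (h s hs')
        rw [sub_sub_cancel_left, AddSubgroup.neg_mem_iff] at h6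
        exact hv (h6 s hs')
      rw [map_sub, sub_sub_sub_comm, sub_eq_zero] at h3
      rw [h3]; exact h1
    have hz : ρ a cs = cs + c₁ := by
      have := hdA cs
      rw [hcsy] at this
      show _ = cs + e1 1
      rw [← this]; abel
    have hac : ρ a c₁ = c₁ := c.mem_fix_iff.2 (he1 1).2 a (c.av_mem 1)
    have hscs : ρ s cs = cs := hsq c₁
    have hsc : ρ s c₁ = c₁ + cs := by rw [hcs]; abel
    have e1' : ρ (a * s) c₁ = cs := by
      rw [act_mul, hsc, map_add, hac, hz, add_left_comm, add_self hU, add_zero]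
    have e2'' : ρ (a * s) cs = cs + c₁ := by rw [act_mul, hscs, hz]
    have h3 : ρ ((a * s) ^ 3) c₁ = c₁ := by
      rw [pow_succ', pow_two, act_mul ρ (a * s) (a * s * (a * s)), act_mul ρ (a * s) (a * s), e1', e2'', map_add,
        e2'', e1', show cs + c₁ + cs = c₁ + (cs + cs) by abel, add_self hU, add_zero]
    have hmem : a * s ∈ (T : Subgroup P) := mul_mem (hA.le (c.av_mem 1)) (hST hs')
    have h4 : a * s ∈ pointStab ρ c₁ := mem_of_cube h3 (T.2.to_le (Subgroup.zpowers_le.2 hmem))
    have h5 : cs = c₁ := e1'.symm.trans h4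
    rw [h5, (he1 1).2] at hcsy
    exact zero_ne_one hcsy
  rcases hnb with hfix | hfix
  swap
  · -- `s` fixes the displacements of `a`
    refine ⟨?_, hfix⟩
    by_contra hno
    push Not at hno
    let f : U →+ F' := c.cy.comp (AddMonoidHom.mk' (fun u => ρ s u - u) fun x y => by rw [map_add]; abel)
    have hf : ∀ u, f u = c.cy (ρ s u - u) := fun u => rfl
    set g := a * s * a * s with hg
    have hgact : ∀ u, ρ g u = u + e1 (f u) := fun u => by
      rw [hg, act_comm_invol hU hs2 ha2 hfix u, hdA]; rfl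
    set δ := f (e2 1) with hδ
    set g' := g * c.av δ with hg'
    have hav : ∀ t u, ρ (c.av t) u = u + e1 (t * c.cy u) := fun t u => by
      rcases two t with rfl | rfl
      · rw [c.av_zero, act_one, zero_mul, map_zero, add_zero]
      · rw [one_mul, ← hdA u, ha]; abel
    have hfe1 : ∀ y, f (e1 y) = 0 := fun y => by
      have := hfix (c.ey y)
      rw [hf, show ρ s (e1 y) = e1 y from this, sub_self, map_zero]
    let f' : U →+ F' := f + (AddMonoidHom.mulLeft δ).comp c.cy
    have hf' : ∀ u, f' u = f u + δ * c.cy u := fun u => rfl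
    have hg'act : ∀ u, ρ g' u = u + e1 (f' u) := fun u => by
      rw [hg', act_mul, hav, hgact, map_add f, hfe1, add_zero, hf', map_add e1]; abel
    have hf'1 : ∀ y, f' (e1 y) = 0 := fun y => by rw [hf', hfe1, (he1 y).2, mul_zero, add_zero]
    have hf'2 : ∀ y, f' (e2 y) = 0 := fun y => by
      rcases two y with rfl | rfl
      · rw [map_zero, map_zero]
      · rw [hf', (he2' 1).2, mul_one, ← hδ, ← two_mul, c.char_two, zero_mul]
    set D := e * g' * e with hD
    have hDact : ∀ u, ρ D u = u + (e1 (f' u) + e2 (f' u)) := fun u => by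
      have h1 : ρ e u = u + e2 (c.cx u) := by rw [← hdR]; abel
      have h2 : ∀ w, ρ e w = w + e2 (c.cx w) := fun w => by rw [← hdR]; abel
      rw [hD, act_mul, act_mul, h1, hg'act, map_add f', hf'2, add_zero, h2, map_add c.cx, map_add c.cx, (he1 _).1,
        (he2' _).1, add_zero, map_add e2]
      calc u + e2 (c.cx u) + e1 (f' u) + (e2 (c.cx u) + e2 (f' u))
          = u + (e1 (f' u) + e2 (f' u)) + (e2 (c.cx u) + e2 (c.cx u)) := by abel
        _ = _ := by rw [add_self hU, add_zero]
    obtain ⟨u₁, hu₁⟩ : ∃ u, f' u = 1 := by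
      by_contra hno'
      push Not at hno'
      have h0 : ∀ u, f' u = 0 := fun u => (two _).resolve_right (hno' u)
      obtain ⟨u, hu⟩ := hno
      have h1 := h0 u
      have h2 := h0 (ρ s u - u)
      rw [hf', hf, hsq, sub_self, map_zero, zero_add, ← hf] at h2
      rw [hf'] at h1
      refine hu ?_
      have h3 : c.cy (ρ s u - u) = 0 := by
        rcases mul_eq_zero.1 h2 with h | h
        · rw [h, zero_mul, add_zero] at h1; exact (hf u).symm.trans h1
        · exact (hf u).symm.trans h
      exact c.mem_fix_iff.2 h3 a (c.av_mem 1)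
    set B := img ρ A with hB
    set Cs := B ⊔ e2.range with hCs
    have hflagA : A ≤ flag ρ B Cs := fun b hb =>
      ⟨fun x hx => c.img_le_fix hx b hb, fun x hx => sub_mem_img ρ hb x,
        fun x => (le_sup_left : B ≤ Cs) (sub_mem_img ρ hb x)⟩
    have he1B : ∀ y, e1 y ∈ B := fun y => sub_mem_img ρ (c.av_mem 1) _
    have he2R : ∀ y, e2 y ∈ img ρ R := fun y => sub_mem_img ρ (c.rv_mem 1) _
    obtain ⟨k, hk, hle⟩ := hA.exists_sylow hflagA (fun x hx w hw => by rw [hXA hw x hx]; exact hw)
      (fun x hx w hw => by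
        have h1 : w ∈ fix ρ (kept T cl g₀) := by
          refine (sup_le hXA ?_ : Cs ≤ fix ρ _) hw
          rintro _ ⟨y, rfl⟩; exact hXR (he2R y)
        rw [h1 x hx]; exact hw)
    have hDf : D ∈ flag ρ B Cs := by
      have hBz : ∀ x ∈ B, f' x = 0 := by
        intro x hx
        have hle : B ≤ f'.ker := (img_le ρ).2 fun b hb u => by
          obtain ⟨t, rfl⟩ := c.av_surj b hb
          show f' _ = 0
          rw [hav, add_sub_cancel_left, hf'1]
        exact hle hx
      refine ⟨fun x hx => by rw [hDact, hBz x hx, map_zero, map_zero, add_zero, add_zero], fun x hx => ?_,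
        fun x => ?_⟩
      · obtain ⟨x₁, hx₁, _, ⟨y, rfl⟩, rfl⟩ := AddSubgroup.mem_sup.1 hx
        rw [hDact, map_add f', hBz x₁ hx₁, hf'2, add_zero, map_zero, map_zero, add_zero, add_zero, sub_self]
        exact zero_mem _
      · rw [hDact, add_sub_cancel_left]
        exact add_mem ((le_sup_left : B ≤ Cs) (he1B _)) ((le_sup_right : e2.range ≤ Cs) ⟨_, rfl⟩)
    have h1 := sub_mem_img ρ (hle hDf) u₁
    rw [hDact, add_sub_cancel_left, hu₁] at h1
    have h2 : e1 1 ∈ img ρ (cm k (T : Subgroup P)) := sub_mem_img ρ (hle (hflagA (c.av_mem 1))) (c.ey 1)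
    have h3 := sub_mem h1 h2
    rw [add_sub_cancel_left] at h3
    refine c.not_le fun r hr => hs.cosetStab_le hk fun u => ?_
    obtain ⟨t, rfl⟩ := c.rv_surj r hr
    rcases two t with rfl | rfl
    · rw [c.rv_zero, act_one, sub_self]; exact zero_mem _
    · rw [hdR]
      rcases two (c.cx u) with h | h <;> rw [h]
      · rw [map_zero]; exact zero_mem _
      · exact h3
  · -- `a` fixes the displacements of `s`
    refine ⟨hfix, ?_⟩
    by_contra hno
    push Not at hno
    let e3 : F' →+ U := AddMonoidHom.mk' (fun y => ρ s (e1 y) - e1 y) fun x y => by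
      rw [map_add, map_add]; abel
    have he3y : ∀ y, c.cy (e3 y) = 0 := fun y => c.mem_fix_iff.1 fun b hb => by
      obtain ⟨t, rfl⟩ := c.av_surj b hb
      rcases two t with rfl | rfl
      · rw [c.av_zero, act_one]
      · exact hfix (e1 y)
    set g := s * a * s * a with hg
    have hgact : ∀ u, ρ g u = u + e3 (c.cy u) := fun u => by
      rw [hg, act_comm_invol hU ha2 hs2 hfix u, hdA]; rfl
    set δ := c.cx (e3 1) with hδ
    set g' := g * c.av δ with hg'
    have hav : ∀ t u, ρ (c.av t) u = u + e1 (t * c.cy u) := fun t u => by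
      rcases two t with rfl | rfl
      · rw [c.av_zero, act_one, zero_mul, map_zero, add_zero]
      · rw [one_mul, ← hdA u, ha]; abel
    let e4 : F' →+ U := e3 + e1.comp (AddMonoidHom.mulLeft δ)
    have he4 : ∀ y, e4 y = e3 y + e1 (δ * y) := fun y => rfl
    have he4fix : ∀ y, c.cx (e4 y) = 0 ∧ c.cy (e4 y) = 0 := fun y => by
      rw [he4, map_add, map_add, (he1 _).1, (he1 _).2, he3y, add_zero]
      rcases two y with rfl | rfl
      · rw [map_zero, map_zero, mul_zero, add_zero]; exact ⟨rfl, rfl⟩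
      · rw [mul_one, ← hδ, ← two_mul, c.char_two, zero_mul]; exact ⟨rfl, rfl⟩
    have hg'act : ∀ u, ρ g' u = u + e4 (c.cy u) := fun u => by
      rw [hg', act_mul, hav, hgact, map_add c.cy, (he1 _).2, add_zero, he4]; abel
    set D := e * g' * e with hD
    have hDact : ∀ u, ρ D u = u + (e4 (c.cy u) + e4 (c.cx u)) := fun u => by
      have h2 : ∀ w, ρ e w = w + e2 (c.cx w) := fun w => by rw [← hdR]; abel
      rw [hD, act_mul, act_mul, h2 u, hg'act, h2, map_add c.cx, map_add c.cx, (he2' _).1, (he4fix _).1, add_zero,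
        add_zero, map_add c.cy, (he2' _).2, map_add e4]
      calc u + e2 (c.cx u) + (e4 (c.cy u) + e4 (c.cx u)) + e2 (c.cx u)
          = u + (e4 (c.cy u) + e4 (c.cx u)) + (e2 (c.cx u) + e2 (c.cx u)) := by abel
        _ = _ := by rw [add_self hU, add_zero]
    set V0 := fix ρ (A ⊔ R)
    have hV0A : V0 ≤ fix ρ A := fix_antitone ρ le_sup_left
    have hflagA : A ≤ flag ρ V0 (fix ρ A) := fun b hb =>
      ⟨fun x hx => hV0A hx b hb, fun x hx => by rw [hx b hb, sub_self]; exact zero_mem _,
        fun x => c.img_le_fix (sub_mem_img ρ hb x)⟩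
    obtain ⟨k, hk, hle⟩ := hA.exists_sylow hflagA
      (fun x hx w hw => by have := add_mem (hXV (sub_mem_img ρ hx w)) hw; rwa [sub_add_cancel] at this)
      (fun x hx w hw => by have := add_mem (hV0A (hXV (sub_mem_img ρ hx w))) hw; rwa [sub_add_cancel] at this)
    have he4V : ∀ y, e4 y ∈ V0 := fun y => c.mem_fix_sup_iff.2 (he4fix y)
    have hDf : D ∈ flag ρ V0 (fix ρ A) := by
      refine ⟨fun x hx => ?_, fun x hx => ?_, fun x => ?_⟩
      · obtain ⟨h1, h2⟩ := c.coords_of_fix hx
        rw [hDact, h1, h2, map_zero, add_zero, add_zero]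
      · rw [hDact, add_sub_cancel_left]; exact add_mem (he4V _) (he4V _)
      · rw [hDact, add_sub_cancel_left]; exact hV0A (add_mem (he4V _) (he4V _))
    obtain ⟨w, hw, hw0, hwst⟩ := hs.exists_fixed hk
    have hwA : w ∈ fix ρ A := fix_antitone ρ (hflagA.trans hle) hw
    have h1 : ρ D w = w := hw D (hle hDf)
    rw [hDact, c.mem_fix_iff.1 hwA, map_zero, zero_add, add_eq_left, hh1 _ (c.cx_ne hwst hwA), he4, mul_one] at h1
    -- so the displacement of `s` on `e1 1` is a multiple of it
    obtain ⟨u, hu⟩ := hno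
    rw [hdA u] at hu
    rcases two (c.cy u) with h | h <;> rw [h] at hu
    · exact hu (by rw [map_zero, map_zero])
    have h2 : e3 1 = e1 δ := by rw [eq_neg_of_add_eq_zero_left h1, neg_self hU]
    have h3 : ρ s (e3 1) = e3 1 := hsq (e1 1)
    rcases two δ with hd | hd <;> rw [hd] at h2
    · exact hu (sub_eq_zero.1 (h2.trans (map_zero _)))
    · rw [h2] at h3; exact hu h3

end CfsgLib.RootTwo
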