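import Cfsg.Agent.Lib.RootTwo.Cases
import Cfsg.Agent.Lib.RootTwo.Linearized
import Cfsg.Agent.Lib.RootTwo.SepTwo
import Mathlib.GroupTheory.Perm.Basic

/-!
An anchor over a field with more than two elements commutes with every member of the Sylow subgroup.
-/

set_option autoImplicit false
set_option linter.unusedSectionVars false
set_option linter.unusedVariables false
set_option linter.style.haveILetI false

namespace CfsgLib.RootTwo

open CfsgLib CfsgLib.RootCommute CfsgLib.StrongFusion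
open CfsgLib.SL2Pair (fix)

universe u v

variable {P : Type u} [Group P] [Finite P] {U : Type v} [AddCommGroup U] [Finite U] {ρ : P →* AddMonoid.End U}
  {T : Sylow 2 P} {M : Subgroup P}

namespace Chart

variable {F : Type} [Field F] [Fintype F] {A R : Subgroup P} (c : Chart ρ M A R F)
  (hs : Setting ρ T M) (hq : 2 < Fintype.card F) {S : Subgroup P} (rS : Reg ρ (Fintype.card F) S) (hSM : S ≤ M)
  (hS2 : ∀ s ∈ S, s * s = 1)
include c hs hq rS hSM hS2

/-- The members keep the charted subgroup. -/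
theorem normalised {s : P} (hs' : s ∈ S) : cm s A = A := by
  classical
  by_cases hs1 : s = 1
  · rw [hs1, cm_one]
  have hss := hS2 s hs'
  have hsi : s⁻¹ = s := inv_eq_of_mul_eq_one_right hss
  have hinv : ∀ u, ρ s (ρ s u) = u := fun u => by rw [← act_mul, hss, act_one]
  have hB : cm s A ≤ zg ρ M := by
    rintro _ ⟨a, ha, rfl⟩
    exact conj_mem_zg (hSM hs') (c.mem_zg hs hq ha)
  refine (c.cases hs hq (c.reg.conj s) hB).resolve_right fun htriv => ?_
  have hU := hs.smul_zero
  have hb : ∀ t, s * c.av t * s ∈ cm s A := fun t => ⟨c.av t, c.av_mem t, by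
    show s * c.av t * s⁻¹ = _
    rw [hsi]⟩
  have hey : ∀ t y, ρ (c.av t) (ρ s (c.ey y)) = ρ s (c.ey y) := fun t y => act_injective ρ s (by
    rw [hinv, ← act_mul, ← act_mul]
    exact (htriv _ (hb t)).1 y)
  have hcy : ∀ y, c.cy (ρ s (c.ey y)) = 0 := fun y => c.cy_of_fix one_ne_zero (hey 1 y)
  have hfg : ∀ t y, c.cx (ρ s (c.ex (t * y))) + c.cx (ρ s (c.L (t * y ^ 2))) = 0 := fun t y => by
    have h := (htriv _ (hb t)).2 (ρ s (c.ey y))
    rw [dl_apply, act_mul, act_mul, hinv, c.a_ey'] at h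
    simp only [map_add, map_sub] at h
    linear_combination h
  have hf : ∀ x, c.cx (ρ s (c.ex x)) = 0 := by
    intro x
    by_cases hx : x = 0
    · rw [hx, map_zero, map_zero, map_zero]
    have hg : ∀ z, z ≠ 0 → c.cx (ρ s (c.L z)) = c.cx (ρ s (c.ex x)) := fun z hz => by
      have h := hfg (x * (z / x)⁻¹) (z / x)
      rw [inv_mul_cancel_right₀ (div_ne_zero hz hx), show x * (z / x)⁻¹ * (z / x) ^ 2 = z by field_simp] at h
      linear_combination h - c.cx (ρ s (c.ex x)) * c.char_two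
    have hl1 : (1 : F) + c.lam ≠ 0 := fun e => c.lam_ne_one hq (by linear_combination e - c.char_two)
    have h1 := hg _ hl1
    simp only [map_add] at h1
    rw [hg 1 one_ne_zero, hg _ c.lam_ne, c.add_self_F] at h1
    exact h1.symm
  let Φ : F × F → (dl ρ s).range := fun p => ⟨dl ρ s (c.ey p.1 + c.ex p.2), _, rfl⟩
  have hΦ : Function.Injective Φ := by
    intro p p' e
    have e1 : dl ρ s (c.ey (p.1 - p'.1) + c.ex (p.2 - p'.2)) = 0 := by
      rw [map_sub, map_sub, sub_add_sub_comm, map_sub, sub_eq_zero]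
      exact congrArg Subtype.val e
    set a := p.1 - p'.1 with ha
    set b := p.2 - p'.2 with hb'
    have hxc : c.cy (ρ s (c.ex b)) = 0 := c.cy_core hs.smul_zero hq hs (core_inv (hSM hs') (c.ex_core hs hq b))
    rw [dl_apply, map_add, sub_eq_zero] at e1
    have hy := congrArg c.cy e1
    rw [map_add, map_add, hcy, hxc, c.cy_ey, c.cy_ex, add_zero, add_zero] at hy
    have hx := congrArg c.cx e1
    rw [← hy, map_zero, map_zero, zero_add, zero_add, hf, c.cx_ex] at hx
    exact Prod.ext (sub_eq_zero.1 (ha ▸ hy.symm)) (sub_eq_zero.1 (hb' ▸ hx.symm))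
  have hker : (dl ρ s).ker = fix ρ S := by
    ext u
    rw [AddMonoidHom.mem_ker, dl_apply, sub_eq_zero]
    exact ⟨fun h => rS.ker s hs' hs1 u h, fun h => h s hs'⟩
  have hcard := (dl ρ s).ker.card_mul_index
  rw [AddSubgroup.index_ker, hker, rS.idx, mul_comm (Fintype.card F)] at hcard
  have hr := Nat.eq_of_mul_eq_mul_left Nat.card_pos hcard
  have hle := Nat.card_le_card_of_injective Φ hΦ
  rw [Nat.card_prod, Nat.card_eq_fintype_card, hr] at hle
  nlinarith

/-- Some member centralises the charted subgroup. -/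
theorem exists_central : ∃ s ∈ S, s ≠ 1 ∧ ∀ a ∈ A, s * a = a * s := by
  classical
  haveI : CharP F 2 := CharTwo.of_one_ne_zero_of_two_eq_zero one_ne_zero c.char_two
  obtain ⟨m, -, hm⟩ := FiniteField.card F 2
  obtain ⟨n, hn⟩ : ∃ n : ℕ, Fintype.card F = 2 ^ n := ⟨m, hm⟩
  clear hm
  have hN : ∀ s ∈ S, cm s A = A := fun s h => c.normalised hs hq rS hSM hS2 h
  have hτe : ∀ (s : S) t, ∃ t', (s : P) * c.av t * (s : P)⁻¹ = c.av t' := fun s t => by
    have h : (s : P) * c.av t * (s : P)⁻¹ ∈ A := (hN s s.2).le ⟨_, c.av_mem t, rfl⟩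
    exact (c.av_surj _ h).imp fun t' ht => ht.symm
  choose τ hτ using hτe
  have τadd : ∀ s t t', τ s (t + t') = τ s t + τ s t' := fun s t t' => c.av_injective (by
    rw [← hτ, c.av_add, c.av_add, ← hτ, ← hτ]; group)
  have τmul : ∀ s s' t, τ (s * s') t = τ s (τ s' t) := fun s s' t => c.av_injective (by
    rw [← hτ, ← hτ, ← hτ]
    push_cast
    group)
  have hinvS : ∀ (s : S), (s : S) * s = 1 := fun s => Subtype.ext (hS2 s s.2)
  have τinv : ∀ s t, τ s (τ s t) = t := fun s t => c.av_injective (by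
    rw [← τmul, hinvS, ← hτ, OneMemClass.coe_one, one_mul, inv_one, mul_one])
  suffices ∃ s : S, s ≠ 1 ∧ ∀ t, τ s t = t by
    obtain ⟨s, hs1, h⟩ := this
    refine ⟨s, s.2, fun e => hs1 (Subtype.ext e), fun a ha => ?_⟩
    obtain ⟨t, rfl⟩ := c.av_surj a ha
    have := hτ s t
    rw [h, mul_inv_eq_iff_eq_mul] at this
    exact this
  by_contra hno
  push Not at hno
  have hScard : Nat.card S = 2 ^ n := rS.card.trans hn
  have hn2 : 2 ≤ n := by
    by_contra hlt
    have : 2 ^ n ≤ 2 ^ 1 := Nat.pow_le_pow_right (by norm_num) (by omega)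
    omega
  rcases Nat.lt_or_ge n 3 with hlt | hn3
  · -- four elements cannot act faithfully on three
    obtain rfl : n = 2 := by omega
    have h0 : ∀ s, τ s 0 = 0 := fun s => by
      have h := τadd s 0 0
      rw [add_zero] at h
      exact left_eq_add.1 h
    have hne : ∀ s {t}, t ≠ 0 → τ s t ≠ 0 := fun s t ht e => ht (by rw [← τinv s t, e, h0])
    let π : S →* Equiv.Perm {t : F // t ≠ 0} := MonoidHom.mk'
      (fun s => Equiv.mk (fun t => ⟨τ s t, hne s t.2⟩) (fun t => ⟨τ s t, hne s t.2⟩)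
        (fun t => Subtype.ext (τinv s t)) (fun t => Subtype.ext (τinv s t)))
      fun s s' => Equiv.ext fun t => Subtype.ext (τmul s s' t)
    have hπ : Function.Injective π := (injective_iff_map_eq_one π).2 fun s h => by
      by_contra hs1
      obtain ⟨t, ht⟩ := hno s hs1
      refine ht ?_
      by_cases ht0 : t = 0
      · rw [ht0, h0]
      · exact congrArg Subtype.val (Equiv.congr_fun h ⟨t, ht0⟩)
    have hd := Subgroup.card_dvd_of_injective π hπ
    rw [hScard, Nat.card_eq_fintype_card, Fintype.card_perm, Fintype.card_subtype_compl, Fintype.card_subtype_eq, hn] at hd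
    norm_num [Nat.factorial] at hd
  -- what the members do modulo the fixed vectors
  let σ : S → F →+ F := fun s => c.cy.comp ((ρ (s : P) : U →+ U).comp c.ey)
  have hfixA : ∀ (s : S) u, c.cy u = 0 → c.cy (ρ (s : P) u) = 0 := fun s u hu => by
    have h : ρ (s : P) u ∈ fix ρ (cm (s : P) A) := by rw [mem_fix_cm, act_inv]; exact c.fix_of_cy hu
    rw [hN s s.2] at h
    exact c.mem_fix_iff.1 h
  have hcyσ : ∀ (s : S) u, c.cy (ρ (s : P) u) = σ s (c.cy u) := fun s u => by
    have h := hfixA s (u - c.ey (c.cy u)) (by rw [map_sub, c.cy_ey, sub_self])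
    rw [map_sub, map_sub, sub_eq_zero] at h
    exact h
  have σmul : ∀ (s s' : S) y, σ (s * s') y = σ s (σ s' y) := fun s s' y => by
    show c.cy (ρ ((s : P) * s') (c.ey y)) = _
    rw [act_mul, hcyσ]; rfl
  have σinv : ∀ (s : S) y, σ s (σ s y) = y := fun s y => by
    rw [← σmul, hinvS]
    show c.cy (ρ (1 : P) (c.ey y)) = y
    rw [act_one, c.cy_ey]
  let τ' : S → F →+ F := fun s => AddMonoidHom.mk' (τ s) (τadd s)
  have hrel : ∀ s : S, Linearized.Rel (σ s) (τ' s) := fun s =>
    ⟨c.cx.comp ((ρ (s : P) : U →+ U).comp c.ex), c.cx.comp ((ρ (s : P) : U →+ U).comp c.L), fun t y => by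
      have e : ρ ((s : P) * c.av t * (s : P)⁻¹) (ρ (s : P) (c.ey y)) = ρ (s : P) (ρ (c.av t) (c.ey y)) := by
        rw [← act_mul, inv_mul_cancel_right, act_mul]
      rw [hτ, c.a_ey'] at e
      have h := congrArg c.cx e
      rw [c.cx_a] at h
      simp only [map_add] at h
      show τ s t * σ s y = c.cx (ρ (s : P) (c.ex (t * y))) + c.cx (ρ (s : P) (c.L (t * y ^ 2)))
      show τ s t * c.cy (ρ (s : P) (c.ey y)) = _
      linear_combination h⟩
  suffices ∃ s : S, s ≠ 1 ∧ ∀ y, σ s y = y by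
    obtain ⟨s, hs1, h⟩ := this
    obtain ⟨t, ht⟩ := hno s hs1
    exact ht ((hrel s).id_of_id hn hn3 h (τinv s) t)
  by_contra hnoσ
  push Not at hnoσ
  obtain ⟨s, s', hs1, hs1', hss'⟩ : ∃ s s' : S, s ≠ 1 ∧ s' ≠ 1 ∧ s ≠ s' := by
    by_contra hne
    push Not at hne
    haveI : Fintype S := Fintype.ofFinite _
    obtain ⟨x, hx⟩ : ∃ x : S, x ≠ 1 := by
      by_contra hall
      push Not at hall
      haveI : Subsingleton S := ⟨fun a b => (hall a).trans (hall b).symm⟩
      have := Finite.card_le_one_iff_subsingleton.2 ‹Subsingleton S›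
      have : 2 ^ 2 ≤ 2 ^ n := Nat.pow_le_pow_right (by norm_num) hn2
      omega
    have hsub : (Finset.univ : Finset S) ⊆ {1, x} := fun y _ => by
      by_cases hy : y = 1
      · simp [hy]
      · simp [hne x y hx hy]
    have h1 := (Finset.card_le_card hsub).trans Finset.card_le_two
    rw [Finset.card_univ, ← Nat.card_eq_fintype_card, hScard] at h1
    have : 2 ^ 3 ≤ 2 ^ n := Nat.pow_le_pow_right (by norm_num) hn3
    omega
  have hsemi : ∀ s : S, ∃ (α : F) (k : ℕ), ∀ y, σ s y = α * y ^ 2 ^ k := fun s =>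
    (hrel s).semilinear hn (Function.LeftInverse.injective (σinv s)) (Function.LeftInverse.injective (g := τ' s) (τinv s))
  obtain ⟨y, hy⟩ := hnoσ (s * s') (fun e => hss' (by
    calc s = s * s' * s' := by rw [mul_assoc, hinvS, mul_one]
      _ = s' := by rw [e, one_mul]))
  obtain ⟨y₁, hy₁⟩ := hnoσ s hs1
  obtain ⟨y₂, hy₂⟩ := hnoσ s' hs1'
  refine hy ((σmul s s' y).trans (Linearized.comp_eq_id hn (hsemi s) (hsemi s') (σinv s) (σinv s')
    (fun h => hy₁ (h y₁)) (fun h => hy₂ (h y₂)) (fun z => ?_) y))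
  rw [← σmul s s', ← σmul s s', σinv]

/-- The members centralise the charted subgroup. -/
theorem comm_member : Comm A S := by
  classical
  have hU := hs.smul_zero
  obtain ⟨s₁, hs₁, hs₁1, hc₁⟩ := c.exists_central hs hq rS hSM hS2
  intro a ha s hs'
  have hsi : s⁻¹ = s := inv_eq_of_mul_eq_one_right (hS2 s hs')
  obtain ⟨t, rfl⟩ := c.av_surj a ha
  obtain ⟨t', ht'⟩ := c.av_surj (s * c.av t * s⁻¹)
    ((c.normalised hs hq rS hSM hS2 hs').le ⟨_, c.av_mem t, rfl⟩)
  suffices s * c.av t * s⁻¹ = c.av t by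
    rw [mul_inv_eq_iff_eq_mul] at this
    exact this.symm
  rw [hsi] at ht' ⊢
  have hinvar : ∀ u ∈ fix ρ S, ρ (c.av t) u ∈ fix ρ S := fun u hu => rS.ker s₁ hs₁ hs₁1 _ (by
    rw [← act_mul, hc₁ _ (c.av_mem t), act_mul, hu s₁ hs₁])
  have hsame : ∀ u ∈ fix ρ S, ρ (c.av t') u = ρ (c.av t) u := fun u hu => by
    rw [ht', act_mul, act_mul, hu s hs', hinvar u hu s hs']
  by_cases hcy : ∃ u ∈ fix ρ S, c.cy u ≠ 0
  · obtain ⟨u, hu, hu0⟩ := hcy
    have h := congrArg c.cx (hsame u hu)
    rw [c.cx_a, c.cx_a, add_right_inj] at h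
    rw [← ht', mul_right_cancel₀ hu0 h]
  push Not at hcy
  have heq : fix ρ S = fix ρ A := AddSubgroup.eq_of_le_of_card_ge (fun u hu => c.fix_of_cy (hcy u hu))
    (Nat.le_of_eq (Nat.eq_of_mul_eq_mul_left Fintype.card_pos (c.idx.symm.trans rS.idx)))
  refine act_ext ρ hs.inj fun u => ?_
  set v := ρ s u with hv
  have h1 : ρ (c.av t) v - v = ρ (c.av t) u - u := c.a_disp (c.av_mem t) (by
    rw [← sub_eq_zero, ← map_sub]
    exact c.mem_fix_iff.1 (heq ▸ rS.quad (sub_mem_img ρ hs' u)))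
  have h2 : ρ s (ρ (c.av t) v - v) = ρ (c.av t) v - v :=
    (heq.symm ▸ c.img_le_fix (sub_mem_img ρ (c.av_mem t) v) : _ ∈ fix ρ S) s hs'
  rw [map_sub, hv, ← act_mul ρ s s, hS2 s hs', act_one, ← hv, h1] at h2
  rw [act_mul, act_mul, ← hv]
  exact sub_left_inj.1 h2

end Chart

/-- **Anchors over larger fields commute with all members.** -/
theorem anchorComm_big {S₀ : Subgroup P → Prop} {cl : Set (Subgroup P)} {C : Subgroup P} {F : Type} [Field F]
    [Fintype F] (hc : Cls ρ T M S₀ cl C F) (hq : 2 < Fintype.card F) : AnchorComm ρ T M cl := by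
  intro g₀ A R F' iF iF' hA c S hS hST
  have hq' : Fintype.card F' = Fintype.card F := c.card_eq.symm.trans (hc.reg A hA.mem).card
  exact c.comm_member hA.set_up (hq' ▸ hq) (hq' ▸ hc.reg S hS) (hST.trans hA.set_up.le_M)
    fun s hs => by rw [← pow_two]; exact (hc.least S hS).1.1.pow s hs

/-- **Anchors commute with all members.** -/
theorem Cls.anchorComm {S₀ : Subgroup P → Prop} {cl : Set (Subgroup P)} {C : Subgroup P} {F : Type} [Field F]
    [Fintype F] (hc : Cls ρ T M S₀ cl C F) : AnchorComm ρ T M cl := by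
  by_cases hq : 2 < Fintype.card F
  · exact anchorComm_big hc hq
  · exact anchorComm_two hc (le_antisymm (not_lt.1 hq) Fintype.one_lt_card)

end CfsgLib.RootTwo
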