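import Cfsg.Agent.Lib.RootTwo.Basis
import Cfsg.Agent.Lib.RootBlocks.Split
import Cfsg.Agent.Lib.RootBlocks.PermBound
import Mathlib.GroupTheory.Perm.Sign
import Mathlib.GroupTheory.Perm.Closure

/-!
Over the field with two elements the components are symmetric groups on permutation modules.
-/

set_option autoImplicit false
set_option linter.unusedSectionVars false
set_option linter.style.haveILetI false

namespace CfsgLib.RootTwo

open CfsgLib CfsgLib.RootCommute CfsgLib.StrongFusion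
open CfsgLib.SL2Pair (fix)
open CfsgLib.RootBlocks (Split IsNaturalComponent PermBasis perm_bound)

universe u v

variable {P : Type u} [Group P] [Finite P] {U : Type v} [AddCommGroup U] [Finite U] {ρ : P →* AddMonoid.End U}
  {T : Sylow 2 P} {M : Subgroup P}

namespace Tv

variable {C : Set U} {tv : U → P} {B : U →+ U →+ ZMod 2} (h : Tv ρ T M C tv B)
include h

/-- The component of a transvection. -/
def comp (_h : Tv ρ T M C tv B) (e : U) : Subgroup P := Subgroup.closure (tv '' (_h.block e : Set U))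

theorem block_C {e f : U} (hf : f ∈ h.block e) : f ∈ C := (h.mem_outs.1 (h.mem_block.1 hf).1).1

theorem tv_mem_comp {e f : U} (hf : f ∈ h.block e) : tv f ∈ h.comp e :=
  Subgroup.subset_closure ⟨f, hf, rfl⟩

theorem comp_le {e : U} {K : Subgroup P} (hK : ∀ f ∈ h.block e, tv f ∈ K) : h.comp e ≤ K :=
  (Subgroup.closure_le _).2 (by rintro _ ⟨f, hf, rfl⟩; exact hK f hf)

theorem comp_conj {x : P} (hx : x ∈ (T : Subgroup P)) {e : U} (he : e ∈ h.outs) :
    cm x (h.comp e) = h.comp (ρ x e) := by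
  rw [cm, comp, MonoidHom.map_closure]
  refine congrArg Subgroup.closure (Set.ext fun g => ⟨?_, ?_⟩)
  · rintro ⟨_, ⟨f, hf, rfl⟩, rfl⟩
    exact ⟨ρ x f, h.block_inv hx hf, (h.conj (h.block_C hf) x).symm⟩
  · rintro ⟨f, hf, rfl⟩
    have h1 := h.block_inv (inv_mem hx) hf
    rw [act_inv] at h1
    refine ⟨_, ⟨ρ x⁻¹ f, h1, rfl⟩, ?_⟩
    show x * tv (ρ x⁻¹ f) * x⁻¹ = tv f
    rw [h.conj (h.block_C h1), act_inv']

theorem comp_disp {e : U} {g : P} (hg : g ∈ h.comp e) (u : U) :
    ρ g u - u ∈ AddSubgroup.closure (h.block e : Set U) := by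
  have h1 : h.comp e ≤ cosetStab ρ (AddSubgroup.closure (h.block e : Set U)) := h.comp_le fun f hf x => by
    rcases h.act f (h.block_C hf) x with ⟨-, e'⟩ | ⟨-, e'⟩ <;> rw [e']
    · rw [sub_self]; exact zero_mem _
    · rw [add_sub_cancel_left]; exact AddSubgroup.subset_closure hf
  exact h1 hg u

theorem mem_fix_comp {e u : U} : u ∈ fix ρ (h.comp e) ↔ ∀ f ∈ h.block e, B u f = 0 := by
  refine ⟨fun hu f hf => (h.fixed_iff (h.block_C hf)).1 (hu _ (h.tv_mem_comp hf)), fun hu g hg => ?_⟩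
  have h1 : h.comp e ≤ pointStab ρ u := h.comp_le fun f hf => h.act_zero f (h.block_C hf) u (hu f hf)
  exact h1 hg

theorem B_block_dual {e f g : U} [Decidable (f = g)] (he : e ∈ h.outs) (hf : f ∈ h.block e) (hg : g ∈ h.block e) :
    B (h.dual g) f = if f = g then 1 else 0 := by
  rw [h.symm]; exact h.B_dual (h.mem_block.1 hg).1 (h.mem_block.1 hf).1

/-- Prescribed values on a block. -/
theorem exists_vec {e : U} (he : e ∈ h.outs) (a : U → ZMod 2) : ∃ u : U, ∀ f ∈ h.block e, B u f = a f := by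
  classical
  refine ⟨∑ g ∈ h.block e, (a g).val • h.dual g, fun f hf => ?_⟩
  rw [map_sum, AddMonoidHom.finsetSum_apply, Finset.sum_eq_single f]
  · rw [map_nsmul, AddMonoidHom.nsmul_apply, h.B_block_dual he hf hf, if_pos rfl, nsmul_eq_mul, mul_one,
      ZMod.natCast_zmod_val]
  · intro g hg hgf
    rw [map_nsmul, AddMonoidHom.nsmul_apply, h.B_block_dual he hf hg, if_neg (Ne.symm hgf), smul_zero]
  · exact fun hn => absurd hf hn

theorem card_fix_comp {e : U} (he : e ∈ h.outs) :
    Nat.card (fix ρ (h.comp e)) * 2 ^ (h.block e).card = Nat.card U := by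
  classical
  let π : U →+ (↥(h.block e) → ZMod 2) := AddMonoidHom.mk' (fun u f => B u f) fun u w => by
    funext f; simp
  have hk : π.ker = fix ρ (h.comp e) := by
    ext u
    rw [h.mem_fix_comp, AddMonoidHom.mem_ker]
    exact ⟨fun h1 f hf => congrFun h1 ⟨f, hf⟩, fun h1 => funext fun f => h1 f f.2⟩
  have hr : π.range = ⊤ := eq_top_iff.2 fun a _ => by
    obtain ⟨u, hu⟩ := h.exists_vec he fun f => if hf : f ∈ h.block e then a ⟨f, hf⟩ else 0
    exact ⟨u, funext fun f => (hu f f.2).trans (dif_pos f.2)⟩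
  have h1 := π.ker.card_mul_index
  rwa [AddSubgroup.index_ker, hk, hr, AddSubgroup.card_top, Nat.card_fun, Nat.card_zmod,
    Nat.card_eq_finsetCard] at h1

/-- The point outside the block. -/
noncomputable def centre (_h : Tv ρ T M C tv B) (e : U) : U := ∑ g ∈ _h.block e, g

theorem B_centre {e f : U} (he : e ∈ h.outs) (hf : f ∈ h.block e) : B (h.centre e) f = 1 := by
  classical
  have h1 := h.B_dual (h.mem_block.1 hf).1 (h.mem_block.1 hf).1
  rw [if_pos rfl, dual, map_add, h.self, zero_add, h.block_eq he hf] at h1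
  rw [h.symm]; exact h1

open Classical in
/-- The points permuted by a component. -/
noncomputable def points (_h : Tv ρ T M C tv B) (e : U) : Finset U :=
  insert (_h.centre e) ((_h.block e).image fun f => _h.centre e + f)

theorem mem_points {e z : U} : z ∈ h.points e ↔ z = h.centre e ∨ ∃ f ∈ h.block e, h.centre e + f = z := by
  classical
  rw [points, Finset.mem_insert, Finset.mem_image]

theorem centre_notMem {e f : U} (hf : f ∈ h.block e) : h.centre e ≠ h.centre e + f :=
  fun e' => h.ne f (h.block_C hf) (left_eq_add.1 e')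

theorem points_facts {e : U} (he : e ∈ h.outs) :
    (h.points e).card = (h.block e).card + 1 ∧ ∑ z ∈ h.points e, z = 0 := by
  classical
  have hn : h.centre e ∉ (h.block e).image fun f => h.centre e + f := fun hh => by
    obtain ⟨f, hf, e'⟩ := Finset.mem_image.1 hh
    exact h.centre_notMem hf e'.symm
  have hi : Set.InjOn (fun f => h.centre e + f) (h.block e : Set U) := fun a _ b _ e' => add_left_cancel e'
  refine ⟨by rw [points, Finset.card_insert_of_notMem hn, Finset.card_image_of_injOn hi], ?_⟩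
  rw [points, Finset.sum_insert hn, Finset.sum_image hi, Finset.sum_add_distrib, Finset.sum_const]
  obtain ⟨k, hk⟩ : 2 ∣ (h.block e).card := (CharP.cast_eq_zero_iff (ZMod 2) 2 _).1 (h.block_even he)
  rw [hk, mul_comm, mul_nsmul', h.set_up.smul_zero, smul_zero, zero_add]
  exact h.add_self _

theorem act_points {e f : U} (he : e ∈ h.outs) (hf : f ∈ h.block e) :
    ρ (tv f) (h.centre e) = h.centre e + f ∧ ρ (tv f) (h.centre e + f) = h.centre e ∧
      ∀ g ∈ h.block e, g ≠ f → ρ (tv f) (h.centre e + g) = h.centre e + g := by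
  have hC := h.block_C hf
  have h1 := h.B_centre he hf
  refine ⟨h.act_one f hC _ h1, ?_, fun g hg hgf => h.act_zero f hC _ ?_⟩
  · rw [h.act_one f hC _ (by rw [map_add, AddMonoidHom.add_apply, h1, h.self, add_zero]), add_assoc, h.add_self,
      add_zero]
  · rw [map_add, AddMonoidHom.add_apply, h1, h.block_B he hg hf hgf]; decide

theorem comp_points {e : U} (he : e ∈ h.outs) : h.comp e ≤ setStab ρ (h.points e : Set U) :=
  h.comp_le fun f hf => setStab_of_mapsTo fun z hz => by
    obtain ⟨h1, h2, h3⟩ := h.act_points he hf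
    rcases h.mem_points.1 hz with rfl | ⟨g, hg, rfl⟩
    · rw [h1]; exact h.mem_points.2 (Or.inr ⟨f, hf, rfl⟩)
    · by_cases hgf : g = f
      · subst hgf; rw [h2]; exact h.mem_points.2 (Or.inl rfl)
      · rw [h3 g hg hgf]; exact hz

/-- **A component is a symmetric group on its permutation module.** -/
theorem natural_comp {e : U} (he : e ∈ h.outs) : IsNaturalComponent 2 ρ (h.comp e) := by
  classical
  obtain ⟨n, hn1, hn⟩ := h.block_pow he
  obtain ⟨hcard, hsum⟩ := h.points_facts he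
  set Z := h.points e with hZdef
  have hkeep : ∀ (g : ↥(h.comp e)) (z : ↥Z), ρ (g : P) z ∈ Z := fun g z => (h.comp_points he g.2 z).2 z.2
  let τ : ↥(h.comp e) →* Equiv.Perm ↥Z :=
    { toFun := fun g =>
        { toFun := fun z => ⟨ρ (g : P) z, hkeep g z⟩
          invFun := fun z => ⟨ρ (g : P)⁻¹ z, hkeep g⁻¹ z⟩
          left_inv := fun z => Subtype.ext (act_inv ρ _ _)
          right_inv := fun z => Subtype.ext (act_inv' ρ _ _) }
      map_one' := Equiv.ext fun z => Subtype.ext (RootCommute.act_one ρ (z : U))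
      map_mul' := fun g k => Equiv.ext fun z => Subtype.ext (act_mul ρ _ _ (z : U)) }
  have hc : h.centre e ∈ Z := h.mem_points.2 (Or.inl rfl)
  have hp : ∀ f ∈ h.block e, h.centre e + f ∈ Z := fun f hf => h.mem_points.2 (Or.inr ⟨f, hf, rfl⟩)
  have hinj : Function.Injective τ := (injective_iff_map_eq_one τ).2 fun g hg => Subtype.ext
    (act_ext ρ h.set_up.inj fun u => by
      rw [OneMemClass.coe_one, RootCommute.act_one]
      have hz : ∀ z ∈ Z, ρ (g : P) z = z := fun z hz => congrArg Subtype.val (Equiv.ext_iff.1 hg ⟨z, hz⟩)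
      refine h.ext_outs fun f hf => ?_
      by_cases hfb : f ∈ h.block e
      · have h1 : ρ (g : P) f = f := by
          have := hz _ (hp f hfb)
          rw [map_add, hz _ hc] at this
          exact add_left_cancel this
        conv_lhs => rw [← h1, h.form_inv]
      · have h1 : AddSubgroup.closure (h.block e : Set U) ≤ (B.flip f).ker := (AddSubgroup.closure_le _).2
          fun a ha => by
            show B a f = 0
            rw [h.symm]; exact h.block_B_zero he hf hfb ha
        have h2 : B (ρ (g : P) u - u) f = 0 := h1 (h.comp_disp g.2 u)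
        rwa [map_sub, AddMonoidHom.sub_apply, sub_eq_zero] at h2)
  have hstar : ∀ f (hf : f ∈ h.block e),
      Equiv.swap (⟨_, hc⟩ : ↥Z) ⟨_, hp f hf⟩ ∈ τ.range := fun f hf => by
    refine ⟨⟨tv f, h.tv_mem_comp hf⟩, Equiv.ext fun z => Subtype.ext ?_⟩
    obtain ⟨h1, h2, h3⟩ := h.act_points he hf
    show ρ (tv f) (z : U) = _
    rcases h.mem_points.1 z.2 with hz | ⟨g, hg, hz⟩
    · obtain rfl : z = ⟨_, hc⟩ := Subtype.ext hz
      rw [Equiv.swap_apply_left]; exact h1
    · obtain rfl : z = ⟨_, hp g hg⟩ := Subtype.ext hz.symm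
      by_cases hgf : g = f
      · subst hgf; rw [Equiv.swap_apply_right]; exact h2
      · rw [Equiv.swap_apply_of_ne_of_ne (fun e' => h.centre_notMem hg (congrArg Subtype.val e').symm)
          (fun e' => hgf (add_left_cancel (congrArg Subtype.val e')))]
        exact h3 g hg hgf
  have hsur : Function.Surjective τ := by
    refine MonoidHom.range_eq_top.1 (eq_top_iff.2 ?_)
    rw [← Equiv.Perm.closure_isSwap]
    refine (Subgroup.closure_le _).2 ?_
    have hfrom : ∀ a : ↥Z, a ≠ ⟨_, hc⟩ → Equiv.swap (⟨_, hc⟩ : ↥Z) a ∈ τ.range := fun a ha => by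
      obtain hz | ⟨g, hg, hz⟩ := h.mem_points.1 a.2
      · exact absurd (Subtype.ext hz) ha
      · obtain rfl : a = ⟨_, hp g hg⟩ := Subtype.ext hz.symm
        exact hstar g hg
    rintro _ ⟨a, b, hab, rfl⟩
    by_cases ha : a = ⟨_, hc⟩
    · rw [ha]; exact hfrom b (fun e' => hab (ha.trans e'.symm))
    by_cases hb : b = ⟨_, hc⟩
    · rw [hb, Equiv.swap_comm]; exact hfrom a ha
    have h1 := Equiv.swap_apply_apply (Equiv.swap (⟨_, hc⟩ : ↥Z) a) (⟨_, hc⟩ : ↥Z) b
    rw [Equiv.swap_apply_left, Equiv.swap_apply_of_ne_of_ne hb (Ne.symm hab)] at h1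
    rw [h1]
    exact mul_mem (mul_mem (hfrom a ha) (hfrom b hb)) (inv_mem (hfrom a ha))
  let e₁ : ↥Z ≃ Fin (2 ^ n + 1) := Fintype.equivFinOfCardEq (by rw [Fintype.card_coe, hcard, hn])
  let e₂ : ↥(h.comp e) ≃* Equiv.Perm (Fin (2 ^ n + 1)) :=
    (MulEquiv.ofBijective τ ⟨hinj, hsur⟩).trans e₁.permCongrHom
  let ψ : U →+ (Fin (2 ^ n + 1) → ZMod 2) := AddMonoidHom.mk' (fun u i => B u (e₁.symm i)) fun u w => by
    funext i; simp
  refine ⟨n, hn1, Or.inr ⟨rfl, e₂, ψ, fun u => ?_, fun w hw => ?_, fun u => ?_, fun g u i => ?_⟩⟩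
  · show ∑ i, B u (e₁.symm i) = 0
    rw [Equiv.sum_comp e₁.symm (fun z : ↥Z => B u z), Finset.sum_coe_sort Z (fun z => B u z), ← map_sum, hsum,
      map_zero]
  · let a : U → ZMod 2 := fun f => if hf : f ∈ h.block e then w (e₁ ⟨_, hp f hf⟩) + w (e₁ ⟨_, hc⟩) else 0
    obtain ⟨u, hu⟩ := h.exists_vec he a
    have htot : ∑ z : ↥Z, w (e₁ z) = 0 := by rw [Equiv.sum_comp e₁ w]; exact hw
    have hn' : (⟨_, hc⟩ : ↥Z) ∉ (h.block e).attach.image fun f : ↥(h.block e) => (⟨_, hp (f : U) f.2⟩ : ↥Z) := fun hh => by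
      obtain ⟨f, -, e'⟩ := Finset.mem_image.1 hh
      exact h.centre_notMem f.2 (congrArg Subtype.val e').symm
    have huniv : (Finset.univ : Finset ↥Z) =
        insert (⟨_, hc⟩ : ↥Z) ((h.block e).attach.image fun f : ↥(h.block e) => (⟨_, hp (f : U) f.2⟩ : ↥Z)) := by
      refine (Finset.eq_univ_of_forall fun z => ?_).symm
      rcases h.mem_points.1 z.2 with hz | ⟨g, hg, hz⟩
      · exact Finset.mem_insert.2 (Or.inl (Subtype.ext hz))
      · exact Finset.mem_insert.2 (Or.inr (Finset.mem_image.2 ⟨⟨g, hg⟩, Finset.mem_attach _ _, Subtype.ext hz⟩))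
    rw [huniv, Finset.sum_insert hn', Finset.sum_image (fun a _ b _ e' =>
      Subtype.ext (add_left_cancel (congrArg Subtype.val e')))] at htot
    have hcen : B u (h.centre e) = w (e₁ ⟨_, hc⟩) := by
      show B u (∑ g ∈ h.block e, g) = _
      rw [map_sum, ← Finset.sum_attach, Finset.sum_congr rfl fun (f : ↥(h.block e)) _ => (hu (f : U) f.2).trans (dif_pos f.2),
        Finset.sum_add_distrib, Finset.sum_const, Finset.card_attach, nsmul_eq_mul, h.block_even he, zero_mul,
        add_zero]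
      exact (eq_neg_of_add_eq_zero_right htot).trans (CharTwo.neg_eq _)
    refine ⟨u, funext fun i => ?_⟩
    obtain ⟨z, rfl⟩ := e₁.surjective i
    show B u (e₁.symm (e₁ z)) = _
    rw [Equiv.symm_apply_apply]
    rcases h.mem_points.1 z.2 with hz | ⟨g, hg, hz⟩
    · obtain rfl : z = ⟨_, hc⟩ := Subtype.ext hz
      exact hcen
    · obtain rfl : z = ⟨_, hp g hg⟩ := Subtype.ext hz.symm
      show B u (h.centre e + g) = _
      rw [map_add, hcen, hu g hg]
      simp only [a, dif_pos hg]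
      rw [add_comm, add_assoc, CharTwo.add_self_eq_zero, add_zero]
  · rw [h.mem_fix_comp]
    constructor
    · intro hu f hf
      have hz : ∀ z ∈ Z, B u z = 0 := fun z hz => by
        have := congrFun hu (e₁ ⟨z, hz⟩)
        rwa [show ψ u (e₁ ⟨z, hz⟩) = B u (e₁.symm (e₁ ⟨z, hz⟩)) from rfl, Equiv.symm_apply_apply] at this
      have := hz _ (hp f hf)
      rwa [map_add, hz _ hc, zero_add] at this
    · intro hu
      funext i
      show B u (e₁.symm i) = 0
      have hc0 : B u (h.centre e) = 0 := by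
        show B u (∑ g ∈ h.block e, g) = 0
        rw [map_sum]; exact Finset.sum_eq_zero hu
      rcases h.mem_points.1 (e₁.symm i).2 with hz | ⟨g, hg, hz⟩
      · rw [hz, hc0]
      · rw [← hz, map_add, hc0, hu g hg, add_zero]
  · show B (ρ (g : P) u) (e₁.symm i) = B u (e₁.symm ((e₂ g)⁻¹ i))
    rw [← map_inv, show e₂ g⁻¹ i = e₁ (τ g⁻¹ (e₁.symm i)) from rfl, Equiv.symm_apply_apply]
    show _ = B u (ρ (g : P)⁻¹ (e₁.symm i : U))
    conv_lhs => rw [← act_inv' ρ (g : P) (e₁.symm i : U), h.form_inv]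

theorem zpowers_eq {c : U} (hc : c ∈ C) {g : P} (hg : g ∈ Subgroup.zpowers (tv c)) : g = 1 ∨ g = tv c := by
  obtain ⟨k, rfl⟩ := hg
  show tv c ^ k = 1 ∨ tv c ^ k = tv c
  rcases Int.even_or_odd k with ⟨m, rfl⟩ | ⟨m, rfl⟩
  · exact Or.inl (by rw [← two_mul, zpow_mul, zpow_two, h.tv_sq hc, one_zpow])
  · exact Or.inr (by rw [zpow_add, zpow_mul, zpow_two, h.tv_sq hc, one_zpow, one_mul, zpow_one])

theorem mem_fix_zpowers {c : U} (hc : c ∈ C) {u : U} : u ∈ fix ρ (Subgroup.zpowers (tv c)) ↔ B u c = 0 := by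
  refine ⟨fun hu => (h.fixed_iff hc).1 (hu _ (Subgroup.mem_zpowers _)), fun hu g hg => ?_⟩
  rcases h.zpowers_eq hc hg with rfl | rfl
  · exact RootCommute.act_one ρ u
  · exact h.act_zero c hc u hu

theorem card_zpowers {c : U} (hc : c ∈ C) : Nat.card (Subgroup.zpowers (tv c)) = 2 := by
  rw [Nat.card_zpowers]
  exact orderOf_eq_prime (by rw [pow_two, h.tv_sq hc]) (h.tv_ne_one hc)

theorem cm_zpowers {c : U} (hc : c ∈ C) (g : P) :
    cm g (Subgroup.zpowers (tv c)) = Subgroup.zpowers (tv (ρ g c)) := by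
  rw [cm, MonoidHom.map_zpowers]; exact congrArg Subgroup.zpowers (h.conj hc g)

/-- **The splitting.** -/
theorem exists_split : ∃ (ι : Type u) (_ : Fintype ι), Nonempty (Split ρ T ι) := by
  classical
  let S : Set (Subgroup P) := {E | ∃ e ∈ h.outs, h.comp e = E}
  haveI : Fintype ↥S := Fintype.ofFinite _
  choose ε hε hεE using fun i : ↥S => i.2
  have hmem : ∀ {f : U}, f ∈ h.outs → ∃ i : ↥S, (i : Subgroup P) = h.comp f := fun {f} hf => ⟨⟨_, f, hf, rfl⟩, rfl⟩
  have hdis : ∀ i j : ↥S, i ≠ j → ∀ f ∈ h.block (ε i), ∀ g ∈ h.block (ε j), B f g = 0 := fun i j hij f hf g hg => by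
    refine h.block_B_zero (hε j) (h.mem_block.1 hf).1 (fun hfj => hij (Subtype.ext ?_)) hg
    rw [← hεE i, ← hεE j, comp, comp, ← h.block_eq (hε i) hf, h.block_eq (hε j) hfj]
  have hblk : ∀ {f : U}, f ∈ h.outs → tv f ∈ ⨆ i : ↥S, (i : Subgroup P) := fun {f} hf => by
    obtain ⟨i, hi⟩ := hmem hf
    exact le_iSup (fun i : ↥S => (i : Subgroup P)) i (by rw [hi]; exact h.tv_mem_comp (h.self_block hf))
  have hfix0 : fix ρ (⨆ i : ↥S, (i : Subgroup P)) = ⊥ := (AddSubgroup.eq_bot_iff_forall _).2 fun u hu =>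
    h.eq_zero_outs fun f hf => (h.fixed_iff (h.mem_outs.1 hf).1).1 (hu _ (hblk hf))
  obtain ⟨e₀, he₀⟩ := h.outs_nonempty
  refine ⟨↥S, inferInstance, ⟨{
    E := fun i => i
    mem := {X | ∃ c ∈ C, tv c ∈ (T : Subgroup P) ∧ Subgroup.zpowers (tv c) = X}
    nonempty := ⟨⟨_, e₀, he₀, rfl⟩⟩
    mem_le := ?_, mem_ne := ?_, mem_conj := ?_, mem_perm := ?_, idx := ?_, ker := ?_, quad := ?_, img_indep := ?_
    span := ?_, bound := ?_, gens := ?_, comm := ?_, other := ?_, fix_bot := hfix0, span_top := ?_, sup := ?_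
    trans := ?_, natural := ?_, comp_mem := ?_, join_normal := ?_ }⟩⟩
  · rintro _ ⟨c, -, hcT, rfl⟩; exact Subgroup.zpowers_le.2 hcT
  · rintro _ ⟨c, hc, -, rfl⟩ e'; exact h.tv_ne_one hc (Subgroup.zpowers_eq_bot.1 e')
  · rintro _ ⟨c, hc, hcT, rfl⟩ _ ⟨d, hd, hdT, rfl⟩
    obtain ⟨e, he, rfl⟩ := h.exists_par hc hcT
    obtain ⟨f, hf, rfl⟩ := h.exists_par hd hdT
    obtain ⟨x, hx, rfl⟩ := h.trans_outs he hf
    refine ⟨x, ?_⟩
    rw [h.cm_zpowers hc, h.eq_par (h.outs_inv hx he) (h.C_inv x _ hc) (h.mem_T_conj hc hx hcT) (by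
      rw [h.form_inv]; exact h.B_par he)]
  · rintro t ht _ ⟨c, hc, hcT, rfl⟩
    exact ⟨_, h.C_inv t c hc, h.mem_T_conj hc ht hcT, (h.cm_zpowers hc t).symm⟩
  · rintro _ ⟨c, hc, -, rfl⟩
    rw [h.card_zpowers hc]
    have hk : (B.flip c).ker = fix ρ (Subgroup.zpowers (tv c)) := by
      ext u; rw [h.mem_fix_zpowers hc, AddMonoidHom.mem_ker, AddMonoidHom.flip_apply]
    have hr : (B.flip c).range = ⊤ := eq_top_iff.2 fun a _ => by
      rcases zmod_two_cases a with rfl | rfl
      · exact zero_mem _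
      · obtain ⟨d, -, hd⟩ := h.exists_one hc
        exact ⟨d, by rw [AddMonoidHom.flip_apply, h.symm]; exact hd⟩
    have h1 := (B.flip c).ker.card_mul_index
    rw [AddSubgroup.index_ker, hk, hr, AddSubgroup.card_top, Nat.card_zmod] at h1
    rw [← h1, mul_comm]
  · rintro _ ⟨c, hc, -, rfl⟩ x hx hx1 u hu
    obtain rfl := (h.zpowers_eq hc hx).resolve_left hx1
    exact (h.mem_fix_zpowers hc).2 ((h.fixed_iff hc).1 hu)
  · rintro _ ⟨c, hc, hcT, rfl⟩ _ ⟨d, hd, hdT, rfl⟩
    refine (img_le ρ).2 fun x hx u => (h.mem_fix_zpowers hd).2 ?_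
    rcases h.zpowers_eq hc hx with rfl | rfl
    · rw [RootCommute.act_one, sub_self, map_zero, AddMonoidHom.zero_apply]
    · rcases h.act c hc u with ⟨-, e'⟩ | ⟨-, e'⟩ <;> rw [e']
      · rw [sub_self, map_zero, AddMonoidHom.zero_apply]
      · rw [add_sub_cancel_left]; exact h.comm c hc d hd hcT hdT
  · -- independence
    rintro _ ⟨c, hc, hcT, rfl⟩
    refine (AddSubgroup.eq_bot_iff_forall _).2 fun u hu => ?_
    obtain ⟨hu1, hu2⟩ := AddSubgroup.mem_inf.1 hu
    have himg : ∀ d ∈ C, img ρ (Subgroup.zpowers (tv d)) ≤ AddSubgroup.zmultiples d := fun d hd =>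
      (img_le ρ).2 fun x hx w => by
        rcases h.zpowers_eq hd hx with rfl | rfl
        · rw [RootCommute.act_one, sub_self]; exact zero_mem _
        · rcases h.act d hd w with ⟨-, e'⟩ | ⟨-, e'⟩ <;> rw [e']
          · rw [sub_self]; exact zero_mem _
          · rw [add_sub_cancel_left]; exact AddSubgroup.mem_zmultiples _
    obtain ⟨e, he, rfl⟩ := h.exists_par hc hcT
    obtain ⟨h2, h3, -⟩ := h.twin he
    have hval : ∀ d ∈ C, tv d ∈ (T : Subgroup P) → d ≠ h.par e → B d (h.dual e) = 0 := fun d hd hdT hne => by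
      obtain ⟨f, hf, rfl⟩ := h.exists_par hd hdT
      obtain ⟨g2, g3, -⟩ := h.twin hf
      have e' : h.par f = f + (f + h.par f) := by rw [← add_assoc, h.add_self, zero_add]
      have hfe : f ≠ e := fun e'' => hne (by rw [e''])
      rw [e', map_add, AddMonoidHom.add_apply, h.B_dual he hf, h.B_dual he g2, if_neg hfe,
        if_neg (fun e'' => hne (by rw [← e'', g3])), add_zero]
    have hc1 : B (h.par e) (h.dual e) = 1 := by
      have e' : h.par e = e + (e + h.par e) := by rw [← add_assoc, h.add_self, zero_add]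
      rw [e', map_add, AddMonoidHom.add_apply, h.B_dual he he, h.B_dual he h2, if_pos rfl,
        if_neg (fun e'' => h.ne _ hc (add_eq_left.1 e'')), add_zero]
    obtain ⟨k, rfl⟩ := AddSubgroup.mem_zmultiples_iff.1 (himg _ hc hu1)
    have hle : (⨆ X ∈ {X | X ∈ {X | ∃ d ∈ C, tv d ∈ (T : Subgroup P) ∧ Subgroup.zpowers (tv d) = X} ∧
        X ≠ Subgroup.zpowers (tv (h.par e))}, img ρ X) ≤ (B.flip (h.dual e)).ker := by
      refine iSup₂_le ?_
      rintro _ ⟨⟨d, hd, hdT, rfl⟩, hne⟩
      refine (himg d hd).trans (AddSubgroup.zmultiples_le.2 ?_)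
      exact hval d hd hdT fun e' => hne (by rw [e'])
    have h5 : B (k • h.par e) (h.dual e) = 0 := hle hu2
    rw [map_zsmul, AddMonoidHom.zsmul_apply, hc1, zsmul_one, ZMod.intCast_zmod_eq_zero_iff_dvd] at h5
    obtain ⟨m, rfl⟩ := h5
    show ((2 : ℤ) * m) • h.par e = 0
    rw [← smul_smul, two_zsmul, h.add_self]
  · -- span
    rintro _ ⟨c, hc, hcT, rfl⟩ u hu
    obtain ⟨e, he, rfl⟩ := h.exists_par hc hcT
    obtain ⟨h2, -, -⟩ := h.twin he
    set W := (⨆ X ∈ {X | ∃ d ∈ C, tv d ∈ (T : Subgroup P) ∧ Subgroup.zpowers (tv d) = X}, img ρ X) ⊔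
      AddSubgroup.closure {w | ∃ g ∈ ⨆ i : ↥S, (i : Subgroup P),
        (∀ x ∈ Subgroup.zpowers (tv (h.par e)), g * x = x * g) ∧
        ∃ z ∈ fix ρ (Subgroup.zpowers (tv (h.par e))), w = ρ g z - z}
    have hcW : h.par e ∈ W := by
      refine AddSubgroup.mem_sup_left (AddSubgroup.mem_iSup_of_mem _ (AddSubgroup.mem_iSup_of_mem
        ⟨_, hc, hcT, rfl⟩ ?_))
      have := sub_mem_img ρ (Subgroup.mem_zpowers (tv (h.par e))) e
      rwa [h.act_one _ hc e (h.B_par he), add_sub_cancel_left] at this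
    have hfW : ∀ f ∈ h.outs, h.par f ≠ h.par e → f ∈ W := fun f hf hne => by
      obtain ⟨hfC, -⟩ := h.mem_outs.1 hf
      obtain ⟨hpC, hpT⟩ := h.par_outs hf
      refine AddSubgroup.mem_sup_right (AddSubgroup.subset_closure ⟨tv f, hblk hf, fun x hx => ?_, h.par f,
        (h.mem_fix_zpowers hc).2 (h.comm _ hpC _ hc hpT hcT), ?_⟩)
      · rcases h.zpowers_eq hc hx with rfl | rfl
        · rw [one_mul, mul_one]
        · have := h.conj hc (tv f)
          rw [h.act_zero f hfC _ (by rw [h.symm]; exact h.B_member hf hc hcT (Ne.symm hne))] at this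
          exact mul_inv_eq_iff_eq_mul.1 this
      · rw [h.act_one f hfC _ (by rw [h.symm]; exact h.B_par hf), add_sub_cancel_left]
    have hu0 := (h.mem_fix_zpowers hc).1 hu
    suffices key : ∀ w : U, B w (h.par e) = 0 → B w (h.dual e) = 0 → w ∈ W by
      rcases zmod_two_cases (B u (h.dual e)) with h0 | h0
      · exact key u hu0 h0
      · have := key (u + h.par e) (by rw [map_add, AddMonoidHom.add_apply, hu0, h.self, add_zero]) (by
          rw [map_add, AddMonoidHom.add_apply, h0]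
          have e' : h.par e = e + (e + h.par e) := by rw [← add_assoc, h.add_self, zero_add]
          conv_lhs => rw [e']
          rw [map_add, AddMonoidHom.add_apply, h.B_dual he he, h.B_dual he h2, if_pos rfl,
            if_neg (fun e'' => h.ne _ hc (add_eq_left.1 e''))]
          decide)
        simpa using sub_mem this hcW
    intro w hw0 hwd
    obtain ⟨s, hs, rfl⟩ := h.basis.1 w
    have hes : e ∉ s := fun hh => by
      rw [h.B_dual_sum hs he, if_pos hh] at hwd; exact one_ne_zero hwd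
    have hts : e + h.par e ∉ s := fun hh => by
      rw [map_sum, AddMonoidHom.finsetSum_apply, Finset.sum_eq_single (e + h.par e)] at hw0
      · rw [map_add, AddMonoidHom.add_apply, h.B_par he, h.self, add_zero] at hw0; exact one_ne_zero hw0
      · intro f hf hne
        refine h.B_member (hs hf) hc hcT fun e' => ?_
        rcases h.same_par he (hs hf) e'.symm with rfl | e''
        · exact hes hf
        · exact hne e''
      · exact fun hn => absurd hh hn
    refine sum_mem fun f hf => hfW f (hs hf) fun e' => ?_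
    rcases h.same_par he (hs hf) e' with rfl | rfl
    · exact hes hf
    · exact hts hf
  · -- bound
    intro A hAT hAc hAp
    obtain ⟨h1, h2⟩ := perm_bound h.set_up.inj h.set_up.smul_zero ⟨h.basis.1, h.basis.2⟩ A
      (fun a ha f hf => h.outs_inv (hAT ha) hf) hAc hAp
    refine ⟨h1, fun hge => (h2 hge).trans ((Subgroup.closure_le _).2 ?_)⟩
    rintro a ⟨ha, e, he, f, hf, hne, hae, haf, hrest⟩
    obtain ⟨g2, -, g4⟩ := h.twin he
    have hefB : B e f = 1 := by
      by_cases hfg : f = e + h.par e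
      · rw [hfg]; exact g4
      have hge : e + h.par e ≠ e := fun e' => h.ne _ (h.par_outs he).1 (add_eq_left.1 e')
      have h3 := h.form_inv a e (e + h.par e)
      rw [hae, hrest _ g2 hge (Ne.symm hfg), g4] at h3
      refine (zmod_two_cases _).resolve_left fun h0 => ?_
      refine zero_ne_one (h.block_B_zero he hf (fun hh => ?_) (h.mem_block.2 ⟨g2, Or.inr (by rw [h.symm]; exact g4)⟩) |>.symm.trans h3)
      rcases (h.mem_block.1 hh).2 with e' | e'
      · exact hne e'.symm
      · rw [h.symm, e'] at h0; exact one_ne_zero h0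
    have hfe : f ∈ h.block e := h.mem_block.2 ⟨hf, Or.inr (by rw [h.symm]; exact hefB)⟩
    have hcC : e + f ∈ C := h.add_mem_C (h.mem_outs.1 he).1 (h.mem_outs.1 hf).1 hefB
    have hatv : a = tv (e + f) := act_ext ρ h.set_up.inj fun u => by
      obtain ⟨s, hs, rfl⟩ := h.basis.1 u
      rw [map_sum, map_sum]
      refine Finset.sum_congr rfl fun g hg => ?_
      by_cases hge : g = e
      · subst hge
        rw [hae, h.act_one _ hcC _ (by rw [map_add, h.self, hefB, zero_add]), ← add_assoc, h.add_self, zero_add]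
      by_cases hgf : g = f
      · subst hgf
        rw [haf, h.act_one _ hcC _ (by rw [map_add, h.self, h.symm, hefB, add_zero]), ← add_assoc, add_comm g e,
          add_assoc, h.add_self, add_zero]
      rw [hrest g (hs hg) hge hgf, h.act_zero _ hcC]
      rw [map_add]
      by_cases hgb : g ∈ h.block e
      · rw [h.block_B he hgb (h.self_block he) hge, h.block_B he hgb hfe hgf]; decide
      · rw [h.block_B_zero he (hs hg) hgb (h.self_block he), h.block_B_zero he (hs hg) hgb hfe, add_zero]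
    show a ∈ sSup {X | X ≤ A ∧ X ∈ {X | ∃ c ∈ C, tv c ∈ (T : Subgroup P) ∧ Subgroup.zpowers (tv c) = X}}
    have hle : Subgroup.zpowers a ≤ A := Subgroup.zpowers_le.2 ha
    have hm : Subgroup.zpowers a ∈ {X : Subgroup P | X ≤ A ∧
        X ∈ {X : Subgroup P | ∃ c ∈ C, tv c ∈ (T : Subgroup P) ∧ Subgroup.zpowers (tv c) = X}} :=
      ⟨hle, e + f, hcC, hatv ▸ hAT ha, by rw [hatv]⟩
    exact le_sSup hm (Subgroup.mem_zpowers a)
  · -- generation
    intro i
    refine ⟨(h.block (ε i)).image fun f => Subgroup.zpowers (tv f), fun X hX => ?_, ?_, ?_⟩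
    · obtain ⟨f, hf, rfl⟩ := Finset.mem_image.1 hX
      have hfo := (h.mem_block.1 hf).1
      obtain ⟨hpC, hpT⟩ := h.par_outs hfo
      obtain ⟨g2, -, -⟩ := h.twin hfo
      refine ⟨tv (f + h.par f), _, ⟨_, hpC, hpT, rfl⟩, ?_⟩
      rw [h.cm_zpowers hpC, h.act_one _ (h.mem_outs.1 g2).1 _ (by
        rw [map_add, h.symm, h.B_par hfo, h.self, add_zero]), add_comm f, ← add_assoc, h.add_self, zero_add]
    · refine le_antisymm ?_ (Finset.sup_le fun X hX => ?_)
      · conv_lhs => rw [← hεE i]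
        exact h.comp_le fun f hf => (Finset.le_sup (f := id)
          (Finset.mem_image_of_mem (fun f => Subgroup.zpowers (tv f)) hf)) (Subgroup.mem_zpowers _)
      · obtain ⟨f, hf, rfl⟩ := Finset.mem_image.1 hX
        refine Subgroup.zpowers_le.2 ?_
        rw [← hεE i]; exact h.tv_mem_comp hf
    · rw [Finset.prod_congr rfl fun (X : Subgroup P) hX => (show Nat.card ↥X = 2 by
        obtain ⟨f, hf, rfl⟩ := Finset.mem_image.1 hX; exact h.card_zpowers (h.block_C hf)),
        Finset.prod_const, ← h.card_fix_comp (hε i), hεE i]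
      exact Nat.mul_le_mul_left _ (Nat.pow_le_pow_right (by norm_num) Finset.card_image_le)
  · intro i j hij g hg k hk
    have h1 : (i : Subgroup P) ≤ Subgroup.centralizer (tv '' (h.block (ε j) : Set U)) := by
      rw [← hεE i]
      refine h.comp_le fun f hf => Subgroup.mem_centralizer_iff.2 ?_
      rintro _ ⟨g', hg', rfl⟩
      have := h.conj (h.block_C hg') (tv f)
      rw [h.act_zero f (h.block_C hf) _ (hdis j i (Ne.symm hij) g' hg' f hf)] at this
      exact (mul_inv_eq_iff_eq_mul.1 this).symm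
    have h2 : (j : Subgroup P) ≤ Subgroup.centralizer ({g} : Set P) := by
      rw [← hεE j]
      exact h.comp_le fun f hf => Subgroup.mem_centralizer_singleton_iff.2
        (Subgroup.mem_centralizer_iff.1 (h1 hg) _ ⟨f, hf, rfl⟩)
    exact (Subgroup.mem_centralizer_singleton_iff.1 (h2 hk)).symm
  · intro i j hij
    refine (img_le ρ).2 fun x hx u => ?_
    rw [← hεE j, h.mem_fix_comp]
    intro g hg
    have h1 : AddSubgroup.closure (h.block (ε i) : Set U) ≤ (B.flip g).ker :=
      (AddSubgroup.closure_le _).2 fun a ha => hdis i j hij a ha g hg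
    exact h1 (h.comp_disp (by rw [hεE i]; exact hx) u)
  · refine eq_top_iff.2 fun u _ => ?_
    obtain ⟨s, hs, rfl⟩ := h.basis.1 u
    refine sum_mem fun f hf => ?_
    obtain ⟨i, hi⟩ := hmem (hs hf)
    refine AddSubgroup.mem_iSup_of_mem i ?_
    have := sub_mem_img ρ (hi.symm ▸ h.tv_mem_comp (h.self_block (hs hf)) : tv f ∈ (i : Subgroup P)) (h.par f)
    rwa [h.act_one f (h.mem_outs.1 (hs hf)).1 _ (by rw [h.symm]; exact h.B_par (hs hf)), add_sub_cancel_left] at this
  · by_contra hne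
    exact (h.mem_outs.1 he₀).2 (h.set_up.over_le _ le_sup_right hne (Subgroup.mem_sup_left (hblk he₀)))
  · intro i j
    obtain ⟨x, hx, hxe⟩ := h.trans_outs (hε i) (hε j)
    refine ⟨x, hx, ?_⟩
    rw [← hεE i, h.comp_conj hx (hε i), hxe, hεE j]
  · intro i
    show IsNaturalComponent 2 ρ (i : Subgroup P)
    rw [← hεE i]
    exact h.natural_comp (hε i)
  · rintro _ ⟨c, hc, hcT, rfl⟩
    refine Subgroup.zpowers_le.2 ?_
    obtain ⟨e, he, rfl⟩ := h.exists_par hc hcT
    obtain ⟨h2, -, h4⟩ := h.twin he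
    have h5 := mul_mem (mul_mem (hblk h2) (hblk he)) (inv_mem (hblk h2))
    rwa [h.conj (h.mem_outs.1 he).1, h.act_one _ (h.mem_outs.1 h2).1 _ h4, ← add_assoc, h.add_self, zero_add] at h5
  · have hsup : (⨆ i : ↥S, (i : Subgroup P)) ⊔ (T : Subgroup P) = ⊤ := by
      by_contra hne
      exact (h.mem_outs.1 he₀).2 (h.set_up.over_le _ le_sup_right hne (Subgroup.mem_sup_left (hblk he₀)))
    refine Subgroup.normalizer_eq_top_iff.1 (eq_top_iff.2 (hsup.ge.trans
      (sup_le Subgroup.le_normalizer fun t ht => ZJFailure.mem_normalizer_of_forall fun x hx => ?_)))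
    have h1 : (⨆ i : ↥S, (i : Subgroup P)) ≤ (⨆ i : ↥S, (i : Subgroup P)).comap (MulAut.conj t).toMonoidHom :=
      iSup_le fun i y hy => by
        obtain ⟨j, hj⟩ := hmem (h.outs_inv ht (hε i))
        refine le_iSup (fun i : ↥S => (i : Subgroup P)) j ?_
        show (MulAut.conj t).toMonoidHom y ∈ (j : Subgroup P)
        rw [hj, ← h.comp_conj ht (hε i), hεE i]
        exact ⟨y, hy, rfl⟩
    exact h1 hx

end Tv

end CfsgLib.RootTwo
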