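import Cfsg.Agent.Lib.RootTwo.Blocks
import Cfsg.Agent.Lib.RootTwo.Sep
import Cfsg.Agent.Lib.RootTwo.SplitTwo
import Cfsg.Agent.Lib.RootBlocks.SplitOfBlocks
import Cfsg.Agent.Lib.RootBlocks.LiftDefs

/-!
For the prime two every irreducible situation with an offender splits.
-/

set_option autoImplicit false
set_option linter.unusedSectionVars false

namespace CfsgLib.RootTwo

open CfsgLib CfsgLib.RootCommute CfsgLib.StrongFusion
open CfsgLib.RootBlocks (HasSplit Irr Split)

universe u v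

/-- **Splitting for the prime two.** -/
theorem hasSplit : HasSplit.{u, v} 2 := by
  intro P _ _ U _ _ ρ T M h hoff
  obtain ⟨A, -, hc, hp, hne, hbig⟩ := hoff
  have hs : Setting ρ T M :=
    ⟨h.base.inj, h.base.smul_zero, h.no_fixed, h.full, h.base.le_M, h.base.M_ne, h.base.over_le, h.base.no_core⟩
  obtain ⟨cl, C, F, iF, iF', hcls⟩ := exists_cls (S := fun _ => True) ⟨fun _ _ _ => trivial, fun _ _ _ _ => trivial⟩ hs
    ⟨A, ⟨hne, hc, hp, hbig⟩, trivial⟩
  obtain ⟨X, hr⟩ := hcls.exists_roots hcls.anchorComm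
  by_cases hq : 2 < Fintype.card F
  · obtain ⟨ι, hι, b, -, -⟩ := hr.exists_blocks hq
    exact ⟨ι, hι, b.exists_split⟩
  · obtain ⟨C', tv, B, htv⟩ := hr.exists_tv (le_antisymm (not_lt.1 hq) Fintype.one_lt_card)
    exact htv.exists_split

end CfsgLib.RootTwo
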