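import Cfsg.Agent.Lib.RootCommute.Pair
import Mathlib.LinearAlgebra.Matrix.SpecialLinearGroup

/-!
A rank-one chart in characteristic two: two opposite subgroups, a decomposition of the space into two
field-parametrised halves and the vectors fixed by both, and a torus element scaling the halves.
The displacements may have a part in the fixed vectors.
-/

set_option autoImplicit false
set_option linter.unusedSectionVars false
set_option linter.unusedVariables false
set_option linter.style.haveILetI false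

namespace CfsgLib.RootTwo

open CfsgLib CfsgLib.RootCommute CfsgLib.StrongFusion
open CfsgLib.SL2Pair (fix)

universe u v

variable {P : Type u} [Group P] [Finite P] {U : Type v} [AddCommGroup U] [Finite U] {ρ : P →* AddMonoid.End U}

variable (ρ) in
/-- The standing hypotheses. -/
structure Setting (T : Sylow 2 P) (M : Subgroup P) : Prop where
  inj : Function.Injective ρ
  smul_zero : ∀ x : U, 2 • x = 0
  no_fixed : ∀ x : U, (∀ g, ρ g x = x) → x = 0
  full : ∀ W : AddSubgroup U, (∀ g x, ρ g x - x ∈ W) → W = ⊤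
  le_M : (T : Subgroup P) ≤ M
  M_ne : M ≠ ⊤
  over_le : ∀ H : Subgroup P, (T : Subgroup P) ≤ H → H ≠ ⊤ → H ≤ M
  no_core : ∀ N : Subgroup P, N.Normal → IsPGroup 2 N → N = ⊥

section Two

variable (hU : ∀ x : U, 2 • x = 0)
include hU

theorem add_self (x : U) : x + x = 0 := by rw [← two_nsmul]; exact hU x

theorem neg_self (x : U) : -x = x := neg_eq_of_add_eq_zero_left (add_self hU x)

theorem sub_eq_add' (x y : U) : x - y = x + y := by rw [sub_eq_add_neg, neg_self hU]

end Two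

variable {F : Type} [Field F] [Fintype F]

variable (ρ) in
/-- A chart over `A` and `R`. -/
structure Chart (M A R : Subgroup P) (F : Type) [Field F] [Fintype F] where
  ex : F →+ U
  ey : F →+ U
  av : F → P
  rv : F → P
  h : P
  lam : F
  av_mem : ∀ t, av t ∈ A
  av_surj : ∀ a ∈ A, ∃ t, av t = a
  av_add : ∀ s t, av (s + t) = av s * av t
  rv_mem : ∀ t, rv t ∈ R
  rv_surj : ∀ r ∈ R, ∃ t, rv t = r
  rv_add : ∀ s t, rv (s + t) = rv s * rv t
  dec : ∀ u, ∃ x y, u - ex x - ey y ∈ fix ρ (A ⊔ R)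
  indep : ∀ x y, ex x + ey y ∈ fix ρ (A ⊔ R) → x = 0 ∧ y = 0
  a_ex : ∀ t x, ρ (av t) (ex x) = ex x
  a_ey : ∀ t y, ρ (av t) (ey y) - ey y - ex (t * y) ∈ fix ρ (A ⊔ R)
  r_ey : ∀ t y, ρ (rv t) (ey y) = ey y
  r_ex : ∀ t x, ρ (rv t) (ex x) - ex x - ey (t * x) ∈ fix ρ (A ⊔ R)
  h_mem : h ∈ A ⊔ R
  h_ex : ∀ x, ρ h (ex x) = ex (lam * x)
  h_ey : ∀ y, ρ h (ey y) = ey (lam⁻¹ * y)
  h_av : ∀ t, h * av t * h⁻¹ = av (lam ^ 2 * t)
  h_rv : ∀ t, h * rv t * h⁻¹ = rv (lam⁻¹ ^ 2 * t)
  swap : ∀ t, av 1 * rv 1 * av 1 * av t = rv t * (av 1 * rv 1 * av 1)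
  lam_ne : lam ≠ 0
  lam_gen : ∀ x : F, x ≠ 0 → ∃ k : ℕ, x = lam ^ k
  char_two : (2 : F) = 0
  not_le : ¬ R ≤ M
  le_M : A ≤ M
  gen : ∀ g ∈ A ⊔ R, g ∉ M → A ⊔ cm g A = A ⊔ R
  natural : Nonempty (↥(A ⊔ R : Subgroup P) ≃* Matrix.SpecialLinearGroup (Fin 2) F)

namespace Chart

variable {M A R : Subgroup P} (c : Chart ρ M A R F)
include c

theorem av_zero : c.av 0 = 1 := left_eq_mul.1 (show c.av 0 = c.av 0 * c.av 0 by rw [← c.av_add, add_zero])

theorem rv_zero : c.rv 0 = 1 := left_eq_mul.1 (show c.rv 0 = c.rv 0 * c.rv 0 by rw [← c.rv_add, add_zero])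

theorem av_comm (s t : F) : c.av s * c.av t = c.av t * c.av s := by rw [← c.av_add, add_comm, c.av_add]

theorem comm {a b : P} (ha : a ∈ A) (hb : b ∈ A) : a * b = b * a := by
  obtain ⟨s, rfl⟩ := c.av_surj a ha
  obtain ⟨t, rfl⟩ := c.av_surj b hb
  exact c.av_comm s t

theorem h_memM : c.h ∈ M := by
  by_contra hn
  refine c.not_le ((le_sup_right.trans (c.gen c.h c.h_mem hn).ge).trans (sup_le c.le_M ?_))
  rintro _ ⟨a, ha, rfl⟩
  obtain ⟨t, rfl⟩ := c.av_surj a ha
  show c.h * c.av t * c.h⁻¹ ∈ M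
  rw [c.h_av]; exact c.le_M (c.av_mem _)

theorem fix_sup {v : U} (hv : v ∈ fix ρ (A ⊔ R)) {g : P} (hg : g ∈ A ⊔ R) : ρ g v = v := hv g hg

theorem a_fix (t : F) {v : U} (hv : v ∈ fix ρ (A ⊔ R)) : ρ (c.av t) v = v :=
  hv _ (Subgroup.mem_sup_left (c.av_mem t))

theorem r_fix (t : F) {v : U} (hv : v ∈ fix ρ (A ⊔ R)) : ρ (c.rv t) v = v :=
  hv _ (Subgroup.mem_sup_right (c.rv_mem t))

theorem h_fix {v : U} (hv : v ∈ fix ρ (A ⊔ R)) : ρ c.h v = v := hv _ c.h_mem

/-- The first coordinate. -/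
noncomputable def cx : U →+ F :=
  AddMonoidHom.mk' (fun u => (c.dec u).choose) fun u w => by
    have h1 := (c.dec u).choose_spec.choose_spec
    have h2 := (c.dec w).choose_spec.choose_spec
    have h3 := (c.dec (u + w)).choose_spec.choose_spec
    have h4 := sub_mem (add_mem h1 h2) h3
    refine (sub_eq_zero.1 (c.indep ((c.dec (u + w)).choose - ((c.dec u).choose + (c.dec w).choose))
      ((c.dec (u + w)).choose_spec.choose - ((c.dec u).choose_spec.choose + (c.dec w).choose_spec.choose)) ?_).1)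
    convert h4 using 1
    simp only [map_add, map_sub]
    abel

/-- The second coordinate. -/
noncomputable def cy : U →+ F :=
  AddMonoidHom.mk' (fun u => (c.dec u).choose_spec.choose) fun u w => by
    have h1 := (c.dec u).choose_spec.choose_spec
    have h2 := (c.dec w).choose_spec.choose_spec
    have h3 := (c.dec (u + w)).choose_spec.choose_spec
    have h4 := sub_mem (add_mem h1 h2) h3
    refine (sub_eq_zero.1 (c.indep ((c.dec (u + w)).choose - ((c.dec u).choose + (c.dec w).choose))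
      ((c.dec (u + w)).choose_spec.choose - ((c.dec u).choose_spec.choose + (c.dec w).choose_spec.choose)) ?_).2)
    convert h4 using 1
    simp only [map_add, map_sub]
    abel

/-- The part fixed by both subgroups. -/
theorem rest_mem (u : U) : u - c.ex (c.cx u) - c.ey (c.cy u) ∈ fix ρ (A ⊔ R) :=
  (c.dec u).choose_spec.choose_spec

theorem coords_eq {u : U} {x y : F} (hv : u - c.ex x - c.ey y ∈ fix ρ (A ⊔ R)) : c.cx u = x ∧ c.cy u = y := by
  have h := sub_mem hv (c.rest_mem u)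
  obtain ⟨h1, h2⟩ := c.indep (c.cx u - x) (c.cy u - y) (by
    convert h using 1
    simp only [map_sub]
    abel)
  exact ⟨sub_eq_zero.1 h1, sub_eq_zero.1 h2⟩

theorem coords_of_fix {v : U} (hv : v ∈ fix ρ (A ⊔ R)) : c.cx v = 0 ∧ c.cy v = 0 :=
  c.coords_eq (by simpa using hv)

theorem cx_ex (x : F) : c.cx (c.ex x) = x := (c.coords_eq (u := c.ex x) (x := x) (y := 0) (by simp)).1

theorem cy_ex (x : F) : c.cy (c.ex x) = 0 := (c.coords_eq (u := c.ex x) (x := x) (y := 0) (by simp)).2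

theorem cx_ey (y : F) : c.cx (c.ey y) = 0 := (c.coords_eq (u := c.ey y) (x := 0) (y := y) (by simp)).1

theorem cy_ey (y : F) : c.cy (c.ey y) = y := (c.coords_eq (u := c.ey y) (x := 0) (y := y) (by simp)).2

theorem mem_fix_sup_iff {u : U} : u ∈ fix ρ (A ⊔ R) ↔ c.cx u = 0 ∧ c.cy u = 0 :=
  ⟨c.coords_of_fix, fun ⟨h1, h2⟩ => by simpa [h1, h2] using c.rest_mem u⟩

/-- The part of a displacement of `ey` in the fixed vectors. -/
noncomputable def bet (t y : F) : U := ρ (c.av t) (c.ey y) - c.ey y - c.ex (t * y)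

theorem bet_mem (t y : F) : c.bet t y ∈ fix ρ (A ⊔ R) := c.a_ey t y

theorem a_act (t : F) (u : U) : ρ (c.av t) u = u + c.ex (t * c.cy u) + c.bet t (c.cy u) := by
  have h := c.a_fix t (c.rest_mem u)
  rw [map_sub, map_sub, c.a_ex] at h
  have e : ρ (c.av t) u = u - c.ex (c.cx u) - c.ey (c.cy u) + c.ex (c.cx u) + ρ (c.av t) (c.ey (c.cy u)) := by
    rw [← h]; abel
  rw [e, bet]; abel

theorem r_act (t : F) (u : U) :
    ρ (c.rv t) u = u + c.ey (t * c.cx u) + (ρ (c.rv t) (c.ex (c.cx u)) - c.ex (c.cx u) - c.ey (t * c.cx u)) := by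
  have h := c.r_fix t (c.rest_mem u)
  rw [map_sub, map_sub, c.r_ey] at h
  have e : ρ (c.rv t) u = u - c.ex (c.cx u) - c.ey (c.cy u) + ρ (c.rv t) (c.ex (c.cx u)) + c.ey (c.cy u) := by
    rw [← h]; abel
  rw [e]; abel

theorem cy_a (t : F) (u : U) : c.cy (ρ (c.av t) u) = c.cy u := by
  rw [c.a_act, map_add, map_add, c.cy_ex, (c.coords_of_fix (c.bet_mem _ _)).2, add_zero, add_zero]

theorem cx_a (t : F) (u : U) : c.cx (ρ (c.av t) u) = c.cx u + t * c.cy u := by
  rw [c.a_act, map_add, map_add, c.cx_ex, (c.coords_of_fix (c.bet_mem _ _)).1, add_zero]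

theorem cx_r (t : F) (u : U) : c.cx (ρ (c.rv t) u) = c.cx u := by
  rw [c.r_act, map_add, map_add, c.cx_ey, (c.coords_of_fix (c.r_ex _ _)).1, add_zero, add_zero]

theorem cy_r (t : F) (u : U) : c.cy (ρ (c.rv t) u) = c.cy u + t * c.cx u := by
  rw [c.r_act, map_add, map_add, c.cy_ey, (c.coords_of_fix (c.r_ex _ _)).2, add_zero]

theorem fix_of_cy {u : U} (hu : c.cy u = 0) : u ∈ fix ρ A := fun a ha => by
  obtain ⟨t, rfl⟩ := c.av_surj a ha
  rw [c.a_act, hu, mul_zero, map_zero, add_zero, bet, map_zero, map_zero, mul_zero, map_zero]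
  simp

theorem cy_of_fix {t : F} (ht : t ≠ 0) {u : U} (hu : ρ (c.av t) u = u) : c.cy u = 0 := by
  have h := c.cx_a t u
  rw [hu, left_eq_add, mul_eq_zero] at h
  exact h.resolve_left ht

theorem mem_fix_iff {u : U} : u ∈ fix ρ A ↔ c.cy u = 0 :=
  ⟨fun h => c.cy_of_fix one_ne_zero (h _ (c.av_mem 1)), c.fix_of_cy⟩

/-- A nontrivial element fixes only what the whole subgroup fixes. -/
theorem ker {a : P} (ha : a ∈ A) (ha1 : a ≠ 1) {u : U} (hu : ρ a u = u) : u ∈ fix ρ A := by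
  obtain ⟨t, rfl⟩ := c.av_surj a ha
  exact c.fix_of_cy (c.cy_of_fix (fun e => ha1 (by rw [e, c.av_zero])) hu)

theorem img_le_fix : img ρ A ≤ fix ρ A := (img_le ρ).2 fun a ha u => by
  obtain ⟨t, rfl⟩ := c.av_surj a ha
  refine c.fix_of_cy ?_
  rw [map_sub, c.cy_a, sub_self]

theorem av_injective : Function.Injective c.av := fun s t e => by
  have h := congrArg (fun g => c.cx (ρ g (c.ey 1))) e
  simp only [c.cx_a, c.cy_ey, mul_one] at h
  exact add_left_cancel h

theorem card_eq : Nat.card A = Fintype.card F := by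
  rw [← Nat.card_eq_fintype_card]
  refine (Nat.card_eq_of_bijective (fun t => (⟨c.av t, c.av_mem t⟩ : A)) ⟨fun s t e => c.av_injective
    (congrArg Subtype.val e), fun a => (c.av_surj a a.2).imp fun t ht => Subtype.ext ht⟩).symm

theorem idx : Nat.card U = Fintype.card F * Nat.card (fix ρ A) := by
  have hk : c.cy.ker = fix ρ A := by
    ext u; rw [AddMonoidHom.mem_ker, c.mem_fix_iff]
  have hs : c.cy.range = ⊤ := eq_top_iff.2 fun y _ => ⟨c.ey y, c.cy_ey y⟩
  have h := c.cy.ker.card_mul_index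
  rw [AddSubgroup.index_ker, hk, hs, AddSubgroup.card_top] at h
  rw [← h, ← Nat.card_eq_fintype_card (α := F), mul_comm]

/-- Every vector is carried by the join into `fix A`. -/
theorem exists_move (u : U) : ∃ g ∈ A ⊔ R, c.cy (ρ g u) = 0 := by
  by_cases hx : c.cx u = 0
  · by_cases hy : c.cy u = 0
    · exact ⟨1, one_mem _, by rw [act_one]; exact hy⟩
    refine ⟨c.rv (-c.cy u * (c.cy u)⁻¹) * c.av 1, mul_mem (Subgroup.mem_sup_right (c.rv_mem _))
      (Subgroup.mem_sup_left (c.av_mem _)), ?_⟩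
    rw [act_mul, c.cy_r, c.cy_a, c.cx_a, hx, zero_add, one_mul, mul_assoc, inv_mul_cancel₀ hy, mul_one,
      add_neg_cancel]
  · refine ⟨c.rv (-c.cy u * (c.cx u)⁻¹), Subgroup.mem_sup_right (c.rv_mem _), ?_⟩
    rw [c.cy_r, mul_assoc, inv_mul_cancel₀ hx, mul_one, add_neg_cancel]

end Chart

end CfsgLib.RootTwo
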