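import Cfsg.Agent.Lib.RootCommute.Natural
import Cfsg.Agent.Lib.RootTwo.Chart

/-!
The natural module of a pair in characteristic two, in coordinates, and the chart it gives.
-/

set_option autoImplicit false
set_option linter.unusedSectionVars false
set_option linter.unusedVariables false
set_option linter.style.haveILetI false
set_option maxHeartbeats 1000000

namespace CfsgLib.RootTwo

open Cfsg CfsgLib CfsgLib.RootCommute
open Cfsg.Agent
open CfsgLib.SL2Pair (fix)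
open CfsgLib.StrongFusion (cm)

universe u v

variable {Γ : Type u} [Group Γ] [Finite Γ] {U : Type v} [AddCommGroup U] [Finite U] {σ : Γ →* AddMonoid.End U}
  {p : ℕ} [hp : Fact p.Prime]

/-- A pair in coordinates. -/
theorem exists_coords (hσ : Function.Injective σ) (hU : ∀ x : U, p • x = 0) (T₀ : Sylow p Γ)
    {M₀ : Subgroup Γ} (hM₀ : M₀ ≠ ⊤) (hT₀ : (T₀ : Subgroup Γ) ≤ M₀) {A : Subgroup Γ}
    (hA : A ≤ (T₀ : Subgroup Γ)) (hne : A ≠ ⊥) (hcomm : ∀ a ∈ A, ∀ b ∈ A, a * b = b * a)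
    (hpow : ∀ a ∈ A, a ^ p = 1) (hoff : Nat.card U ≤ mu σ A)
    (hmin : ∀ E : Subgroup Γ, E ≤ A → E ≠ ⊥ → E ≠ A → mu σ E < mu σ A)
    (hgen : ∀ x, x ∉ M₀ → A ⊔ cm x A = ⊤) (hmove : ∃ w ∈ fix σ (T₀ : Subgroup Γ), ∃ g, σ g w ≠ w) :
    (∀ a ∈ A, ∀ x, σ a x - x ∈ fix σ A) ∧ ∃ (F : Type) (_ : Field F) (_ : Fintype F)
      (π : U →+ (Fin 2 → F)) (m : Γ → (Fin 2 → F) →ₗ[F] (Fin 2 → F)),
      Fintype.card F = Nat.card A ∧ Nonempty (Γ ≃* Matrix.SpecialLinearGroup (Fin 2) F) ∧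
      Function.Surjective π ∧ (∀ x, π x = 0 ↔ x ∈ fix σ (⊤ : Subgroup Γ)) ∧
      (∀ g x, π (σ g x) = m g (π x)) ∧ (∀ {g}, m g = 1 → g = 1) ∧
      ∀ d : Fin 2 → F, d ≠ 0 → ∃ g, m g d ≠ d := by
  classical
  have hAM : A ≤ M₀ := hA.trans hT₀
  obtain ⟨x₀, hx₀⟩ : ∃ x, x ∉ M₀ := by
    by_contra h; push Not at h; exact hM₀ (eq_top_iff.2 fun x _ => h x)
  haveI : Finite (Model σ) := Finite.of_equiv _ SemidirectProduct.equivProd.symm
  set V := vecs σ with hV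
  set Q := (grp σ).range with hQ
  let e : Γ ≃* ↥Q := MonoidHom.ofInjective (grp_injective σ)
  have he : ∀ g : Γ, ((e g : ↥Q) : Model σ) = grp σ g := fun g => rfl
  have hQV : Q ≤ Subgroup.normalizer (V : Set (Model σ)) := by
    rintro _ ⟨g, rfl⟩
    refine Local.mem_normalizer_of_map_conj_eq (Subgroup.eq_of_le_of_card_ge (Local.map_conj_le fun v hv => ?_)
      (Subgroup.card_map_of_injective (MulAut.conj (grp σ g)).injective).ge)
    obtain ⟨x, rfl⟩ := (mem_vecs σ).1 hv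
    exact (mem_vecs σ).2 ⟨_, (vec_act σ g x).symm⟩
  have hVel : IsElementaryAbelian p V := by
    refine ⟨⟨⟨fun v w => ?_⟩⟩, fun v hv => ?_⟩
    · obtain ⟨x, hx⟩ := (mem_vecs σ).1 v.2
      obtain ⟨y, hy⟩ := (mem_vecs σ).1 w.2
      exact Subtype.ext (by show (v : Model σ) * w = w * v; rw [← hx, ← hy, ← vec_add, ← vec_add, add_comm])
    · obtain ⟨x, rfl⟩ := (mem_vecs σ).1 hv
      show (SemidirectProduct.inl (Multiplicative.ofAdd x) : Model σ) ^ p = 1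
      rw [← map_pow, ← ofAdd_nsmul, hU, ofAdd_zero, map_one]
  have hfaith : Q ⊓ Subgroup.centralizer (V : Set (Model σ)) = ⊥ := by
    refine eq_bot_iff.2 ?_
    rintro _ ⟨⟨g, rfl⟩, hc⟩
    rw [Subgroup.mem_bot, act_ext σ hσ (h := 1) (g := g) fun x => by
      rw [act_one]
      exact (vec_commute_iff σ g x).1 (hc _ ((mem_vecs σ).2 ⟨x, rfl⟩)).symm, map_one]
  -- the group is p-minimal
  have hover : ∀ H : Subgroup Γ, (T₀ : Subgroup Γ) ≤ H → H ≠ ⊤ → H ≤ M₀ := fun H hH hne' x hx => by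
    by_contra hxM
    refine hne' (eq_top_iff.2 ((hgen x hxM).ge.trans (sup_le (hA.trans hH) (Local.map_conj_le fun a ha => ?_))))
    exact H.mul_mem (H.mul_mem hx ((hA.trans hH) ha)) (H.inv_mem hx)
  have hcoM : IsCoatom M₀ := ⟨hM₀, fun H hlt => by
    by_contra hne'
    exact hlt.not_ge (hover H (hT₀.trans hlt.le) hne')⟩
  have hnn : ¬ (T₀ : Subgroup Γ).Normal := fun hn => hx₀ (hT₀ (((hgen x₀ hx₀).ge.trans
    (sup_le hA (Local.map_conj_le fun a ha => hn.conj_mem a (hA ha) x₀))) (Subgroup.mem_top x₀)))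
  let T' : Sylow p ↥Q := T₀.mapSurjective (f := e.toMonoidHom) e.surjective
  set M' := M₀.map e.toMonoidHom with hM'
  have hcoM' : IsCoatom M' := (OrderIso.isCoatom_iff (MulEquiv.mapSubgroup e) M₀).2 hcoM
  have hpm : IsPMinimal p ↥Q := by
    intro S
    obtain ⟨g, rfl⟩ := MulAction.exists_smul_eq ↥Q T' S
    have h0 : ¬ (T₀ : Subgroup Γ).Normal ∧ ∃! M : Subgroup Γ, IsCoatom M ∧ (T₀ : Subgroup Γ) ≤ M :=
      ⟨hnn, M₀, ⟨hcoM, hT₀⟩, fun K hK => ((hK.1.le_iff).1 (hover K hK.2 hK.1.1)).resolve_left hM₀ |>.symm⟩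
    have h1 := S2906.pmin_prop_map (MulAut.conj g) _ (S2906.pmin_prop_map e _ h0)
    rw [Sylow.coe_subgroup_smul]
    exact h1
  have hmapT : (T' : Subgroup ↥Q).map Q.subtype = (T₀ : Subgroup Γ).map (grp σ) := by
    show ((T₀ : Subgroup Γ).map e.toMonoidHom).map Q.subtype = _
    rw [Subgroup.map_map]; rfl
  set A' := A.map (grp σ) with hA'
  have hA'el : IsElementaryAbelian p A' := by
    refine ⟨⟨⟨fun a b => ?_⟩⟩, ?_⟩
    · obtain ⟨a₀, ha₀, ea⟩ := a.2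
      obtain ⟨b₀, hb₀, eb⟩ := b.2
      exact Subtype.ext (by show (a : Model σ) * b = b * a; rw [← ea, ← eb, ← map_mul, ← map_mul, hcomm a₀ ha₀ b₀ hb₀])
    · rintro _ ⟨a, ha, rfl⟩
      rw [← map_pow, hpow a ha, map_one]
  have hA'T : A' ≤ (T' : Subgroup ↥Q).map Q.subtype := hmapT ▸ Subgroup.map_mono hA
  have hbig : Nat.card V ≤ Nat.card A' * Nat.card ↥(V ⊓ Subgroup.centralizer (A' : Set (Model σ))) := by
    rw [card_vecs, card_map_grp, card_fixed]; exact hoff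
  have hstrict : ∀ E₀ : Subgroup (Model σ), E₀ ≤ A' → E₀ ≠ ⊥ → E₀ ≠ A' →
      Nat.card E₀ * Nat.card ↥(V ⊓ Subgroup.centralizer (E₀ : Set (Model σ))) <
        Nat.card A' * Nat.card ↥(V ⊓ Subgroup.centralizer (A' : Set (Model σ))) := by
    intro E₀ hE h1 h2
    have hE' : E₀ = (E₀.comap (grp σ)).map (grp σ) :=
      (Subgroup.map_comap_eq_self (hE.trans (Subgroup.map_le_range _ A))).symm
    rw [hE', card_map_grp, card_fixed, card_map_grp, card_fixed]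
    refine hmin _ (fun x hx => ?_) (fun h => h1 (by rw [hE', h, Subgroup.map_bot]))
      (fun h => h2 (by rw [hE', h]))
    obtain ⟨a, ha, ea⟩ := hE hx
    exact grp_injective σ ea ▸ ha
  have hquad : ∀ a ∈ A, ∀ x, σ a x - x ∈ fix σ A := fun a ha x b hb => by
    have h := SL2Pair.quad_of_strict (W := V) (B := A')
      ⟨(T₀.2.to_le hA).map _, fun s hs t ht => congrArg Subtype.val (hA'el.1.is_comm.comm ⟨s, hs⟩ ⟨t, ht⟩),
        (hA'T.trans (Subgroup.map_subtype_le _)).trans hQV,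
        fun s hs t ht => congrArg Subtype.val (hVel.1.is_comm.comm ⟨s, hs⟩ ⟨t, ht⟩),
        fun s => ⟨1, Subtype.ext (by simpa using hVel.2 s s.2)⟩, hbig, hstrict⟩
      ((mem_vecs σ).2 ⟨x, rfl⟩) (b := grp σ a) ⟨a, ha, rfl⟩ (c := grp σ b) ⟨b, hb, rfl⟩
    rw [vec_disp, vec_act] at h
    exact vec_injective σ h
  have hii : ⁅(V ⊓ Subgroup.centralizer (((T' : Subgroup ↥Q).map Q.subtype : Subgroup (Model σ)) : Set (Model σ))), Q⁆ ≠ ⊥ := by
    rw [hmapT]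
    intro h0
    obtain ⟨w, hw, g, hg⟩ := hmove
    refine hg ((vec_commute_iff σ g w).1 ?_)
    exact Subgroup.commutator_eq_bot_iff_le_centralizer.1 h0 ((mem_fixed_iff σ).2 ⟨w, hw, rfl⟩) _ ⟨g, rfl⟩
  have hiii : ∀ x : ↥Q, x ∉ M' → A' ⊔ A'.map (MulAut.conj (x : Model σ)).toMonoidHom = Q := by
    intro x hx
    obtain ⟨g, rfl⟩ := e.surjective x
    have hg : g ∉ M₀ := fun h => hx ⟨g, h, rfl⟩
    have hh : (MulAut.conj (grp σ g)).toMonoidHom.comp (grp σ) = (grp σ).comp (MulAut.conj g).toMonoidHom := by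
      ext y <;> simp [MulAut.conj_apply]
    rw [he, hA', Subgroup.map_map, hh, ← Subgroup.map_map, ← Subgroup.map_sup]
    show (A ⊔ cm g A).map (grp σ) = Q
    rw [hgen g hg, hQ, MonoidHom.range_eq_map]
  obtain ⟨F, iF, iF', hFc, ⟨eF⟩, -, -, -, r, ψ, hr, hψs, hψk, hψa⟩ :=
    S2999.result V Q hVel hQV hfaith hpm T' M' hcoM' (Subgroup.map_mono hT₀) A' hA'T hA'el ⟨hbig, hstrict⟩ hii hiii
  have hrs : Function.Surjective r := MonoidHom.range_eq_top.1 hr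
  have hri : Function.Injective r :=
    ((Nat.bijective_iff_surjective_and_card r).2 ⟨hrs, Nat.card_congr eF.toEquiv⟩).1
  -- coordinates
  let π : U →+ (Fin 2 → F) := AddMonoidHom.mk' (fun x => Multiplicative.toAdd (ψ ⟨vec σ x, (mem_vecs σ).2 ⟨x, rfl⟩⟩))
    fun x y => by
      rw [show (⟨vec σ (x + y), (mem_vecs σ).2 ⟨x + y, rfl⟩⟩ : ↥V) =
        ⟨vec σ x, (mem_vecs σ).2 ⟨x, rfl⟩⟩ * ⟨vec σ y, (mem_vecs σ).2 ⟨y, rfl⟩⟩ from Subtype.ext (vec_add σ x y),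
        map_mul, toAdd_mul]
  have hπk : ∀ x, π x = 0 ↔ x ∈ fix σ (⊤ : Subgroup Γ) := fun x => by
    rw [show π x = 0 ↔ ψ ⟨vec σ x, (mem_vecs σ).2 ⟨x, rfl⟩⟩ = 1 from toAdd_eq_zero, hψk]
    show vec σ x ∈ V ⊓ Subgroup.centralizer (Q : Set (Model σ)) ↔ _
    rw [hQ, MonoidHom.range_eq_map, hV, mem_fixed_iff]
    exact ⟨fun ⟨y, hy, e⟩ => vec_injective σ e ▸ hy, fun h => ⟨x, h, rfl⟩⟩
  have hπs : Function.Surjective π := fun c => by
    obtain ⟨⟨v, hv⟩, hc⟩ := hψs (Multiplicative.ofAdd c)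
    obtain ⟨x, rfl⟩ := (mem_vecs σ).1 hv
    exact ⟨x, congrArg Multiplicative.toAdd hc⟩
  let m : Γ → (Fin 2 → F) →ₗ[F] (Fin 2 → F) := fun g => Matrix.mulVecLin (r (e g)).1
  have hπm : ∀ g x, π (σ g x) = m g (π x) := fun g x => by
    obtain ⟨w, hw, h⟩ := hψa (e g) ⟨vec σ x, (mem_vecs σ).2 ⟨x, rfl⟩⟩
    have hwe : w = ⟨vec σ (σ g x), (mem_vecs σ).2 ⟨σ g x, rfl⟩⟩ := Subtype.ext (hw.trans (vec_act σ g x))
    rw [hwe] at h
    exact h
  have hm1 : ∀ {g}, m g = 1 → g = 1 := fun {g} h => by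
    refine e.injective (hri (Subtype.ext ?_))
    rw [map_one, map_one, Matrix.SpecialLinearGroup.coe_one]
    exact Matrix.ext_of_mulVec_single fun i => by
      rw [Matrix.one_mulVec]; exact LinearMap.congr_fun h _
  refine ⟨hquad, F, iF, iF', π, m, hFc.trans (card_map_grp σ A), ⟨e.trans eF⟩, hπs, hπk, hπm, hm1, fun d hd => ?_⟩
  by_cases h0 : d 0 = 0
  · have h1 : d 1 ≠ 0 := fun h1 => hd (funext fun i => by fin_cases i <;> assumption)
    obtain ⟨g, hg⟩ := hrs ⟨!![1, 1; 0, 1], by simp [Matrix.det_fin_two]⟩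
    refine ⟨e.symm g, fun h => h1 ?_⟩
    have h' : (r (e (e.symm g))).1.mulVec d = d := h
    rw [e.apply_symm_apply, hg] at h'
    simpa [Matrix.mulVec, dotProduct, Fin.sum_univ_two] using congrFun h' 0
  · obtain ⟨g, hg⟩ := hrs ⟨!![1, 0; 1, 1], by simp [Matrix.det_fin_two]⟩
    refine ⟨e.symm g, fun h => h0 ?_⟩
    have h' : (r (e (e.symm g))).1.mulVec d = d := h
    rw [e.apply_symm_apply, hg] at h'
    simpa [Matrix.mulVec, dotProduct, Fin.sum_univ_two] using congrFun h' 1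

end CfsgLib.RootTwo
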