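import Cfsg.Agent.Lib.RootTwo.Exists
import Cfsg.Agent.Lib.RootCommute.Main

/-!
Least offenders of a given sort, their anchors, and what an anchor does to the kept members.
-/

set_option autoImplicit false
set_option linter.unusedSectionVars false
set_option linter.unusedVariables false
set_option linter.style.haveILetI false

namespace CfsgLib.RootTwo

open CfsgLib CfsgLib.RootCommute CfsgLib.StrongFusion
open CfsgLib.SL2Pair (fix)

universe u v

variable {P : Type u} [Group P] [Finite P] {U : Type v} [AddCommGroup U] [Finite U] {ρ : P →* AddMonoid.End U}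
  {T : Sylow 2 P} {M : Subgroup P}

theorem Setting.over_conj (h : Setting ρ T M) {k : P} (hk : k ∈ M) {H : Subgroup P}
    (hle : cm k (T : Subgroup P) ≤ H) (hne : H ≠ ⊤) : H ≤ M := by
  have h1 : cm k⁻¹ H ≤ M := by
    refine h.over_le _ ((cm_inv_cm k _).ge.trans (cm_mono hle)) fun e => hne (eq_top_iff.2 fun y _ => ?_)
    have hy := e.ge (Subgroup.mem_top (k⁻¹ * y * k))
    obtain ⟨x, hx, hxe⟩ := hy
    simp only [MulEquiv.coe_toMonoidHom, MulAut.conj_apply, inv_inv] at hxe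
    rwa [← mul_left_cancel (mul_right_cancel hxe)]
  intro x hx
  have := h1 ⟨x, hx, rfl⟩
  simp only [MulEquiv.coe_toMonoidHom, MulAut.conj_apply, inv_inv] at this
  have h2 := M.mul_mem (M.mul_mem hk this) (M.inv_mem hk)
  rwa [show k * (k⁻¹ * x * k) * k⁻¹ = x by group] at h2

/-- Vectors fixed by a Sylow subgroup of `M` are fixed only inside `M`. -/
theorem Setting.stab_le (h : Setting ρ T M) {k : P} (hk : k ∈ M) {x : U}
    (hx : x ∈ fix ρ (cm k (T : Subgroup P))) (hx0 : x ≠ 0) : pointStab ρ x ≤ M :=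
  h.over_conj hk (fun t ht => hx t ht) fun e => hx0 (h.no_fixed x fun g => e.ge (Subgroup.mem_top g))

/-- The displacements of a Sylow subgroup of `M` are kept only inside `M`. -/
theorem Setting.cosetStab_le [Nontrivial U] (h : Setting ρ T M) {k : P} (hk : k ∈ M) :
    cosetStab ρ (img ρ (cm k (T : Subgroup P))) ≤ M :=
  h.over_conj hk (fun t ht x => sub_mem_img ρ ht x) fun e =>
    (img_lt_top ρ h.smul_zero (T.2.map _)).ne (h.full _ fun g x => e.ge (Subgroup.mem_top g) x)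

theorem Setting.nontrivial_of_ne (h : Setting ρ T M) {E : Subgroup P} (hE : E ≠ ⊥) : Nontrivial U := by
  by_contra hn
  rw [not_nontrivial_iff_subsingleton] at hn
  exact hE ((Subgroup.eq_bot_iff_forall E).2 fun a _ => act_ext ρ h.inj fun x => Subsingleton.elim _ _)

theorem Setting.nontriv (h : Setting ρ T M) : Nontrivial U :=
  h.nontrivial_of_ne (E := ⊤) fun e => h.M_ne (eq_top_iff.2 (e ▸ bot_le))

theorem Setting.exists_conj_le (hs : Setting ρ T M) {E : Subgroup P} (hE : IsPGroup 2 E) (hEM : E ≤ M) :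
    ∃ k ∈ M, E ≤ cm k (T : Subgroup P) := by
  obtain ⟨m, hm, hme⟩ := StrongFusion.exists_conj_le hs.le_M T.2
    (fun hd => T.not_dvd_index (hd.trans (Subgroup.relIndex_dvd_index_of_le hs.le_M))) hEM hE
  refine ⟨m⁻¹, inv_mem hm, ?_⟩
  have := cm_mono (g := m⁻¹) hme
  rwa [cm_inv_cm] at this

/-- A nonzero vector fixed by a Sylow subgroup of `M`. -/
theorem Setting.exists_fixed (h : Setting ρ T M) {k : P} (hk : k ∈ M) :
    ∃ w ∈ fix ρ (cm k (T : Subgroup P)), w ≠ 0 ∧ pointStab ρ w ≤ M := by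
  haveI := h.nontriv
  obtain ⟨w, -, hw0, hw⟩ := exists_fix ρ h.smul_zero (E := cm k (T : Subgroup P))
    (T.2.map _) (W := ⊤) (fun _ _ _ _ => trivial) top_ne_bot
  exact ⟨w, hw, hw0, h.stab_le hk hw hw0⟩

variable (ρ) in
/-- The least offenders among those of the sort `S`. -/
def IsLeast (S : Subgroup P → Prop) (E : Subgroup P) : Prop :=
  (IsOffender ρ 2 E ∧ S E) ∧ ∀ B, IsOffender ρ 2 B → S B → Nat.card E ≤ Nat.card B

/-- A sort of subgroups closed under conjugation and passing to subgroups. -/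
structure Sort' (S : Subgroup P → Prop) : Prop where
  conj : ∀ E, S E → ∀ g, S (cm g E)
  anti : ∀ E B, S E → B ≤ E → S B

theorem IsLeast.conj {S : Subgroup P → Prop} (hS : Sort' S) {E : Subgroup P} (h : IsLeast ρ S E) (g : P) :
    IsLeast ρ S (cm g E) :=
  ⟨⟨h.1.1.conj g, hS.conj E h.1.2 g⟩, fun B hB hB' =>
    (Subgroup.card_map_of_injective (MulAut.conj g).injective).trans_le (h.2 B hB hB')⟩

variable (ρ) in
/-- A charted member over the kept members. -/
structure Anchor (T : Sylow 2 P) (M : Subgroup P) (cl : Set (Subgroup P)) (g₀ : P) (A R : Subgroup P) :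
    Prop where
  set_up : Setting ρ T M
  data : ClassData T M cl
  peak : Peak T M cl g₀
  mem : A ∈ cl
  le : A ≤ (T : Subgroup P)
  new : ¬ A ≤ kept T cl g₀
  normA : A ≤ Subgroup.normalizer (kept T cl g₀ : Set P)
  normR : R ≤ Subgroup.normalizer (kept T cl g₀ : Set P)

/-- A chart of a subgroup seen in the group. -/
noncomputable def Chart.incl {Γ : Subgroup P} {A R : Subgroup ↥Γ} {F : Type} [Field F] [Fintype F]
    (c : Chart (ρ.comp Γ.subtype) (M.subgroupOf Γ) A R F) :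
    Chart ρ M (A.map Γ.subtype) (R.map Γ.subtype) F :=
  have hsup : A.map Γ.subtype ⊔ R.map Γ.subtype = (A ⊔ R).map Γ.subtype := (Subgroup.map_sup A R _).symm
  have hfix : ∀ {u : U}, u ∈ fix (ρ.comp Γ.subtype) (A ⊔ R) ↔ u ∈ fix ρ (A.map Γ.subtype ⊔ R.map Γ.subtype) :=
    fun {u} => by
    rw [hsup]
    exact ⟨fun h g hg => by obtain ⟨b, hb, rfl⟩ := hg; exact h b hb, fun h b hb => h b ⟨b, hb, rfl⟩⟩
  { ex := c.ex
    ey := c.ey
    av := fun t => c.av t
    rv := fun t => c.rv t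
    h := c.h
    lam := c.lam
    av_mem := fun t => ⟨_, c.av_mem t, rfl⟩
    av_surj := by
      rintro _ ⟨a, ha, rfl⟩
      obtain ⟨t, rfl⟩ := c.av_surj a ha
      exact ⟨t, rfl⟩
    av_add := fun s t => congrArg Subtype.val (c.av_add s t)
    rv_mem := fun t => ⟨_, c.rv_mem t, rfl⟩
    rv_surj := by
      rintro _ ⟨a, ha, rfl⟩
      obtain ⟨t, rfl⟩ := c.rv_surj a ha
      exact ⟨t, rfl⟩
    rv_add := fun s t => congrArg Subtype.val (c.rv_add s t)
    dec := fun u => by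
      obtain ⟨x, y, h⟩ := c.dec u
      exact ⟨x, y, hfix.1 h⟩
    indep := fun x y h => c.indep x y (hfix.2 h)
    a_ex := c.a_ex
    a_ey := fun t y => hfix.1 (c.a_ey t y)
    r_ey := c.r_ey
    r_ex := fun t y => hfix.1 (c.r_ex t y)
    h_mem := hsup.ge ⟨_, c.h_mem, rfl⟩
    h_ex := c.h_ex
    h_ey := c.h_ey
    h_av := fun t => congrArg Subtype.val (c.h_av t)
    h_rv := fun t => congrArg Subtype.val (c.h_rv t)
    swap := fun t => congrArg Subtype.val (c.swap t)
    lam_ne := c.lam_ne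
    lam_gen := c.lam_gen
    char_two := c.char_two
    not_le := fun h => c.not_le fun r hr => h ⟨r, hr, rfl⟩
    le_M := by rintro _ ⟨a, ha, rfl⟩; exact c.le_M ha
    gen := fun g hg hgM => by
      rw [hsup] at hg
      obtain ⟨g', hg', rfl⟩ := hg
      rw [show cm (Γ.subtype g') (A.map Γ.subtype) = (cm g' A).map Γ.subtype by
          rw [cm, cm, Subgroup.map_map, Subgroup.map_map]; rfl,
        ← Subgroup.map_sup, hsup, c.gen g' hg' hgM]
    natural := ⟨(MulEquiv.subgroupCongr hsup).trans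
      (((A ⊔ R).equivMapOfInjective Γ.subtype Γ.subtype_injective).symm.trans c.natural.some)⟩ }

/-- A least member normalising the kept members, not among them, has a chart. -/
theorem exists_anchor {S : Subgroup P → Prop} (hsort : Sort' S) (hs : Setting ρ T M) {cl : Set (Subgroup P)}
    (hd : ClassData T M cl) (hcl : ∀ R ∈ cl, IsLeast ρ S R) {g₀ : P} (hg : Peak T M cl g₀) {C : Subgroup P}
    (hC : C ∈ cl) (hCT : C ≤ (T : Subgroup P)) (hCN : C ≤ Subgroup.normalizer (kept T cl g₀ : Set P))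
    (hCX : ¬ C ≤ kept T cl g₀) :
    ∃ (R : Subgroup P) (F : Type) (_ : Field F) (_ : Fintype F),
      Anchor ρ T M cl g₀ C R ∧ Nonempty (Chart ρ M C R F) := by
  classical
  haveI := hs.nontriv
  obtain ⟨k, hk, hkN, Q, Γ, hAQ, hQΓ, hQM, hQp, hidx, hΓM, hΓN, hgen⟩ := exists_least_pair hd hg hC hCT hCN hCX
  set A := cm k C with hA
  have hAl := (hcl C hC).conj hsort k
  have hAΓ : A ≤ Γ := hAQ.trans hQΓ
  set σ : ↥Γ →* AddMonoid.End U := ρ.comp Γ.subtype with hσdef
  have hσ : Function.Injective σ := hs.inj.comp Γ.subtype_injective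
  let T₀ : Sylow 2 ↥Γ := (hQp.of_equiv (Subgroup.subgroupOfEquivOfLe hQΓ).symm).toSylow hidx
  have hT₀ : (T₀ : Subgroup ↥Γ) = Q.subgroupOf Γ := rfl
  set A' := A.subgroupOf Γ with hA'
  have hfix : ∀ E : Subgroup ↥Γ, fix σ E = fix ρ (E.map Γ.subtype) := fun E => by
    ext x
    exact ⟨fun h a ha => by obtain ⟨b, hb, rfl⟩ := ha; exact h b hb, fun h b hb => h b ⟨b, hb, rfl⟩⟩
  have hmu : ∀ E : Subgroup ↥Γ, mu σ E = mu ρ (E.map Γ.subtype) := fun E => by
    unfold mu; rw [hfix, Subgroup.card_map_of_injective Γ.subtype_injective]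
  have hmapA : A'.map Γ.subtype = A := by rw [hA', Subgroup.subgroupOf_map_subtype, inf_eq_left.2 hAΓ]
  have hgen' : ∀ x, x ∉ M.subgroupOf Γ → A' ⊔ cm x A' = ⊤ := by
    intro x hx
    apply Subgroup.map_injective Γ.subtype_injective
    rw [Subgroup.map_sup, hmapA, cm, Subgroup.map_map, show Γ.subtype.comp (MulAut.conj x).toMonoidHom =
      (MulAut.conj (x : P)).toMonoidHom.comp Γ.subtype from MonoidHom.ext fun y => rfl, ← Subgroup.map_map, hmapA,
      ← MonoidHom.range_eq_map, Subgroup.range_subtype]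
    exact hgen x x.2 hx
  have hM0 : M.subgroupOf Γ ≠ ⊤ := fun e => hΓM (Subgroup.subgroupOf_eq_top.1 e)
  have hmove : ∃ w ∈ fix σ (T₀ : Subgroup ↥Γ), ∃ g, σ g w ≠ w := by
    obtain ⟨k', hk', hQk⟩ := hs.exists_conj_le hQp hQM
    obtain ⟨w, hw, -, hwst⟩ := hs.exists_fixed hk'
    refine ⟨w, ?_, ?_⟩
    · rw [hT₀]
      exact fun a ha => hw (a : P) (hQk ha)
    · by_contra hno
      push Not at hno
      exact hΓM fun g hg => hwst (hno ⟨g, hg⟩)
  obtain ⟨R₀, F, iF, iF', hsup, -, ⟨c⟩⟩ := exists_chart hσ hs.smul_zero T₀ hM0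
    (hT₀ ▸ fun a ha => hQM ha) (A := A') (hT₀ ▸ fun a ha => hAQ ha)
    (fun e => hAl.1.1.ne_bot (show A = ⊥ by rw [← hmapA, e, Subgroup.map_bot]))
    (fun a ha b hb => Subtype.ext (hAl.1.1.comm a ha b hb)) (fun a ha => Subtype.ext (by simpa using hAl.1.1.pow a ha))
    (by rw [hmu, hmapA]; exact hAl.1.1.big)
    (fun E hE hE0 hEne => by
      rw [hmu, hmu, hmapA]
      refine lt_of_lt_of_le (lt_of_not_ge fun hle => ?_) hAl.1.1.big
      have hEA : E.map Γ.subtype ≤ A := hmapA ▸ Subgroup.map_mono hE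
      have hoff : IsOffender ρ 2 (E.map Γ.subtype) :=
        ⟨fun e => hE0 (Subgroup.map_injective Γ.subtype_injective (e.trans (Subgroup.map_bot _).symm)),
          fun a ha b hb => hAl.1.1.comm a (hEA ha) b (hEA hb), fun a ha => hAl.1.1.pow a (hEA ha), hle⟩
      exact hEne (Subgroup.map_injective Γ.subtype_injective ((Subgroup.eq_of_le_of_card_ge hEA
        (hAl.2 _ hoff (hsort.anti A _ hAl.1.2 hEA))).trans hmapA.symm)))
    hgen' hmove
  have hkM := M.inv_mem hk
  have hC' : cm k⁻¹ A = C := cm_inv_cm k C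
  have hM' : cm k⁻¹ M = M := Local.map_conj_eq_of_mem_normalizer (Subgroup.le_normalizer hkM)
  have c₁ := c.incl
  rw [hmapA] at c₁
  have c₂ := c₁.conj k⁻¹
  rw [hC', hM'] at c₂
  exact ⟨_, F, iF, iF',
    { set_up := hs, data := hd, peak := hg, mem := hC, le := hCT, new := hCX, normA := hCN,
      normR := Local.map_conj_le fun r hr => mul_mem (mul_mem (inv_mem hkN) (hΓN (Subgroup.map_subtype_le _ hr)))
        (inv_mem (inv_mem hkN)) }, ⟨c₂⟩⟩

namespace Chart

variable {F : Type} [Field F] [Fintype F] {A R : Subgroup P} (c : Chart ρ M A R F)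
include c

theorem cx_h (u : U) : c.cx (ρ c.h u) = c.lam * c.cx u := by
  refine (c.coords_eq (x := c.lam * c.cx u) (y := c.lam⁻¹ * c.cy u) ?_).1
  rw [← c.h_ex, ← c.h_ey, ← map_sub, ← map_sub, c.h_fix (c.rest_mem u)]
  exact c.rest_mem u

theorem cy_h (u : U) : c.cy (ρ c.h u) = c.lam⁻¹ * c.cy u := by
  refine (c.coords_eq (x := c.lam * c.cx u) (y := c.lam⁻¹ * c.cy u) ?_).2
  rw [← c.h_ex, ← c.h_ey, ← map_sub, ← map_sub, c.h_fix (c.rest_mem u)]
  exact c.rest_mem u

/-- An additive subgroup with one nonzero first coordinate, kept by the torus, has all first coordinates. -/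
theorem exists_cx {W : AddSubgroup U} (hh : ∀ u ∈ W, ρ c.h u ∈ W) {u : U} (hu : u ∈ W) (hx : c.cx u ≠ 0) (ξ : F) :
    ∃ v ∈ W, c.cx v = ξ := by
  by_cases hξ : ξ = 0
  · exact ⟨0, zero_mem _, by rw [map_zero, hξ]⟩
  obtain ⟨k, hk⟩ := c.lam_gen _ (mul_ne_zero hξ (inv_ne_zero hx))
  have key : ∀ k : ℕ, ∃ v ∈ W, c.cx v = c.lam ^ k * c.cx u := by
    intro k
    induction k with
    | zero => exact ⟨u, hu, by rw [pow_zero, one_mul]⟩
    | succ k ih =>
      obtain ⟨v, hv, e⟩ := ih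
      exact ⟨_, hh v hv, by rw [c.cx_h, e, pow_succ', mul_assoc]⟩
  obtain ⟨v, hv, e⟩ := key k
  exact ⟨v, hv, by rw [e, ← hk, mul_assoc, inv_mul_cancel₀ hx, mul_one]⟩

/-- The opposite displacements depend only on the first coordinate. -/
theorem r_disp {r : P} (hr : r ∈ R) {u v : U} (h : c.cx u = c.cx v) : ρ r u - u = ρ r v - v := by
  obtain ⟨t, rfl⟩ := c.rv_surj r hr
  rw [c.r_act t u, c.r_act t v, h]
  abel

/-- The displacements depend only on the second coordinate. -/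
theorem a_disp {a : P} (ha : a ∈ A) {u v : U} (h : c.cy u = c.cy v) : ρ a u - u = ρ a v - v := by
  obtain ⟨t, rfl⟩ := c.av_surj a ha
  rw [c.a_act t u, c.a_act t v, h]
  abel

/-- A vector fixed only inside `M` by `A` has a first coordinate. -/
theorem cx_ne {w : U} (hst : pointStab ρ w ≤ M) (hw : w ∈ fix ρ A) : c.cx w ≠ 0 := fun e =>
  c.not_le fun r hr => hst (c.fix_sup (c.mem_fix_sup_iff.2 ⟨e, c.mem_fix_iff.1 hw⟩) (Subgroup.mem_sup_right hr))

end Chart

theorem isPGroup_flag (hρ : Function.Injective ρ) (hU : ∀ x : U, 2 • x = 0) (B C : AddSubgroup U) :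
    IsPGroup 2 (flag ρ B C) := by
  rintro ⟨g, h1, h2, h3⟩
  refine ⟨2, Subtype.ext (act_ext ρ hρ fun x => ?_)⟩
  set c := ρ g x - x with hc
  set c' := ρ g c - c with hc'
  have e1 : ρ g x = x + c := by rw [hc]; abel
  have e2 : ρ g c = c + c' := by rw [hc']; abel
  have e3 : ρ g c' = c' := h1 _ (h2 _ (h3 x))
  have hg2 : ρ (g * g) x = x + c' := by
    rw [act_mul, e1, map_add, e1, e2, show x + c + (c + c') = x + c' + (c + c) by abel, add_self hU, add_zero]
  show ρ (g ^ 2 ^ 2) x = ρ 1 x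
  rw [act_one, show g ^ 2 ^ 2 = g * g * (g * g) by rw [show (2 : ℕ) ^ 2 = 2 + 2 from rfl, pow_add, pow_two], act_mul, hg2, map_add, hg2, act_mul, e3, e3,
    add_assoc, add_self hU, add_zero]

variable {cl : Set (Subgroup P)} {g₀ : P} {A R : Subgroup P} {F : Type} [Field F] [Fintype F]

/-- What the chart does to the kept members. -/
theorem Anchor.kept_facts (h : Anchor ρ T M cl g₀ A R) (c : Chart ρ M A R F) :
    img ρ (kept T cl g₀) ≤ fix ρ (A ⊔ R) ∧ img ρ A ≤ fix ρ (kept T cl g₀) ∧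
      img ρ R ≤ fix ρ (kept T cl g₀) := by
  haveI := h.set_up.nontriv
  set X := kept T cl g₀ with hX
  set N := Subgroup.normalizer (X : Set P)
  have hN : A ⊔ R ≤ N := sup_le h.normA h.normR
  have hcm : ∀ g ∈ N, cm g X = X := fun g hg => Local.map_conj_eq_of_mem_normalizer hg
  have hI : ∀ g ∈ N, ∀ x ∈ img ρ X, ρ g x ∈ img ρ X := fun g hg x hx => by
    have := mem_img_cm ρ (g := g) hx
    rwa [hcm g hg] at this
  have hFx : ∀ g ∈ N, ∀ x ∈ fix ρ X, ρ g x ∈ fix ρ X := fun g hg x hx => by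
    rw [← hcm g hg, mem_fix_cm, act_inv]; exact hx
  have hx0 : ∀ x ∈ img ρ X, c.cx x = 0 := fun x hx => by
    by_contra hne
    have hle : img ρ R ≤ img ρ X := (img_le ρ).2 fun r hr u => by
      obtain ⟨v, hv, e⟩ := c.exists_cx (fun u hu => hI _ (hN c.h_mem) u hu) hx hne (c.cx u)
      rw [c.r_disp hr e.symm]
      exact sub_mem (hI r (hN (Subgroup.mem_sup_right hr)) v hv) hv
    refine c.not_le fun r hr => h.set_up.cosetStab_le M.one_mem fun u => ?_
    rw [cm_one]
    exact img_mono ρ (kept_le g₀) (hle (sub_mem_img ρ hr u))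
  refine ⟨fun x hx => c.mem_fix_sup_iff.2 ⟨hx0 x hx, ?_⟩, ?_⟩
  · by_contra hy
    have h1 := hx0 _ (hI _ (hN (Subgroup.mem_sup_left (c.av_mem 1))) x hx)
    rw [c.cx_a, hx0 x hx, zero_add, one_mul] at h1
    exact hy h1
  obtain ⟨w, hw, hw0, hwst⟩ := h.set_up.exists_fixed M.one_mem
  rw [cm_one] at hw
  have hwX : w ∈ fix ρ X := fix_antitone ρ (kept_le g₀) hw
  have hwx := c.cx_ne hwst (fix_antitone ρ h.le hw)
  have hall := c.exists_cx (fun u hu => hFx _ (hN c.h_mem) u hu) hwX hwx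
  refine ⟨(img_le ρ).2 fun a ha u => ?_, (img_le ρ).2 fun r hr u => ?_⟩
  · obtain ⟨v, hv, e⟩ := hall (c.cy u - c.cy w)
    -- a vector of `fix X` with the same second coordinate
    obtain ⟨v', hv', e'⟩ : ∃ v' ∈ fix ρ X, c.cy v' = c.cy u := by
      refine ⟨ρ (c.rv 1) v - v + w, add_mem (sub_mem (hFx _ (hN (Subgroup.mem_sup_right (c.rv_mem 1))) v hv) hv) hwX, ?_⟩
      rw [map_add, map_sub, c.cy_r, e, one_mul]; abel
    rw [c.a_disp ha e'.symm]
    exact sub_mem (hFx a (hN (Subgroup.mem_sup_left ha)) v' hv') hv'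
  · obtain ⟨v, hv, e⟩ := hall (c.cx u)
    rw [c.r_disp hr e.symm]
    exact sub_mem (hFx r (hN (Subgroup.mem_sup_right hr)) v hv) hv

/-- A flag group around the chart lies in a Sylow subgroup of `M`. -/
theorem Anchor.exists_sylow (h : Anchor ρ T M cl g₀ A R) {B C : AddSubgroup U} (hA : A ≤ flag ρ B C)
    (hB : ∀ e ∈ kept T cl g₀, ∀ x ∈ B, ρ e x ∈ B) (hC : ∀ e ∈ kept T cl g₀, ∀ x ∈ C, ρ e x ∈ C) :
    ∃ k ∈ M, flag ρ B C ≤ cm k (T : Subgroup P) := by
  have hH : IsPGroup 2 ↥(kept T cl g₀ ⊔ flag ρ B C) :=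
    (T.2.to_le (kept_le g₀)).to_sup_of_normal_right' (isPGroup_flag h.set_up.inj h.set_up.smul_zero B C)
      (le_normalizer_flag hB hC)
  obtain ⟨a, ha⟩ := ZJFailure.exists_le_cm T hH
  refine ⟨a, ?_, le_sup_right.trans ha⟩
  have := unambiguous h.data h.peak (a := 1) (b := a) (E := kept T cl g₀ ⊔ A) le_sup_left
    (by rw [cm_one]; exact sup_le (kept_le g₀) h.le) ((sup_le_sup_left hA _).trans ha) h.mem le_sup_right h.new
  rwa [inv_one, one_mul] at this

end CfsgLib.RootTwo
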