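import Cfsg.Agent.Lib.RootTwo.Partner
import Mathlib.Algebra.BigOperators.Group.Finset.Basic
import Mathlib.Algebra.BigOperators.Group.Finset.Piecewise

/-!
The outside transvections form a basis; the Sylow subgroup permutes it transitively.
-/

set_option autoImplicit false
set_option linter.unusedSectionVars false
set_option linter.style.haveILetI false

namespace CfsgLib.RootTwo

open CfsgLib CfsgLib.RootCommute CfsgLib.StrongFusion
open CfsgLib.SL2Pair (fix)

universe u v

variable {P : Type u} [Group P] [Finite P] {U : Type v} [AddCommGroup U] [Finite U] {ρ : P →* AddMonoid.End U}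
  {T : Sylow 2 P} {M : Subgroup P}

namespace Tv

variable {C : Set U} {tv : U → P} {B : U →+ U →+ ZMod 2} (h : Tv ρ T M C tv B)
include h

open Classical in
/-- The outside transvections. -/
noncomputable def outs (_h : Tv ρ T M C tv B) : Finset U := (Set.toFinite {e | e ∈ C ∧ tv e ∉ M}).toFinset

theorem mem_outs {e : U} : e ∈ h.outs ↔ e ∈ C ∧ tv e ∉ M := by
  classical exact Set.Finite.mem_toFinset _

open Classical in
/-- The partner. -/
noncomputable def par (_h : Tv ρ T M C tv B) (e : U) : U :=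
  if hn : (_h.opposed e).Nonempty then hn.choose else 0

theorem par_mem {e : U} (he : e ∈ h.outs) : h.par e ∈ h.opposed e := by
  classical
  obtain ⟨hC, hM⟩ := h.mem_outs.1 he
  rw [par, dif_pos (h.opposed_nonempty hC hM)]
  exact Exists.choose_spec _

theorem B_par {e : U} (he : e ∈ h.outs) : B e (h.par e) = 1 := by rw [h.symm]; exact (h.par_mem he).2.2

theorem eq_par {e s : U} (he : e ∈ h.outs) (hs : s ∈ C) (hsT : tv s ∈ (T : Subgroup P)) (h1 : B e s = 1) :
    s = h.par e := by
  obtain ⟨hC, hM⟩ := h.mem_outs.1 he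
  exact h.opposed_subsingleton hC hM ⟨hs, hsT, by rwa [h.symm]⟩ (h.par_mem he)

theorem B_member {e s : U} (he : e ∈ h.outs) (hs : s ∈ C) (hsT : tv s ∈ (T : Subgroup P)) (hne : s ≠ h.par e) :
    B e s = 0 := (zmod_two_cases _).resolve_right fun h1 => hne (h.eq_par he hs hsT h1)

/-- The other transvection with the same partner. -/
theorem twin {e : U} (he : e ∈ h.outs) : e + h.par e ∈ h.outs ∧ h.par (e + h.par e) = h.par e ∧
    B e (e + h.par e) = 1 := by
  obtain ⟨hC, hM⟩ := h.mem_outs.1 he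
  obtain ⟨ht, htT, -⟩ := h.par_mem he
  have h1 := h.B_par he
  have h2 : e + h.par e ∈ h.outs := h.mem_outs.2 ⟨h.add_mem_C hC ht h1, h.add_out hC hM ht htT h1⟩
  refine ⟨h2, (h.eq_par h2 ht htT ?_).symm, by rw [map_add, h.self, h1, zero_add]⟩
  rw [show B (e + h.par e) = B e + B (h.par e) from map_add _ _ _, AddMonoidHom.add_apply, h1, h.self, add_zero]

theorem same_par {e f : U} (he : e ∈ h.outs) (hf : f ∈ h.outs) (hp : h.par f = h.par e) :
    f = e ∨ f = e + h.par e := by
  by_contra hno
  push Not at hno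
  obtain ⟨ht, htT, -⟩ := h.par_mem he
  suffices key : ∀ a ∈ h.outs, h.par a = h.par e → B a f = 1 → f = a + h.par e by
    rcases zmod_two_cases (B e f) with h0 | h1
    · obtain ⟨h2, h3, -⟩ := h.twin he
      have h4 : B (e + h.par e) f = 1 := by
        rw [show B (e + h.par e) = B e + B (h.par e) from map_add _ _ _, AddMonoidHom.add_apply, h0, zero_add,
          h.symm, ← hp, h.B_par hf]
      exact hno.1 ((key _ h2 h3 h4).trans (by rw [add_assoc, h.add_self, add_zero]))
    · exact hno.2 (key e he rfl h1)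
  intro a ha hap hB
  have hC : a + f ∈ C := h.add_mem_C (h.mem_outs.1 ha).1 (h.mem_outs.1 hf).1 hB
  have hT : tv (a + f) ∈ (T : Subgroup P) := h.max _ hC fun d hd hdT => by
    rw [show B (a + f) = B a + B f from map_add _ _ _, AddMonoidHom.add_apply]
    by_cases hde : d = h.par e
    · rw [hde]
      nth_rw 1 [← hap]
      nth_rw 1 [h.B_par ha]
      rw [← hp, h.B_par hf]; decide
    · rw [h.B_member ha hd hdT (hap ▸ hde), h.B_member hf hd hdT (hp ▸ hde), add_zero]
  have h1 := h.eq_par ha hC hT (by rw [map_add, h.self, zero_add]; exact hB)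
  rw [hap] at h1
  rw [← h1, ← add_assoc, h.add_self, zero_add]

theorem par_outs {e : U} (he : e ∈ h.outs) : h.par e ∈ C ∧ tv (h.par e) ∈ (T : Subgroup P) :=
  ⟨(h.par_mem he).1, (h.par_mem he).2.1⟩

/-- Disagreement is transitive. -/
theorem opp_trans {e f g : U} (he : e ∈ h.outs) (hf : f ∈ h.outs) (hg : g ∈ h.outs) (h1 : B e f = 1)
    (h2 : B f g = 1) (hne : e ≠ g) : B e g = 1 := (zmod_two_cases _).resolve_left fun h0 => by
  have hef : e ≠ f := fun e' => by rw [e', h.self] at h1; exact zero_ne_one h1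
  have hfg : f ≠ g := fun e' => by rw [e', h.self] at h2; exact zero_ne_one h2
  obtain ⟨ht, htT⟩ := h.par_outs he
  obtain ⟨ht', ht'T⟩ := h.par_outs hf
  obtain ⟨ht'', ht''T⟩ := h.par_outs hg
  by_cases hge : h.par g = h.par e
  · rcases h.same_par he hg hge with e' | e'
    · exact hne e'.symm
    · rw [e', (h.twin he).2.2] at h0; exact one_ne_zero h0
  by_cases hfe : h.par f = h.par e
  · have hf' := (h.same_par he hf hfe).resolve_left (Ne.symm hef)
    rw [hf', show B (e + h.par e) = B e + B (h.par e) from map_add _ _ _, AddMonoidHom.add_apply, h0,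
      zero_add, h.symm, h.B_member hg ht htT (Ne.symm hge)] at h2
    exact zero_ne_one h2
  by_cases hgf : h.par g = h.par f
  · have hg' := (h.same_par hf hg hgf).resolve_left (Ne.symm hfg)
    rw [hg', map_add, h1, h.B_member he ht' ht'T hfe, add_zero] at h0
    exact one_ne_zero h0
  have hd : e + f ∈ C := h.add_mem_C (h.mem_outs.1 he).1 (h.mem_outs.1 hf).1 h1
  have hBd : ∀ d ∈ C, tv d ∈ (T : Subgroup P) → B (e + f) d = B e d + B f d := fun d _ _ => by
    rw [show B (e + f) = B e + B f from map_add _ _ _, AddMonoidHom.add_apply]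
  have hdM : tv (e + f) ∈ M := by
    by_contra hdo
    have hdo' := h.mem_outs.2 ⟨hd, hdo⟩
    refine hfe ((h.eq_par hdo' ht' ht'T ?_).trans (h.eq_par hdo' ht htT ?_).symm)
    · rw [hBd _ ht' ht'T, h.B_member he ht' ht'T hfe, h.B_par hf, zero_add]
    · rw [hBd _ ht htT, h.B_member hf ht htT (Ne.symm hfe), h.B_par he, add_zero]
  have hgd : B g (e + f) = 1 := by rw [map_add, h.symm g e, h0, h.symm g f, h2, zero_add]
  have hsum : g + (e + f) ∈ h.outs := by
    obtain ⟨hgC, hgM⟩ := h.mem_outs.1 hg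
    refine h.mem_outs.2 ⟨h.add_mem_C hgC hd hgd, fun hh => hgM ?_⟩
    rw [← h.act_one _ hd g hgd] at hh
    exact (h.inM_conj hgC hdM).1 hh
  have hBs : ∀ d, B (g + (e + f)) d = B g d + (B e d + B f d) := fun d => by
    rw [show B (g + (e + f)) = B g + (B e + B f) by rw [map_add, map_add]]; rfl
  refine hfe ((h.eq_par hsum ht' ht'T ?_).trans (h.eq_par hsum ht htT ?_).symm)
  · rw [hBs, h.B_member hg ht' ht'T (Ne.symm hgf), h.B_member he ht' ht'T hfe, h.B_par hf]; decide
  · rw [hBs, h.B_member hg ht htT (Ne.symm hge), h.B_member hf ht htT (Ne.symm hfe), h.B_par he]; decide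

open Classical in
/-- The class of a transvection. -/
noncomputable def block (_h : Tv ρ T M C tv B) (e : U) : Finset U :=
  _h.outs.filter fun f => f = e ∨ B f e = 1

theorem mem_block {e f : U} : f ∈ h.block e ↔ f ∈ h.outs ∧ (f = e ∨ B f e = 1) := by
  classical exact Finset.mem_filter

theorem self_block {e : U} (he : e ∈ h.outs) : e ∈ h.block e := h.mem_block.2 ⟨he, Or.inl rfl⟩

theorem block_B {e f g : U} (he : e ∈ h.outs) (hf : f ∈ h.block e) (hg : g ∈ h.block e) (hne : f ≠ g) :
    B f g = 1 := by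
  obtain ⟨hf, hf'⟩ := h.mem_block.1 hf
  obtain ⟨hg, hg'⟩ := h.mem_block.1 hg
  rcases hf' with rfl | hf'
  · rw [h.symm]; exact hg'.resolve_left (Ne.symm hne)
  rcases hg' with rfl | hg'
  · exact hf'
  exact h.opp_trans hf he hg hf' (by rw [h.symm]; exact hg') hne

theorem block_B_zero {e f g : U} (he : e ∈ h.outs) (hf : f ∈ h.outs) (hfn : f ∉ h.block e) (hg : g ∈ h.block e) :
    B f g = 0 := by
  obtain ⟨hg, hg'⟩ := h.mem_block.1 hg
  have hfe : f ≠ e := fun e' => hfn (by rw [e']; exact h.self_block he)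
  refine (zmod_two_cases _).resolve_right fun h1 => hfn (h.mem_block.2 ⟨hf, Or.inr ?_⟩)
  rcases hg' with rfl | hg'
  · exact h1
  · exact h.opp_trans hf hg he h1 hg' hfe

theorem block_eq {e f : U} (he : e ∈ h.outs) (hf : f ∈ h.block e) : h.block f = h.block e := by
  have hf' := (h.mem_block.1 hf).1
  ext g
  constructor
  · intro hg
    obtain ⟨hgo, hgf⟩ := h.mem_block.1 hg
    by_contra hn
    rcases hgf with rfl | hgf
    · exact hn hf
    · rw [h.block_B_zero he hgo hn hf] at hgf; exact zero_ne_one hgf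
  · intro hg
    refine h.mem_block.2 ⟨(h.mem_block.1 hg).1, ?_⟩
    by_cases hgf : g = f
    · exact Or.inl hgf
    · exact Or.inr (h.block_B he hg hf hgf)

/-- Blocks have even size. -/
theorem block_even {e : U} (he : e ∈ h.outs) : ((h.block e).card : ZMod 2) = 0 := by
  classical
  rw [Finset.cast_card]
  refine Finset.sum_involution (fun f _ => f + h.par f) (fun f _ => by decide) (fun f hf _ => ?_) (fun f hf => ?_)
    (fun f hf => ?_)
  · intro e'
    rw [add_eq_left] at e'
    exact h.ne _ (h.par_outs (h.mem_block.1 hf).1).1 e'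
  · obtain ⟨hfo, -⟩ := h.mem_block.1 hf
    obtain ⟨h1, -, h3⟩ := h.twin hfo
    rw [← h.block_eq he hf]
    exact h.mem_block.2 ⟨h1, Or.inr (by rw [h.symm]; exact h3)⟩
  · obtain ⟨h1, h2, -⟩ := h.twin (h.mem_block.1 hf).1
    show f + h.par f + h.par (f + h.par f) = f
    rw [h2, add_assoc, h.add_self, add_zero]

open Classical in
/-- The coordinate vector. -/
noncomputable def dual (_h : Tv ρ T M C tv B) (e : U) : U := e + ∑ g ∈ _h.block e, g

theorem B_dual {e f : U} [Decidable (f = e)] (he : e ∈ h.outs) (hf : f ∈ h.outs) :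
    B f (h.dual e) = if f = e then 1 else 0 := by
  classical
  rw [dual, map_add, map_sum]
  by_cases hfb : f ∈ h.block e
  · have h1 : ∑ g ∈ h.block e, B f g = ∑ g ∈ h.block e, ((1 : ZMod 2) - if f = g then 1 else 0) :=
      Finset.sum_congr rfl fun g hg => by
        by_cases hfg : f = g
        · rw [if_pos hfg, hfg, h.self, sub_self]
        · rw [if_neg hfg, sub_zero, h.block_B he hfb hg hfg]
    rw [h1, Finset.sum_sub_distrib, Finset.sum_ite_eq, if_pos hfb, ← Finset.cast_card, h.block_even he]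
    by_cases hfe : f = e
    · rw [if_pos hfe, hfe, h.self]; decide
    · rw [if_neg hfe, h.block_B he hfb (h.self_block he) hfe]; decide
  · rw [Finset.sum_eq_zero fun g hg => h.block_B_zero he hf hfb hg, add_zero,
      if_neg (fun e' : f = e => hfb (by rw [e']; exact h.self_block he)), h.block_B_zero he hf hfb (h.self_block he)]

theorem outs_inv {x : P} (hx : x ∈ (T : Subgroup P)) {e : U} (he : e ∈ h.outs) : ρ x e ∈ h.outs := by
  obtain ⟨hC, hM⟩ := h.mem_outs.1 he
  exact h.mem_outs.2 ⟨h.C_inv x e hC, fun hh => hM ((h.inM_conj hC (h.set_up.le_M hx)).1 hh)⟩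

/-- Outside transvections separate vectors. -/
theorem eq_zero_outs {u : U} (hu : ∀ e ∈ h.outs, B u e = 0) : u = 0 := by
  obtain ⟨e₀, he₀, hM₀⟩ := h.outside
  let V : AddSubgroup U :=
    { carrier := {x | ∀ e ∈ h.outs, B x e = 0}
      zero_mem' := fun e _ => by simp
      add_mem' := fun {x y} hx hy e he => by simp [hx e he, hy e he]
      neg_mem' := fun {x} hx e he => by simp [hx e he] }
  have hV : V = ⊥ := h.eq_bot_of_inv (fun g hg x hx e he => by
    have := hx _ (h.outs_inv (inv_mem hg) he)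
    rw [← h.form_inv g⁻¹, act_inv]
    exact this) he₀ hM₀ fun x hx => hx e₀ (h.mem_outs.2 ⟨he₀, hM₀⟩)
  exact (AddSubgroup.eq_bot_iff_forall V).1 hV u hu

theorem ext_outs {u w : U} (hu : ∀ e ∈ h.outs, B u e = B w e) : u = w :=
  sub_eq_zero.1 (h.eq_zero_outs fun e he => by rw [map_sub, AddMonoidHom.sub_apply, hu e he, sub_self])

/-- The coordinates of a sum. -/
theorem B_dual_sum [DecidableEq U] {s : Finset U} (hs : s ⊆ h.outs) {e : U} (he : e ∈ h.outs) :
    B (∑ f ∈ s, f) (h.dual e) = if e ∈ s then 1 else 0 := by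
  rw [map_sum, AddMonoidHom.finsetSum_apply, Finset.sum_congr rfl fun f hf => h.B_dual he (hs hf),
    Finset.sum_ite_eq']

/-- **The basis.** -/
theorem basis : (∀ u : U, ∃ s ⊆ h.outs, ∑ f ∈ s, f = u) ∧
    ∀ s ⊆ h.outs, ∀ s' ⊆ h.outs, ∑ f ∈ s, f = ∑ f ∈ s', f → s = s' := by
  classical
  refine ⟨fun u => ?_, fun s hs s' hs' he => ?_⟩
  · set s := h.outs.filter fun e => B u (h.dual e) = 1
    refine ⟨s, Finset.filter_subset _ _, ?_⟩
    set w := ∑ f ∈ s, f
    have hd : ∀ e ∈ h.outs, B (w - u) (h.dual e) = 0 := fun e he => by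
      rw [map_sub, AddMonoidHom.sub_apply, h.B_dual_sum (Finset.filter_subset _ _) he]
      rcases zmod_two_cases (B u (h.dual e)) with h0 | h0 <;> rw [h0]
      · rw [if_neg (fun hh => by rw [(Finset.mem_filter.1 hh).2] at h0; exact one_ne_zero h0), sub_self]
      · rw [if_pos (Finset.mem_filter.2 ⟨he, h0⟩), sub_self]
    refine sub_eq_zero.1 (h.eq_zero_outs fun e he => ?_)
    set x := w - u
    set S := ∑ g ∈ h.block e, B x g
    have h1 : ∀ g ∈ h.block e, B x g = S := fun g hg => by
      have := hd g (h.mem_block.1 hg).1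
      rw [dual, map_add, map_sum, h.block_eq he hg] at this
      exact (eq_neg_of_add_eq_zero_left this).trans (CharTwo.neg_eq S)
    have h2 : S = 0 := by
      show ∑ g ∈ h.block e, B x g = 0
      rw [Finset.sum_congr rfl h1, Finset.sum_const, nsmul_eq_mul, h.block_even he, zero_mul]
    exact (h1 e (h.self_block he)).trans h2
  · ext e
    by_cases heo : e ∈ h.outs
    · have h1 := congrArg (fun x => B x (h.dual e)) he
      simp only [h.B_dual_sum hs heo, h.B_dual_sum hs' heo] at h1
      by_cases a : e ∈ s <;> by_cases b : e ∈ s' <;> simp_all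
    · exact iff_of_false (fun a => heo (hs a)) fun a => heo (hs' a)

theorem outs_nonempty : h.outs.Nonempty := by
  obtain ⟨e, he, hM⟩ := h.outside
  exact ⟨e, h.mem_outs.2 ⟨he, hM⟩⟩

theorem block_inv {x : P} (hx : x ∈ (T : Subgroup P)) {e f : U} (hf : f ∈ h.block e) :
    ρ x f ∈ h.block (ρ x e) := by
  obtain ⟨hfo, hf'⟩ := h.mem_block.1 hf
  exact h.mem_block.2 ⟨h.outs_inv hx hfo, hf'.imp (congrArg _) fun hh => by rwa [h.form_inv]⟩

/-- **Transitivity.** -/
theorem trans_outs {e f : U} (he : e ∈ h.outs) (hf : f ∈ h.outs) : ∃ x ∈ (T : Subgroup P), ρ x e = f := by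
  classical
  set O := h.outs.filter fun g => ∃ x ∈ (T : Subgroup P), ρ x e = g with hO
  have hOinv : ∀ x ∈ (T : Subgroup P), ∀ g ∈ O, ρ x g ∈ O := by
    intro x hx g hg
    obtain ⟨hgo, y, hy, rfl⟩ := Finset.mem_filter.1 hg
    exact Finset.mem_filter.2 ⟨h.outs_inv hx hgo, x * y, mul_mem hx hy, act_mul ρ _ _ _⟩
  have hsub : O ⊆ h.outs := Finset.filter_subset _ _
  have heO : e ∈ O := Finset.mem_filter.2 ⟨he, 1, one_mem _, RootCommute.act_one ρ e⟩
  have hfix : (∑ g ∈ O, g) ∈ fix ρ (T : Subgroup P) := fun x hx => by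
    show ρ x (∑ g ∈ O, g) = _
    rw [map_sum]
    refine Finset.sum_nbij (fun g => ρ x g) (fun g hg => hOinv x hx g hg) (act_injective ρ x).injOn
      (fun g hg => ⟨ρ x⁻¹ g, hOinv _ (inv_mem hx) g hg, act_inv' ρ x g⟩) fun g _ => rfl
  have hne : (∑ g ∈ O, g) ≠ 0 := fun e' => by
    have := h.B_dual_sum hsub he
    rw [e', map_zero, AddMonoidHom.zero_apply, if_pos heO] at this
    exact zero_ne_one this
  have hone : ∀ g ∈ h.outs, ∑ a ∈ O, B a g = 1 := fun g hg => by
    rw [← AddMonoidHom.finsetSum_apply, ← map_sum]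
    exact h.fixed_one hfix hne (h.mem_outs.1 hg).1 (h.mem_outs.1 hg).2
  have hblock : ∀ g ∈ O, ∀ a ∈ h.block g, a ∈ O := by
    intro g hg a ha
    by_contra haO
    have hgo := hsub hg
    have hao := (h.mem_block.1 ha).1
    have h1 : ∑ b ∈ O, (B b a - B b g) = 1 := by
      rw [Finset.sum_eq_single g]
      · rw [h.self, sub_zero]
        exact h.block_B hgo (h.self_block hgo) ha (fun e' => haO (e' ▸ hg))
      · intro b hb hbg
        by_cases hbb : b ∈ h.block g
        · rw [h.block_B hgo hbb ha (fun e' => haO (e' ▸ hb)), h.block_B hgo hbb (h.self_block hgo) hbg, sub_self]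
        · rw [h.block_B_zero hgo (hsub hb) hbb ha, h.block_B_zero hgo (hsub hb) hbb (h.self_block hgo), sub_self]
      · exact fun hh => absurd hg hh
    rw [Finset.sum_sub_distrib, hone a hao, hone g hgo, sub_self] at h1
    exact zero_ne_one h1
  have hfO : f ∈ O := by
    by_contra hfO
    have h1 := hone f hf
    rw [Finset.sum_eq_zero fun a ha => h.block_B_zero hf (hsub ha)
      (fun hh => hfO (hblock a ha f (by rw [h.block_eq hf hh]; exact h.self_block hf))) (h.self_block hf)] at h1
    exact zero_ne_one h1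
  exact (Finset.mem_filter.1 hfO).2

/-- Blocks have two-power size. -/
theorem block_pow {e : U} (he : e ∈ h.outs) : ∃ n, 1 ≤ n ∧ (h.block e).card = 2 ^ n := by
  classical
  obtain ⟨n, hn⟩ := card_pow (ρ := ρ) (T := T) (S := (h.block e : Set U)) (t₀ := e)
    (Fs := {x | x ∈ (T : Subgroup P) ∧ ρ x e ∈ h.block e}) (fun x hx => hx.1)
    (fun x hx y hy => by
      have := h.block_inv hx.1 hy
      rwa [h.block_eq he hx.2] at this)
    (h.self_block he)
    (fun s hs => by
      obtain ⟨x, hx, hxe⟩ := h.trans_outs he (h.mem_block.1 hs).1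
      exact ⟨x, ⟨hx, by rw [hxe]; exact hs⟩, hxe⟩)
  rw [Set.ncard_coe_finset] at hn
  refine ⟨n, Nat.one_le_iff_ne_zero.2 fun h0 => ?_, hn⟩
  have h2 := h.block_even he
  rw [hn, h0, pow_zero, Nat.cast_one] at h2
  exact one_ne_zero h2

/-- Every member is a partner. -/
theorem exists_par {t : U} (ht : t ∈ C) (htT : tv t ∈ (T : Subgroup P)) : ∃ e ∈ h.outs, h.par e = t := by
  by_contra hno
  push Not at hno
  exact h.ne t ht (h.eq_zero_outs fun e he => by rw [h.symm]; exact h.B_member he ht htT (Ne.symm (hno e he)))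

end Tv

end CfsgLib.RootTwo
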