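import Cfsg.Agent.Lib.RootTwo.Pairs
import Cfsg.Agent.Lib.RootBlocks.Defs

/-!
Over a field with more than two elements the members give natural blocks.
-/

set_option autoImplicit false
set_option linter.unusedSectionVars false
set_option linter.unusedVariables false
set_option linter.style.haveILetI false
set_option maxHeartbeats 200000

namespace CfsgLib.RootTwo

open CfsgLib CfsgLib.RootCommute CfsgLib.StrongFusion
open CfsgLib.SL2Pair (fix)
open CfsgLib.RootBlocks (Blocks)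

universe u v

variable {P : Type u} [Group P] [Finite P] {U : Type v} [AddCommGroup U] [Finite U] {ρ : P →* AddMonoid.End U}
  {T : Sylow 2 P} {M : Subgroup P}

theorem Setting.top_of_normalised (hs : Setting ρ T M) {N : Subgroup P}
    (hT : (T : Subgroup P) ≤ Subgroup.normalizer (N : Set P)) (hN : ¬ N ≤ M) :
    N.Normal ∧ N ⊔ (T : Subgroup P) = ⊤ ∧ fix ρ N = ⊥ := by
  have h1 : Subgroup.normalizer (N : Set P) = ⊤ := by
    by_contra hne
    exact hN (Subgroup.le_normalizer.trans (hs.over_le _ hT hne))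
  have hn : N.Normal := Subgroup.normalizer_eq_top_iff.1 h1
  have h2 : N ⊔ (T : Subgroup P) = ⊤ := by
    by_contra hne
    exact hN (le_sup_left.trans (hs.over_le _ le_sup_right hne))
  refine ⟨hn, h2, ?_⟩
  by_contra hne
  obtain ⟨w, hw, hw0, hwT⟩ := exists_fix ρ hs.smul_zero (E := (T : Subgroup P)) T.2 (W := fix ρ N)
    (fun t _ x hx g hg => by
      have h3 := hn.conj_mem g hg t⁻¹
      rw [inv_inv] at h3
      have h4 := congrArg (ρ t) (hx _ h3)
      rwa [← act_mul, ← mul_assoc, mul_inv_cancel_left, act_mul] at h4) hne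
  refine hw0 (hs.no_fixed w fun g => ?_)
  have h5 : N ⊔ (T : Subgroup P) ≤ pointStab ρ w := sup_le (fun a ha => hw a ha) fun a ha => hwT a ha
  exact h5 (h2 ▸ Subgroup.mem_top g)

/-- **The blocks.** -/
theorem Roots.exists_blocks {X : Subgroup P} {cl : Set (Subgroup P)} {F : Type} [Field F] [Fintype F]
    (r : Roots ρ T M X cl F) (hq : 2 < Fintype.card F) :
    ∃ (ι : Type u) (_ : Fintype ι) (b : Blocks ρ T ι F),
      (∀ i, b.A i ∈ membersIn cl (T : Subgroup P)) ∧ ∀ E ∈ membersIn cl (T : Subgroup P), ∃ i, b.A i = E := by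
  classical
  set ι := {E : Subgroup P // E ∈ membersIn cl (T : Subgroup P)} with hι
  haveI : Fintype ι := Fintype.ofFinite ι
  obtain ⟨A₀, hA₀⟩ := r.nonempty
  choose R hR using fun i : ι => r.charted i i.2
  have c : ∀ i : ι, Chart ρ M (i : Subgroup P) (R i) F := fun i => (hR i).some
  let Γ : ι → Subgroup P := fun i => (i : Subgroup P) ⊔ R i
  have hs := r.set_up
  have hU := hs.smul_zero
  have hperm : ∀ {m : P}, m ∈ M → ∀ i : ι, ∃ j : ι, cm m (i : Subgroup P) = (j : Subgroup P) ∧ cm m (Γ i) = Γ j := by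
    intro m hm i
    have hj := r.permute hq (c i) hm i.2
    refine ⟨⟨_, hj⟩, rfl, ?_⟩
    have c' := (c i).conj m
    rw [show cm m M = M from Local.map_conj_eq_of_mem_normalizer (Subgroup.le_normalizer hm)] at c'
    show cm m ((i : Subgroup P) ⊔ R i) = _
    rw [show cm m ((i : Subgroup P) ⊔ R i) = cm m i ⊔ cm m (R i) from Subgroup.map_sup _ _ _]
    exact r.join_eq hq (c ⟨_, hj⟩) c' hj
  have hne : ∀ {i j : ι}, i ≠ j → (i : Subgroup P) ≠ j := fun h e => h (Subtype.ext e)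
  have hxfix : ∀ {i j : ι}, i ≠ j → ∀ x, (c j).ex x ∈ fix ρ (Γ i) ∧ (c j).ey x ∈ fix ρ (Γ i) := fun {i j} h x =>
    ⟨(r.cross_ex hq (c i) (c j) i.2 j.2 (hne h.symm)).1 x, r.cross_ey hq (c i) (c j) i.2 j.2 (hne h.symm) x⟩
  have hLfix : ∀ (i j : ι) z, (c j).L z ∈ fix ρ (Γ i) := fun i j z => by
    by_cases h : i = j
    · subst h; exact (c i).L_mem z
    · exact (r.cross_ex hq (c i) (c j) i.2 j.2 (hne (Ne.symm h))).2 z
  -- orbits of the Sylow subgroup generate normal subgroups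
  set O : Set ι := {i | ∃ t ∈ (T : Subgroup P), cm t A₀ = (i : Subgroup P)} with hO
  set G₀ := ⨆ i : O, Γ i with hG₀
  have hnot : ∀ i : ι, ¬ Γ i ≤ M := fun i h => (c i).not_le (le_sup_right.trans h)
  have hi₀ : (⟨A₀, hA₀⟩ : ι) ∈ O := ⟨1, one_mem _, cm_one _⟩
  have hnormO : (T : Subgroup P) ≤ Subgroup.normalizer (G₀ : Set P) := fun t ht => by
    refine ZJFailure.mem_normalizer_of_forall fun x hx => ?_
    have h1 : G₀ ≤ G₀.comap (MulAut.conj t).toMonoidHom := iSup_le fun i y hy => by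
      obtain ⟨s, hs', hsi⟩ := i.2
      obtain ⟨j, hj, hjΓ⟩ := hperm (hs.le_M ht) (i : ι)
      exact le_iSup (fun i : O => Γ i) ⟨j, t * s, mul_mem ht hs', by rw [← hj, ← cm_cm, hsi]⟩
        (hjΓ.le ⟨y, hy, rfl⟩)
    exact h1 hx
  obtain ⟨-, htop₀, hfix₀⟩ := hs.top_of_normalised hnormO fun h =>
    hnot ⟨A₀, hA₀⟩ ((le_iSup (fun i : O => Γ i) ⟨_, hi₀⟩).trans h)
  have hall : ∀ i : ι, i ∈ O := fun i => by
    by_contra hni
    have h1 : (c i).ex 1 ∈ fix ρ G₀ := by
      have h2 : G₀ ≤ pointStab ρ ((c i).ex 1) :=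
        iSup_le fun j g hg => (hxfix (fun e : (j : ι) = i => hni (e ▸ j.2)) 1).1 g hg
      exact fun g hg => h2 hg
    rw [hfix₀, AddSubgroup.mem_bot] at h1
    have h3 := congrArg (c i).cx h1
    rw [(c i).cx_ex, map_zero] at h3
    exact one_ne_zero h3
  have hfix : ∀ u, (∀ i, u ∈ fix ρ (Γ i)) → u = 0 := fun u hu => by
    have h2 : G₀ ≤ pointStab ρ u := iSup_le fun j g hg => hu j g hg
    have h3 : u ∈ fix ρ G₀ := fun g hg => h2 hg
    rwa [hfix₀, AddSubgroup.mem_bot] at h3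
  have hL0 : ∀ i z, (c i).L z = 0 := fun i z => hfix _ fun j => hLfix j i z
  have hco : ∀ (j : ι) (x y : ι → F),
      (c j).cx (∑ i, ((c i).ex (x i) + (c i).ey (y i))) = x j ∧
      (c j).cy (∑ i, ((c i).ex (x i) + (c i).ey (y i))) = y j := by
    intro j x y
    have h0 : ∀ i, i ≠ j → (c j).cx ((c i).ex (x i) + (c i).ey (y i)) = 0 ∧
        (c j).cy ((c i).ex (x i) + (c i).ey (y i)) = 0 := fun i h =>
      (c j).coords_of_fix (add_mem (hxfix (Ne.symm h) _).1 (hxfix (Ne.symm h) _).2)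
    rw [map_sum, map_sum, Finset.sum_eq_single j (fun i _ h => (h0 i h).1) (fun h => absurd (Finset.mem_univ j) h),
      Finset.sum_eq_single j (fun i _ h => (h0 i h).2) (fun h => absurd (Finset.mem_univ j) h),
      map_add, map_add, (c j).cx_ex, (c j).cy_ex, (c j).cx_ey, (c j).cy_ey, add_zero, zero_add]
    exact ⟨rfl, rfl⟩
  refine ⟨ι, inferInstance,
    { inj := hs.inj, smul_zero := hU, cast_zero := ?_
      A := fun i => (i : Subgroup P), grp := Γ, ex := fun i => (c i).ex, ey := fun i => (c i).ey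
      av := fun i => (c i).av, rv := fun i => (c i).rv
      av_mem := ?_, av_surj := ?_, A_le_grp := ?_, rv_mem := ?_, gen := ?_, A_le := ?_
      a_ex := ?_, a_ey := ?_, r_ey := ?_, r_ex := ?_, other := ?_, dec := ?_, indep := ?_
      perm := ?_, trans := ?_, nonempty := ⟨⟨A₀, hA₀⟩⟩, sup := ?_ }, ?_, ?_⟩
  · rw [Nat.cast_ofNat]; exact (c ⟨A₀, hA₀⟩).char_two
  · exact fun i => (c i).av_mem
  · exact fun i => (c i).av_surj
  · exact fun i => le_sup_left
  · exact fun i t => Subgroup.mem_sup_right ((c i).rv_mem t)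
  · intro i
    refine congrArg ((i : Subgroup P) ⊔ ·) (le_antisymm (fun g hg => ?_) ?_)
    · obtain ⟨t, ht⟩ := (c i).rv_surj g hg
      exact Subgroup.subset_closure ⟨t, ht⟩
    · exact (Subgroup.closure_le _).2 (by rintro _ ⟨t, rfl⟩; exact (c i).rv_mem t)
  · exact fun i => i.2.2
  · exact fun i => (c i).a_ex
  · intro i t y; rw [(c i).a_ey', hL0, add_zero]
  · exact fun i => (c i).r_ey
  · intro i t x; rw [(c i).r_ex' hU hq, hL0, add_zero]
  · exact fun i j h g hg x => ⟨(hxfix h x).1 g hg, (hxfix h x).2 g hg⟩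
  · intro u
    refine ⟨fun i => (c i).cx u, fun i => (c i).cy u, sub_eq_zero.1 (hfix _ fun j =>
      (c j).mem_fix_sup_iff.2 ⟨?_, ?_⟩)⟩
    · rw [map_sub, (hco j _ _).1, sub_self]
    · rw [map_sub, (hco j _ _).2, sub_self]
  · exact fun x y h j => ⟨by rw [← (hco j x y).1, h, map_zero], by rw [← (hco j x y).2, h, map_zero]⟩
  · exact fun t ht i => hperm (hs.le_M ht) i
  · intro i j
    obtain ⟨s, hs', hsi⟩ := hall i
    obtain ⟨t, ht, htj⟩ := hall j
    have hts : t * s⁻¹ ∈ (T : Subgroup P) := mul_mem ht (inv_mem hs')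
    obtain ⟨k, hk, hkΓ⟩ := hperm (hs.le_M hts) i
    have hkj : k = j := Subtype.ext (by rw [← hk, ← htj, ← cm_cm, ← hsi, cm_inv_cm])
    exact ⟨_, hts, hkj ▸ hk, hkj ▸ hkΓ⟩
  · have h : G₀ ≤ ⨆ i : ι, Γ i := iSup_le fun i => le_iSup Γ i.1
    rw [eq_top_iff, ← htop₀]
    exact sup_le_sup_right h _
  · exact fun i => i.2
  · exact fun E hE => ⟨⟨E, hE⟩, rfl⟩

end CfsgLib.RootTwo
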