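import Cfsg.Agent.Lib.RootTwo.Anchor

/-!
When anchors commute with every member of their Sylow subgroup, all members of one Sylow subgroup
commute, and all of them have charts.
-/

set_option autoImplicit false
set_option linter.unusedSectionVars false
set_option linter.unusedVariables false
set_option linter.style.haveILetI false

namespace CfsgLib.RootTwo

open CfsgLib CfsgLib.RootCommute CfsgLib.StrongFusion
open CfsgLib.SL2Pair (fix)

universe u v

variable {P : Type u} [Group P] [Finite P] {U : Type v} [AddCommGroup U] [Finite U] {ρ : P →* AddMonoid.End U}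
  {T : Sylow 2 P} {M : Subgroup P}

variable (ρ) in
/-- An offender of order `q` whose nontrivial elements are alike. -/
structure Reg (q : ℕ) (E : Subgroup P) : Prop where
  card : Nat.card E = q
  comm : ∀ a ∈ E, ∀ b ∈ E, a * b = b * a
  quad : img ρ E ≤ fix ρ E
  ker : ∀ a ∈ E, a ≠ 1 → ∀ x, ρ a x = x → x ∈ fix ρ E
  idx : Nat.card U = q * Nat.card (fix ρ E)

theorem Reg.conj {q : ℕ} {E : Subgroup P} (h : Reg ρ q E) (g : P) : Reg ρ q (cm g E) where
  card := (Subgroup.card_map_of_injective (MulAut.conj g).injective).trans h.card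
  comm := by
    rintro _ ⟨a, ha, rfl⟩ _ ⟨b, hb, rfl⟩
    rw [← map_mul, ← map_mul, h.comm a ha b hb]
  quad := (img_le ρ).2 fun a ha x => (mem_fix_cm ρ).2 (by
    have := h.quad (sub_mem_img ρ (RootCommute.mem_cm.1 ha) (ρ g⁻¹ x))
    rwa [act_mul, act_mul, act_inv', ← map_sub] at this)
  ker := fun a ha ha1 x hx => (mem_fix_cm ρ).2 (h.ker _ (RootCommute.mem_cm.1 ha) (fun e => ha1 (by
      calc a = g * (g⁻¹ * a * g) * g⁻¹ := by group
        _ = 1 := by rw [e]; group)) _ (by rw [act_mul, act_mul, act_inv', hx]))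
  idx := by rw [card_fix_cm]; exact h.idx

theorem Chart.reg {A R : Subgroup P} {F : Type} [Field F] [Fintype F] (c : Chart ρ M A R F) :
    Reg ρ (Fintype.card F) A :=
  ⟨c.card_eq, fun a ha b hb => c.comm ha hb, c.img_le_fix, fun a ha ha1 x hx => c.ker ha ha1 hx, c.idx⟩

variable (ρ) in
/-- The class of one least member, with a chart. -/
structure Cls (T : Sylow 2 P) (M : Subgroup P) (S : Subgroup P → Prop) (cl : Set (Subgroup P)) (C : Subgroup P)
    (F : Type) [Field F] [Fintype F] : Prop where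
  set_up : Setting ρ T M
  sort : Sort' S
  data : ClassData T M cl
  mem : C ∈ cl
  le : C ≤ (T : Subgroup P)
  least : ∀ E ∈ cl, IsLeast ρ S E
  conj_of : ∀ E ∈ cl, ∃ g, cm g C = E
  reg : ∀ E ∈ cl, Reg ρ (Fintype.card F) E
  chart : ∃ R, Nonempty (Chart ρ M C R F)

/-- Some least member has a chart. -/
theorem exists_cls {S : Subgroup P → Prop} (hsort : Sort' S) (hs : Setting ρ T M)
    (hoff : ∃ E, IsOffender ρ 2 E ∧ S E) :
    ∃ (cl : Set (Subgroup P)) (C : Subgroup P) (F : Type) (_ : Field F) (_ : Fintype F), Cls ρ T M S cl C F := by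
  classical
  obtain ⟨E₀, hE₀, hmin⟩ :=
    Set.exists_min_image {E | IsOffender ρ 2 E ∧ S E} (fun E => Nat.card E) (Set.toFinite _) hoff
  have hdata : ∀ cl : Set (Subgroup P), (∀ R ∈ cl, ∀ g, cm g R ∈ cl) → (∀ R ∈ cl, IsLeast ρ S R) →
      cl.Nonempty → ClassData T M cl := fun cl hconj hl ⟨R, hR⟩ => by
    obtain ⟨a, ha⟩ := ZJFailure.exists_le_cm T (hl R hR).1.1.pgroup
    exact ⟨hconj, fun R hR => (hl R hR).1.1.pgroup, fun R hR => (hl R hR).1.1.ne_bot,
      ⟨cm a⁻¹ R, hconj R hR _, (cm_mono ha).trans (cm_inv_cm a _).le⟩, hs.le_M, hs.M_ne, hs.over_le, hs.no_core⟩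
  have hd₀ := hdata {R | IsLeast ρ S R} (fun R hR g => hR.conj hsort g) (fun R hR => hR)
    ⟨E₀, hE₀, fun B hB hB' => hmin B ⟨hB, hB'⟩⟩
  obtain ⟨g₀, hg₀⟩ := exists_peak hd₀
  obtain ⟨C, hC, hCT, hCX, hCN⟩ := exists_normalizing hd₀ (kept_le g₀) (kept_eq_sSup g₀) (exists_not_kept hd₀ hg₀)
  obtain ⟨R, F, iF, iF', hA, ⟨c⟩⟩ := exists_anchor hsort hs hd₀ (fun R hR => hR) hg₀ hC hCT hCN hCX
  set cl : Set (Subgroup P) := Set.range fun g => cm g C with hcl
  have hcl1 : ∀ R ∈ cl, IsLeast ρ S R := by rintro _ ⟨g, rfl⟩; exact IsLeast.conj hsort hC g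
  have hconj : ∀ R ∈ cl, ∀ g, cm g R ∈ cl := by
    rintro _ ⟨h, rfl⟩ g; exact ⟨g * h, (cm_cm g h C).symm⟩
  exact ⟨cl, C, F, iF, iF', hs, hsort, hdata cl hconj hcl1 ⟨C, 1, cm_one C⟩, ⟨1, cm_one C⟩, hCT, hcl1,
    fun E hE => hE, by rintro _ ⟨g, rfl⟩; exact c.reg.conj g, R, ⟨c⟩⟩

/-- All pairs commute. -/
def Comm (B S : Subgroup P) : Prop := ∀ b ∈ B, ∀ s ∈ S, b * s = s * b

theorem Comm.symm {B S : Subgroup P} (h : Comm B S) : Comm S B := fun s hs b hb => (h b hb s hs).symm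

theorem Comm.conj {B S : Subgroup P} (h : Comm B S) (g : P) : Comm (cm g B) (cm g S) := by
  rintro _ ⟨b, hb, rfl⟩ _ ⟨s, hs, rfl⟩
  rw [← map_mul, ← map_mul, h b hb s hs]

theorem Comm.of_conj {B S : Subgroup P} {g : P} (h : Comm (cm g B) (cm g S)) : Comm B S := by
  have := h.conj g⁻¹
  rwa [cm_inv_cm, cm_inv_cm] at this

variable {S₀ : Subgroup P → Prop} {cl : Set (Subgroup P)} {C : Subgroup P} {F : Type} [Field F] [Fintype F]

variable (ρ) in
/-- Anchors commute with every member of the Sylow subgroup. -/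
def AnchorComm (T : Sylow 2 P) (M : Subgroup P) (cl : Set (Subgroup P)) : Prop :=
  ∀ (g : P) (A R : Subgroup P) (F : Type) (_ : Field F) (_ : Fintype F),
    Anchor ρ T M cl g A R → Chart ρ M A R F → ∀ S ∈ cl, S ≤ (T : Subgroup P) → Comm A S

/-- All members of one Sylow subgroup commute. -/
theorem Cls.comm_of_members (hc : Cls ρ T M S₀ cl C F) (hsep : AnchorComm ρ T M cl)
    {B S : Subgroup P} (hB : B ∈ cl) (hBT : B ≤ (T : Subgroup P)) (hS : S ∈ cl) (hST : S ≤ (T : Subgroup P)) :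
    Comm B S := by
  classical
  have hd := hc.data
  set T' := (T : Subgroup P) with hT'
  have hconjT : ∀ t ∈ T', ∀ {R : Subgroup P}, R ≤ T' → cm t R ≤ T' := fun t ht R hR =>
    Local.map_conj_le fun r hr => mul_mem (mul_mem ht (hR hr)) (inv_mem ht)
  let Cen : Subgroup P → Prop := fun R => ∀ S ∈ cl, S ≤ T' → Comm R S
  have hCen : ∀ t ∈ T', ∀ {R : Subgroup P}, Cen (cm t R) → Cen R := fun t ht R h S hS hST =>
    (h _ (hd.conj S hS t) (hconjT t ht hST)).of_conj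
  have hout : ∀ g, Peak T M cl g → ∀ R ∈ cl, R ≤ T' → ¬ R ≤ kept T cl g → Cen R := by
    intro g hg
    set X := kept T cl g with hX
    have hN : ∀ R ∈ cl, R ≤ T' → R ≤ Subgroup.normalizer (X : Set P) → ¬ R ≤ X → Cen R := by
      intro R hR hRT hRN hRX S hS hST
      obtain ⟨Q, F', iF, iF', hQ, ⟨c⟩⟩ := exists_anchor hc.sort hc.set_up hd hc.least hg hR hRT hRN hRX
      exact hsep g R Q F' iF iF' hQ c S hS hST
    set Z := sSup {R | R ∈ cl ∧ R ≤ T' ∧ (R ≤ X ∨ Cen R)} with hZ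
    have hZT : Z ≤ T' := sSup_le fun R hR => hR.2.1
    have hcommX : ∀ R, Cen R → ∀ r ∈ R, ∀ R' ∈ cl, R' ≤ T' → cm r R' = R' :=
      fun R hc' r hr R' hR' hR'T => cm_eq_self fun x hx => by
        rw [hc' R' hR' hR'T r hr x hx, mul_inv_cancel_right]
    have hZN : Z ≤ Subgroup.normalizer (X : Set P) := by
      refine sSup_le fun R hR => hR.2.2.elim (fun h => h.trans Subgroup.le_normalizer) fun hc' r hr =>
        ZJFailure.mem_normalizer_of_forall fun x hx => ?_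
      have h1 : X ≤ X.comap (MulAut.conj r).toMonoidHom := sSup_le fun R' hR' y hy => by
        have h2 := hcommX R hc' r hr R' hR'.1 (hR'.2.trans inf_le_left)
        exact (le_kept (g := g) hR'.1 (hR'.2.trans inf_le_left) (hR'.2.trans inf_le_right)) (h2.le ⟨y, hy, rfl⟩)
      exact h1 hx
    intro R₀ hR₀ hR₀T hR₀X
    by_contra hR₀c
    obtain ⟨R, hR, hRT, hRZ, hRN⟩ := exists_normalizing hd hZT
      (sSup_le fun R hR => le_sSup (show R ∈ membersIn cl Z from ⟨hR.1, le_sSup (show R ∈ {R | R ∈ cl ∧ R ≤ T' ∧ (R ≤ X ∨ Cen R)} from hR)⟩))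
      ⟨R₀, hR₀, hR₀T, fun h => hR₀c (hN R₀ hR₀ hR₀T (h.trans hZN) hR₀X)⟩
    have hRX : ¬ R ≤ X := fun h => hRZ (le_sSup (show R ∈ {R | R ∈ cl ∧ R ≤ T' ∧ (R ≤ X ∨ Cen R)} from ⟨hR, hRT, Or.inl h⟩))
    refine hRZ (le_sSup (show R ∈ {R | R ∈ cl ∧ R ≤ T' ∧ (R ≤ X ∨ Cen R)} from ⟨hR, hRT, Or.inr (hN R hR hRT ?_ hRX)⟩))
    intro r hr
    refine ZJFailure.mem_normalizer_of_forall fun x hx => ?_
    have h1 : X ≤ X.comap (MulAut.conj r).toMonoidHom := sSup_le fun R' hR' => by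
      have hR'T : R' ≤ T' := hR'.2.trans inf_le_left
      have hR'X : R' ≤ X := le_kept hR'.1 hR'T (hR'.2.trans inf_le_right)
      have hle : cm r R' ≤ X := by
        by_cases hc' : Cen R'
        · rw [show cm r R' = R' from cm_eq_self fun x hx => by
            rw [(hc' R hR hRT).symm r hr x hx, mul_inv_cancel_right]]
          exact hR'X
        by_contra hle
        refine hc' (hCen r (hRT hr) (hN _ (hd.conj R' hR'.1 r) (hconjT r (hRT hr) hR'T) ?_ hle))
        refine le_trans ?_ hZN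
        refine Local.map_conj_le fun y hy => (Subgroup.mem_normalizer_iff.1 (hRN hr) y).1 ?_
        exact le_sSup (show R' ∈ {R | R ∈ cl ∧ R ≤ T' ∧ (R ≤ X ∨ Cen R)} from ⟨hR'.1, hR'T, Or.inl hR'X⟩) hy
      exact fun y hy => hle ⟨y, hy, rfl⟩
    exact h1 hx
  obtain ⟨g, hg⟩ := exists_peak hd
  by_contra hBS
  let Nc : Set (Subgroup P) := {R | R ∈ cl ∧ R ≤ T' ∧ ¬ Cen R}
  set Y := sSup Nc with hY
  have hBY : B ≤ Y := le_sSup (show B ∈ Nc from ⟨hB, hBT, fun h => hBS (h S hS hST)⟩)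
  have hinvT : ∀ t ∈ T', t ∈ Subgroup.normalizer (Y : Set P) := fun t ht =>
    ZJFailure.mem_normalizer_of_forall fun x hx => by
      have h1 : Y ≤ Y.comap (MulAut.conj t).toMonoidHom := sSup_le fun R hR y hy =>
        le_sSup (show cm t R ∈ Nc from ⟨hd.conj R hR.1 t, hconjT t ht hR.2.1, fun h => hR.2.2 (hCen t ht h)⟩)
          ⟨y, hy, rfl⟩
      exact h1 hx
  have hg' := hg.inv hd
  have hcarry : ∀ R ∈ Nc, cm g R ≤ T' := fun R hR => by
    have h1 : R ≤ kept T cl g⁻¹ := by_contra fun h => hR.2.2 (hout _ hg' R hR.1 hR.2.1 h)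
    rw [kept_inv hd] at h1
    refine (cm_mono h1).trans ?_
    rw [cm_cm, mul_inv_cancel, cm_one]
    exact kept_le g
  have hgY : g ∈ Subgroup.normalizer (Y : Set P) := ZJFailure.mem_normalizer_of_forall fun x hx => by
    have h1 : Y ≤ Y.comap (MulAut.conj g).toMonoidHom := sSup_le fun R hR y hy => by
      refine le_sSup (show cm g R ∈ Nc from ⟨hd.conj R hR.1 g, hcarry R hR, fun hc' => ?_⟩) ⟨y, hy, rfl⟩
      obtain ⟨S', hS', hS'T, hne⟩ : ∃ S' ∈ cl, S' ≤ T' ∧ ¬ Comm R S' := by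
        by_contra hno; push Not at hno; exact hR.2.2 hno
      have hS'N : S' ∈ Nc := ⟨hS', hS'T, fun h => hne (h R hR.1 hR.2.1).symm⟩
      exact hne (hc' _ (hd.conj S' hS' g) (hcarry S' hS'N)).of_conj
    exact h1 hx
  refine hg.1 (hd.over_le _ (fun t ht => hinvT t ht) (fun htop => ?_) hgY)
  have h0 := hd.no_core Y (Subgroup.normalizer_eq_top_iff.1 htop) (T.2.to_le (sSup_le fun R hR => hR.2.1))
  exact hd.ne_bot B hB (le_bot_iff.1 (h0 ▸ hBY))

variable (ρ) in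
/-- The members of one Sylow subgroup and their join. -/
structure Roots (T : Sylow 2 P) (M X : Subgroup P) (cl : Set (Subgroup P)) (F : Type) [Field F] [Fintype F] :
    Prop where
  set_up : Setting ρ T M
  data : ClassData T M cl
  reg : ∀ E ∈ cl, Reg ρ (Fintype.card F) E
  nonempty : (membersIn cl (T : Subgroup P)).Nonempty
  sup_eq : X = sSup (membersIn cl (T : Subgroup P))
  le : X ≤ (T : Subgroup P)
  comm : ∀ a ∈ X, ∀ b ∈ X, a * b = b * a
  pow : ∀ a ∈ X, a ^ 2 = 1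
  closed : ∀ g, cm g X ≤ (T : Subgroup P) → cm g X = X
  normalizer_le : Subgroup.normalizer (X : Set P) ≤ M
  charted : ∀ A ∈ membersIn cl (T : Subgroup P), ∃ R, Nonempty (Chart ρ M A R F)

/-- Charts for all members. -/
theorem Cls.exists_roots (hc : Cls ρ T M S₀ cl C F) (hsep : AnchorComm ρ T M cl) :
    ∃ X, Roots ρ T M X cl F := by
  classical
  have hd := hc.data
  have hs := hc.set_up
  set T' := (T : Subgroup P) with hT'
  set X := sSup (membersIn cl T') with hX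
  have hXT : X ≤ T' := sSup_le fun S hS => hS.2
  have hwc : ∀ g, cm g X ≤ T' → cm g X = X := fun g hg => by
    refine Subgroup.eq_of_le_of_card_ge ?_ (Subgroup.card_map_of_injective (MulAut.conj g).injective).ge
    have h1 : X ≤ X.comap (MulAut.conj g).toMonoidHom := sSup_le fun B hB y hy =>
      le_sSup (show cm g B ∈ membersIn cl T' from ⟨hd.conj B hB.1 g, (cm_mono (le_sSup hB)).trans hg⟩) ⟨y, hy, rfl⟩
    exact Subgroup.map_le_iff_le_comap.2 h1
  have hCX : C ≤ X := le_sSup (show C ∈ membersIn cl T' from ⟨hc.mem, hc.le⟩)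
  have hNX : Subgroup.normalizer (X : Set P) ≤ M := by
    refine hs.over_le _ (fun t ht => Local.mem_normalizer_of_map_conj_eq (hwc t (Local.map_conj_le fun r hr =>
      mul_mem (mul_mem ht (hXT hr)) (inv_mem ht)))) fun e => ?_
    exact hd.ne_bot C hc.mem (le_bot_iff.1 (hs.no_core X (Subgroup.normalizer_eq_top_iff.1 e) (T.2.to_le hXT) ▸ hCX))
  have hXc : ∀ {B : Subgroup P}, B ∈ membersIn cl T' → X ≤ Subgroup.centralizer (B : Set P) := fun {B} hB =>
    sSup_le fun S hS s hs' => Subgroup.mem_centralizer_iff.2 fun b hb =>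
      hc.comm_of_members hsep hB.1 hB.2 hS.1 hS.2 b hb s hs'
  have hcomm : ∀ a ∈ X, ∀ b ∈ X, a * b = b * a := by
    have h1 : X ≤ Subgroup.centralizer (X : Set P) := by
      refine sSup_le fun B hB b hb => Subgroup.mem_centralizer_iff.2 fun x hx => ?_
      exact (Subgroup.mem_centralizer_iff.1 (hXc hB hx) b hb).symm
    exact fun a ha b hb => (Subgroup.mem_centralizer_iff.1 (h1 ha) b hb).symm
  refine ⟨X, hs, hd, hc.reg, ⟨C, hc.mem, hc.le⟩, rfl, hXT, hcomm, ?_, hwc, hNX, fun S hS => ?_⟩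
  · let K : Subgroup P :=
      { carrier := {a | a ∈ X ∧ a ^ 2 = 1}
        one_mem' := ⟨one_mem _, one_pow _⟩
        mul_mem' := fun {a b} ha hb =>
          ⟨mul_mem ha.1 hb.1, by rw [Commute.mul_pow (hcomm a ha.1 b hb.1), ha.2, hb.2, one_mul]⟩
        inv_mem' := fun {a} ha => ⟨inv_mem ha.1, by rw [inv_pow, ha.2, inv_one]⟩ }
    have h1 : X ≤ K := sSup_le fun B hB b hb => ⟨(le_sSup hB : B ≤ X) hb, (hc.least B hB.1).1.1.pow b hb⟩
    exact fun a ha => (h1 ha).2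
  obtain ⟨g, hg⟩ := hc.conj_of S hS.1
  have hCm : C ∈ membersIn cl T' := ⟨hc.mem, hc.le⟩
  set Z := Subgroup.centralizer (S : Set P) with hZ
  have hgX : cm g X ≤ Z := by
    rw [hZ, ← hg]
    refine Local.map_conj_le fun x hx => Subgroup.mem_centralizer_iff.2 ?_
    rintro _ ⟨b, hb, rfl⟩
    show g * b * g⁻¹ * (g * x * g⁻¹) = g * x * g⁻¹ * (g * b * g⁻¹)
    have := Subgroup.mem_centralizer_iff.1 (hXc hCm hx) b hb
    calc g * b * g⁻¹ * (g * x * g⁻¹) = g * (b * x) * g⁻¹ := by group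
      _ = g * (x * b) * g⁻¹ := by rw [this]
      _ = _ := by group
  obtain ⟨Q, hQ⟩ := ((T.2.to_le hXT).of_equiv (Subgroup.subgroupOfEquivOfLe (hXc hS)).symm).exists_le_sylow (G := ↥Z)
  obtain ⟨Q', hQ'⟩ := (((T.2.to_le hXT).map (MulAut.conj g).toMonoidHom).of_equiv
    (Subgroup.subgroupOfEquivOfLe hgX).symm).exists_le_sylow (G := ↥Z)
  obtain ⟨k, hk⟩ := MulAction.exists_smul_eq ↥Z Q' Q
  set Qm := (Q : Subgroup ↥Z).map Z.subtype with hQm
  have hXQ : X ≤ Qm := fun x hx => ⟨⟨x, hXc hS hx⟩, hQ hx, rfl⟩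
  have hkXQ : cm ((k : P) * g) X ≤ Qm := by
    rw [← cm_cm]
    rintro _ ⟨y, hy, rfl⟩
    refine ⟨k * ⟨y, hgX hy⟩ * k⁻¹, ?_, rfl⟩
    rw [← hk, Sylow.coe_subgroup_smul]
    exact ⟨⟨y, hgX hy⟩, hQ' hy, rfl⟩
  obtain ⟨a, ha⟩ := ZJFailure.exists_le_cm T ((Q.2 : IsPGroup 2 (Q : Subgroup ↥Z)).map Z.subtype)
  have h1 : cm a⁻¹ X = X := hwc _ ((cm_mono (hXQ.trans ha)).trans (cm_inv_cm a T').le)
  have h2 : cm (a⁻¹ * ((k : P) * g)) X = X := hwc _ (by
    rw [← cm_cm]; exact (cm_mono (hkXQ.trans ha)).trans (cm_inv_cm a T').le)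
  have hm : (k : P) * g ∈ M := by
    refine hNX (Local.mem_normalizer_of_map_conj_eq (cm_injective a⁻¹ ?_))
    rw [cm_cm]; exact h2.trans h1.symm
  have hkS : cm ((k : P) * g) C = S := by
    rw [← cm_cm, hg]
    exact cm_eq_self fun b hb => by
      rw [← Subgroup.mem_centralizer_iff.1 k.2 b hb, mul_inv_cancel_right]
  obtain ⟨R, ⟨c⟩⟩ := hc.chart
  have c' := c.conj ((k : P) * g)
  rw [hkS, show cm ((k : P) * g) M = M from Local.map_conj_eq_of_mem_normalizer (Subgroup.le_normalizer hm)] at c'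
  exact ⟨_, ⟨c'⟩⟩

end CfsgLib.RootTwo
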