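import Cfsg.Agent.Lib.RootTwo.Shear
import Cfsg.Agent.Lib.RootTwo.Members

/-!
A regular subgroup of the core group is the charted subgroup or is trivial on its halves.
-/

set_option autoImplicit false
set_option linter.unusedSectionVars false
set_option linter.unusedVariables false
set_option linter.style.haveILetI false

namespace CfsgLib.RootTwo

open CfsgLib CfsgLib.RootCommute CfsgLib.StrongFusion
open CfsgLib.SL2Pair (fix)

universe u v

variable {P : Type u} [Group P] [Finite P] {U : Type v} [AddCommGroup U] [Finite U] {ρ : P →* AddMonoid.End U}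
  {T : Sylow 2 P} {M : Subgroup P}

namespace Chart

variable {F : Type} [Field F] [Fintype F] {A R : Subgroup P} (c : Chart ρ M A R F)
  (hs : Setting ρ T M) (hq : 2 < Fintype.card F)
include c hs hq

/-- **The cases.** -/
theorem cases {B : Subgroup P} (rB : Reg ρ (Fintype.card F) B) (hB : B ≤ zg ρ M) :
    B = A ∨ ∀ b ∈ B, (∀ y, ρ b (c.ey y) = c.ey y) ∧ ∀ u, c.cx (dl ρ b u) = 0 := by
  classical
  choose t ht hd using fun b : B => c.shear hs hq (hB b.2)
  have hav : ∀ s y, dl ρ (c.av s) (c.ey y) = c.ex (s * y) + c.L (s * y ^ 2) := fun s y => by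
    rw [dl_apply, c.a_ey']; abel
  have hcx : ∀ (b : B) u, c.cx (dl ρ (b : P) u) = t b * c.cy u := fun b u => by
    rw [c.dl_split hs hq (hB b.2), map_add, hd b, add_zero, dl_apply, ht b, ← dl_apply, hav, map_add, c.cx_ex,
      (c.coords_of_fix (c.L_mem _)).1, add_zero]
  by_cases h0 : ∀ b, t b = 0
  · refine Or.inr fun b hb => ⟨fun y => ?_, fun u => ?_⟩
    · rw [ht ⟨b, hb⟩, h0, c.av_zero, act_one]
    · rw [hcx ⟨b, hb⟩, h0, zero_mul]
  refine Or.inl ?_
  push Not at h0
  obtain ⟨b, hb⟩ := h0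
  have hb1 : (b : P) ≠ 1 := fun e => hb (by
    have h := hcx b (c.ey 1)
    rw [e, dl_apply, act_one, sub_self, map_zero, c.cy_ey, mul_one] at h
    exact h.symm)
  have hle : fix ρ B ≤ fix ρ A := fun u hu => c.fix_of_cy (by
    have h := hcx b u
    rw [dl_apply, hu _ b.2, sub_self, map_zero, eq_comm, mul_eq_zero] at h
    exact h.resolve_left hb)
  have heq : fix ρ B = fix ρ A := AddSubgroup.eq_of_le_of_card_ge hle
    (Nat.le_of_eq (Nat.eq_of_mul_eq_mul_left Fintype.card_pos (c.idx.symm.trans rB.idx)))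
  refine Subgroup.eq_of_le_of_card_ge (fun b' hb' => ?_) (c.card_eq.trans rB.card.symm).le
  have hbz := hB hb'
  have hrest : ∀ u, dl ρ b' (c.rest u) = 0 := fun u => by
    have h : c.rest u ∈ fix ρ B := heq ▸ fix_antitone ρ le_sup_left (c.rest_mem u)
    rw [dl_apply, h _ hb', sub_self]
  have haz := c.mem_zg hs hq (c.av_mem (t ⟨b', hb'⟩))
  rw [show b' = c.av (t ⟨b', hb'⟩) from act_ext ρ hs.inj fun u => by
    rw [act_eq_dl b', act_eq_dl (c.av _), c.dl_split hs hq hbz, c.dl_split hs hq haz, hrest,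
      dl_apply b', ht ⟨b', hb'⟩, ← dl_apply, dl_apply (c.av _) (c.rest u),
      c.a_fix _ (v := c.rest u) (c.rest_mem u), sub_self]]
  exact c.av_mem _

end Chart

end CfsgLib.RootTwo
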