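import Cfsg.Agent.Lib.RootTwo.Good
import Mathlib.LinearAlgebra.Dual.Lemmas

/-!
For fields with more than two elements the good functionals kill the displacements of every chart,
so the core lies between the displacements and the fixed vectors.
-/

set_option autoImplicit false
set_option linter.unusedSectionVars false
set_option linter.unusedVariables false
set_option linter.style.haveILetI false

namespace CfsgLib.RootTwo

open CfsgLib CfsgLib.RootCommute CfsgLib.StrongFusion
open CfsgLib.SL2Pair (fix)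

universe u v

/-- A nonzero additive functional on a finite field of characteristic two represents all of them. -/
theorem exists_rep {F : Type} [Field F] [Fintype F] (h2 : (2 : F) = 0) {ν : F →+ ZMod 2} (hν : ν ≠ 0)
    (φ : F →+ ZMod 2) : ∃ c, ∀ x, φ x = ν (c * x) := by
  letI : Module (ZMod 2) F := AddCommGroup.zmodModule fun x => by rw [two_nsmul, ← two_mul, h2, zero_mul]
  let e : (F →+ ZMod 2) ≃ Module.Dual (ZMod 2) F :=
    { toFun := fun g => g.toZModLinearMap 2
      invFun := fun g => g.toAddMonoidHom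
      left_inv := fun g => by ext; rfl
      right_inv := fun g => by ext; rfl }
  have hcard : Nat.card F = Nat.card (F →+ ZMod 2) := by
    rw [Nat.card_congr e, Module.natCard_eq_pow_finrank (K := ZMod 2) (V := Module.Dual (ZMod 2) F),
      Subspace.dual_finrank_eq, ← Module.natCard_eq_pow_finrank]
  let Ψ : F → (F →+ ZMod 2) := fun c => ν.comp (AddMonoidHom.mulLeft c)
  have hinj : Function.Injective Ψ := fun a b hab => by
    by_contra hne
    refine hν ?_
    ext z
    have := DFunLike.congr_fun hab ((a - b)⁻¹ * z)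
    show ν z = 0
    have h1 : ν ((a - b) * ((a - b)⁻¹ * z)) = 0 := by
      rw [sub_mul, map_sub, sub_eq_zero]; exact this
    rwa [← mul_assoc, mul_inv_cancel₀ (sub_ne_zero.2 hne), one_mul] at h1
  haveI : Finite (F →+ ZMod 2) := Finite.of_injective _ DFunLike.coe_injective
  obtain ⟨c, hc⟩ := ((Nat.bijective_iff_injective_and_card Ψ).2 ⟨hinj, hcard⟩).2 φ
  exact ⟨c, fun x => (DFunLike.congr_fun hc x).symm⟩

variable {P : Type u} [Group P] [Finite P] {U : Type v} [AddCommGroup U] [Finite U] {ρ : P →* AddMonoid.End U}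
  {T : Sylow 2 P} {M : Subgroup P}

namespace Chart

variable {F : Type} [Field F] [Fintype F] {A R : Subgroup P} (c : Chart ρ M A R F)
include c

theorem lam_ne_one (hq : 2 < Fintype.card F) : c.lam ≠ 1 := fun e => by
  classical
  have h : (Finset.univ : Finset F) ⊆ {0, 1} := fun t _ => by
    by_cases ht : t = 0
    · simp [ht]
    · obtain ⟨k, rfl⟩ := c.lam_gen t ht
      simp [e]
  exact absurd ((Finset.card_le_card h).trans Finset.card_le_two) (by rw [Finset.card_univ]; omega)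

variable (hU : ∀ x : U, 2 • x = 0) (hq : 2 < Fintype.card F) {f : U →+ ZMod 2} (hf : funStab ρ f ≤ M)
include hU hq hf

/-- The reflected translates kill the functional of no nontrivial element. -/
theorem no_kill {b t : F} (hb : b ≠ 0) (ht : t ≠ 0)
    (h : ∀ y, f (c.ex (t * y)) + f (c.ey (b * (t * y))) + f (c.L (b * (t * y) ^ 2)) + f (c.L (t * y ^ 2)) = 0) :
    False := by
  have hmem : c.rv b * c.av t * c.rv b ∈ M := hf fun u => by
    set v := ρ (c.rv b) u with hv
    have hru : f (ρ (c.rv b) v) = f u := by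
      rw [hv, ← act_mul, ← c.rv_add, c.add_self_F, c.rv_zero, act_one]
    have hav : ρ (c.av t) v = v + c.ex (t * c.cy v) + c.L (t * c.cy v ^ 2) := by rw [c.a_act, c.bet_eq]
    rw [act_mul, act_mul, ← hv, hav]
    simp only [map_add]
    rw [c.r_ex' hU hq, c.r_fix b (c.L_mem _)]
    simp only [map_add]
    rw [hru]
    have := h (c.cy v)
    calc f u + (f (c.ex (t * c.cy v)) + f (c.ey (b * (t * c.cy v))) + f (c.L (b * (t * c.cy v) ^ 2))) +
        f (c.L (t * c.cy v ^ 2))
        = f u + (f (c.ex (t * c.cy v)) + f (c.ey (b * (t * c.cy v))) + f (c.L (b * (t * c.cy v) ^ 2)) +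
            f (c.L (t * c.cy v ^ 2))) := by abel
      _ = f u := by rw [this, add_zero]
  have hΓ : c.rv b * c.av t * c.rv b ∈ A ⊔ R := mul_mem (mul_mem (Subgroup.mem_sup_right (c.rv_mem _))
    (Subgroup.mem_sup_left (c.av_mem _))) (Subgroup.mem_sup_right (c.rv_mem _))
  have h1 := c.keep hΓ hmem (c.cy_ex 1)
  rw [act_mul, act_mul, c.cy_r, c.cy_a, c.cx_a, c.cy_r, c.cx_r, c.cx_ex, c.cy_ex] at h1
  have h2 : b * (t * b) = 0 := by
    rw [← h1]
    linear_combination (-b) * c.char_two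
  exact mul_ne_zero hb (mul_ne_zero ht hb) h2

theorem fun_L (z : F) : f (c.L z) = 0 := by
  classical
  set ν : F →+ ZMod 2 := f.comp c.L
  set μ : F →+ ZMod 2 := f.comp c.ex
  set η : F →+ ZMod 2 := f.comp c.ey
  by_contra hz
  have hν : ν ≠ 0 := fun e => hz (DFunLike.congr_fun e z)
  let μb : F → (F →+ ZMod 2) := fun b => μ + η.comp (AddMonoidHom.mulLeft b) +
    AddMonoidHom.mk' (fun x => ν (b * x ^ 2)) fun x y => by
      rw [← map_add]; congr 1
      linear_combination (b * x * y) * c.char_two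
  have hμb : ∀ b x, μb b x = μ x + η (b * x) + ν (b * x ^ 2) := fun b x => rfl
  have h0 : ∀ b, b ≠ 0 → μb b = 0 := by
    intro b hb
    obtain ⟨d, hd⟩ := exists_rep c.char_two hν (μb b)
    by_contra hne
    have hd0 : d ≠ 0 := fun e => hne (AddMonoidHom.ext fun x => by rw [hd, e, zero_mul, map_zero]; rfl)
    let φ : F →+ F := AddMonoidHom.mk' (fun v => v ^ 2 + v) fun x y => by
      linear_combination (x * y) * c.char_two
    have hφ : φ.range ≠ ⊤ := fun e => by
      have hs : Function.Surjective φ := AddMonoidHom.range_eq_top.1 e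
      have h1 : φ 1 = φ 0 := by
        show (1 : F) ^ 2 + 1 = 0 ^ 2 + 0
        linear_combination c.char_two
      exact one_ne_zero ((Finite.injective_iff_surjective.2 hs) h1)
    obtain ⟨ψ, hψ0, hψ⟩ := exists_functional (fun x => by rw [two_nsmul, c.add_self_F]) hφ
    obtain ⟨k, hk⟩ := exists_rep c.char_two hν ψ
    have hk0 : k ≠ 0 := fun e => hψ0 (AddMonoidHom.ext fun x => by rw [hk, e, zero_mul, map_zero]; rfl)
    refine c.no_kill hU hq hf hb (t := k * (d ^ 2)⁻¹) (mul_ne_zero hk0 (inv_ne_zero (pow_ne_zero 2 hd0))) fun y => ?_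
    show μ _ + η _ + ν _ + ν _ = 0
    have := hψ _ (⟨y * d⁻¹, rfl⟩ : φ (y * d⁻¹) ∈ φ.range)
    rw [hk] at this
    rw [← hμb, hd, ← map_add, ← this]
    congr 1
    show _ = k * ((y * d⁻¹) ^ 2 + y * d⁻¹)
    field_simp
    ring
  have hl := c.lam_ne_one hq
  have hl1 : (1 : F) + c.lam ≠ 0 := fun e => hl (by linear_combination e - c.char_two)
  have hμ : ∀ x, μ x = 0 := fun x => by
    have e1 := DFunLike.congr_fun (h0 1 one_ne_zero) x
    have e2 := DFunLike.congr_fun (h0 c.lam c.lam_ne) x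
    have e3 := DFunLike.congr_fun (h0 _ hl1) x
    rw [hμb, AddMonoidHom.zero_apply] at e1 e2 e3
    simp only [add_mul, map_add] at e3
    linear_combination e1 + e2 - e3
  have hην : ∀ b x, b ≠ 0 → η (b * x) + ν (b * x ^ 2) = 0 := fun b x hb => by
    have e := DFunLike.congr_fun (h0 b hb) x
    rwa [hμb, hμ, zero_add, AddMonoidHom.zero_apply] at e
  refine hν (AddMonoidHom.ext fun w => ?_)
  show ν w = 0
  have hone : ∀ t, η t + ν t = 0 := fun t => by
    by_cases ht : t = 0
    · rw [ht, map_zero, map_zero, add_zero]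
    · simpa using hην t 1 ht
  by_cases hw : w = 0
  · rw [hw, map_zero]
  set t := w * (1 + c.lam)⁻¹
  have ht : t ≠ 0 := mul_ne_zero hw (inv_ne_zero hl1)
  have e := hην (t * c.lam⁻¹) c.lam (mul_ne_zero ht (inv_ne_zero c.lam_ne))
  have hcl := c.lam_ne
  rw [show t * c.lam⁻¹ * c.lam = t by field_simp, show t * c.lam⁻¹ * c.lam ^ 2 = t * c.lam by field_simp] at e
  have hw' : w = t + t * c.lam := by
    show w = w * (1 + c.lam)⁻¹ + w * (1 + c.lam)⁻¹ * c.lam
    field_simp
  have h22 : ∀ a : ZMod 2, a + a = 0 := by decide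
  rw [hw', map_add]
  linear_combination e + hone t - h22 (η t)

theorem fun_ex (x : F) : f (c.ex x) = 0 := by
  set η : F →+ ZMod 2 := f.comp c.ey
  have hη : η ≠ 0 := fun e => c.not_le fun r hr => hf fun u => by
    obtain ⟨t, rfl⟩ := c.rv_surj r hr
    have h1 : ρ (c.rv t) u - u = ρ (c.rv t) (c.ex (c.cx u)) - c.ex (c.cx u) := c.r_disp hr (by rw [c.cx_ex])
    rw [← sub_eq_zero, ← map_sub, h1, c.r_ex' hU hq, add_assoc, add_sub_cancel_left, map_add, c.fun_L hU hq hf,
      add_zero]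
    exact DFunLike.congr_fun e _
  by_contra hx
  obtain ⟨d, hd⟩ := exists_rep c.char_two hη (f.comp c.ex)
  have hd0 : d ≠ 0 := fun e => hx (by rw [← AddMonoidHom.comp_apply, hd, e, zero_mul, map_zero])
  refine c.no_kill hU hq hf hd0 one_ne_zero fun y => ?_
  rw [← AddMonoidHom.comp_apply f c.ex, hd, c.fun_L hU hq hf, c.fun_L hU hq hf, one_mul, add_zero, add_zero]
  have h22 : ∀ a : ZMod 2, a + a = 0 := by decide
  exact h22 _

theorem fun_ey : f.comp c.ey ≠ 0 := fun e => c.not_le fun r hr => hf fun u => by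
  obtain ⟨t, rfl⟩ := c.rv_surj r hr
  have h1 : ρ (c.rv t) u - u = ρ (c.rv t) (c.ex (c.cx u)) - c.ex (c.cx u) := c.r_disp hr (by rw [c.cx_ex])
  rw [← sub_eq_zero, ← map_sub, h1, c.r_ex' hU hq, add_assoc, add_sub_cancel_left, map_add, c.fun_L hU hq hf,
    add_zero]
  exact DFunLike.congr_fun e _

omit hf

/-- The core contains the displacements of `A`. -/
theorem img_le_core : img ρ A ≤ core ρ M := (img_le ρ).2 fun a ha u f hf => by
  obtain ⟨t, rfl⟩ := c.av_surj a ha
  rw [c.a_act, c.bet_eq, add_assoc, add_sub_cancel_left, map_add, c.fun_ex hU hq hf, c.fun_L hU hq hf, add_zero]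

/-- The core is fixed by `A`. -/
theorem cy_core (hs : Setting ρ T M) {u : U} (hu : u ∈ core ρ M) : c.cy u = 0 := by
  by_contra hy
  obtain ⟨f, -, hf⟩ := hs.exists_good
  refine c.fun_ey hU hq hf (AddMonoidHom.ext fun w => ?_)
  show f (c.ey w) = 0
  by_cases hw : w = 0
  · rw [hw, map_zero, map_zero]
  have hl := c.lam_ne_one hq
  have hl1 : (1 : F) + c.lam⁻¹ ≠ 0 := fun e => hl (inv_eq_one.1 (by linear_combination e - c.char_two))
  obtain ⟨k, hk⟩ := c.lam_gen (w * (c.cy u * (1 + c.lam⁻¹))⁻¹)⁻¹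
    (inv_ne_zero (mul_ne_zero hw (inv_ne_zero (mul_ne_zero hy hl1))))
  have key : ∀ k : ℕ, ρ (c.h ^ k) u ∈ core ρ M ∧ c.cy (ρ (c.h ^ k) u) = c.lam⁻¹ ^ k * c.cy u ∧
      ρ (c.h ^ k) u - c.ex (c.cx (ρ (c.h ^ k) u)) - c.ey (c.cy (ρ (c.h ^ k) u)) =
        u - c.ex (c.cx u) - c.ey (c.cy u) := by
    intro k
    induction k with
    | zero => rw [pow_zero, act_one, pow_zero, one_mul]; exact ⟨hu, rfl, rfl⟩
    | succ k ih =>
      obtain ⟨h1, h2, h3⟩ := ih
      rw [pow_succ', act_mul]
      refine ⟨core_inv c.h_memM h1, by rw [c.cy_h, h2, pow_succ', mul_assoc], ?_⟩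
      rw [c.cx_h, c.cy_h, ← c.h_ex, ← c.h_ey, ← map_sub, ← map_sub, h3, c.h_fix (c.rest_mem u)]
  obtain ⟨hm, hcy, hrest⟩ := key k
  obtain ⟨hm', hcy', hrest'⟩ := key (k + 1)
  have e : ∀ v : U, f v = f (c.ex (c.cx v)) + f (c.ey (c.cy v)) + f (v - c.ex (c.cx v) - c.ey (c.cy v)) := fun v => by
    rw [← map_add, ← map_add]; congr 1; abel
  have h1 := e (ρ (c.h ^ k) u)
  have h2 := e (ρ (c.h ^ (k + 1)) u)
  rw [hm f hf, c.fun_ex hU hq hf, hrest, hcy, zero_add] at h1
  rw [hm' f hf, c.fun_ex hU hq hf, hrest', hcy', zero_add] at h2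
  have hw' : w = c.lam⁻¹ ^ k * c.cy u + c.lam⁻¹ ^ (k + 1) * c.cy u := by
    have h3 : c.lam⁻¹ ^ k = w * (c.cy u * (1 + c.lam⁻¹))⁻¹ := by rw [inv_pow, ← hk, inv_inv]
    rw [pow_succ, h3]
    have h4 : w * (c.cy u * (1 + c.lam⁻¹))⁻¹ * (c.cy u * (1 + c.lam⁻¹)) = w := by
      rw [mul_assoc, inv_mul_cancel₀ (mul_ne_zero hy hl1), mul_one]
    conv_lhs => rw [← h4]
    ring
  have h22 : ∀ a : ZMod 2, a + a = 0 := by decide
  rw [hw', map_add, map_add]
  linear_combination -h1 - h2 - h22 (f (u - c.ex (c.cx u) - c.ey (c.cy u)))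

/-- The stabiliser of the core lies in `M`. -/
theorem subStab_core_le (hs : Setting ρ T M) : subStab ρ (core ρ M) ≤ M := by
  refine hs.over_le _ (fun t ht u => ?_) fun e => ?_
  · refine ⟨fun h => ?_, core_inv (hs.le_M ht)⟩
    have := core_inv (hs.le_M (inv_mem ht)) h
    rwa [act_inv] at this
  · set Z := flag ρ ⊥ (core ρ M)
    have hn : Z.Normal := Subgroup.normalizer_eq_top_iff.1 (eq_top_iff.2 (e ▸ le_normalizer_flag
      (fun e _ x hx => by rw [AddSubgroup.mem_bot.1 hx, map_zero]; exact zero_mem _) fun e he x hx => (he x).2 hx))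
    have hZ := hs.no_core Z hn (isPGroup_flag hs.inj hU _ _)
    have hA : c.av 1 ∈ Z := ⟨fun x hx => by rw [AddSubgroup.mem_bot.1 hx, map_zero],
      fun x hx => by rw [c.fix_of_cy (c.cy_core hU hq hs hx) _ (c.av_mem 1), sub_self]; exact zero_mem _,
      fun x => c.img_le_core hU hq (sub_mem_img ρ (c.av_mem 1) x)⟩
    rw [hZ, Subgroup.mem_bot, ← c.av_zero] at hA
    exact one_ne_zero (c.av_injective hA)

end Chart

end CfsgLib.RootTwo
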