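import Cfsg.Agent.Lib.RootTwo.Natural

/-!
The chart of a pair, and charts carried along conjugation and inclusion.
-/

set_option autoImplicit false
set_option linter.unusedSectionVars false
set_option linter.unusedVariables false
set_option linter.style.haveILetI false
set_option maxHeartbeats 1000000

namespace CfsgLib.RootTwo

open Cfsg CfsgLib CfsgLib.RootCommute
open CfsgLib.SL2Pair (fix)
open CfsgLib.StrongFusion (cm cm_cm cm_mono cm_inv_cm)

universe u v

variable {Γ : Type u} [Group Γ] [Finite Γ] {U : Type v} [AddCommGroup U] [Finite U] {σ : Γ →* AddMonoid.End U}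

/-- **The chart of a pair.** -/
theorem exists_chart (hσ : Function.Injective σ) (hU : ∀ x : U, 2 • x = 0) (T₀ : Sylow 2 Γ)
    {M₀ : Subgroup Γ} (hM₀ : M₀ ≠ ⊤) (hT₀ : (T₀ : Subgroup Γ) ≤ M₀) {A : Subgroup Γ}
    (hA : A ≤ (T₀ : Subgroup Γ)) (hne : A ≠ ⊥) (hcomm : ∀ a ∈ A, ∀ b ∈ A, a * b = b * a)
    (hpow : ∀ a ∈ A, a ^ 2 = 1) (hoff : Nat.card U ≤ mu σ A)
    (hmin : ∀ E : Subgroup Γ, E ≤ A → E ≠ ⊥ → E ≠ A → mu σ E < mu σ A)
    (hgen : ∀ x, x ∉ M₀ → A ⊔ cm x A = ⊤) (hmove : ∃ w ∈ fix σ (T₀ : Subgroup Γ), ∃ g, σ g w ≠ w) :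
    ∃ (R : Subgroup Γ) (F : Type) (_ : Field F) (_ : Fintype F),
      A ⊔ R = ⊤ ∧ (∃ x, R = cm x A) ∧ Nonempty (Chart σ M₀ A R F) := by
  classical
  obtain ⟨hquad, F, iF, iF', π, m, hFc, hiso, hπs, hπk, hπm, hm1, hmv⟩ :=
    exists_coords hσ hU T₀ hM₀ hT₀ hA hne hcomm hpow hoff hmin hgen hmove
  have hm1' : ∀ c, m 1 c = c := fun c => by
    obtain ⟨u, rfl⟩ := hπs c; rw [← hπm, act_one]
  have hmm : ∀ g k c, m (g * k) c = m g (m k c) := fun g k c => by
    obtain ⟨u, rfl⟩ := hπs c; rw [← hπm, ← hπm, ← hπm, act_mul]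
  have hmi : ∀ g c, m g⁻¹ (m g c) = c := fun g c => by rw [← hmm, inv_mul_cancel, hm1']
  have hinj : ∀ {g k}, (∀ c, m g c = m k c) → g = k := fun {g k} h => by
    refine (inv_mul_eq_one.1 (hm1 (g := k⁻¹ * g) (LinearMap.ext fun c => ?_))).symm
    show m (k⁻¹ * g) c = c
    rw [hmm, h, hmi]
  -- the fixed line
  have hne' : ∀ a ∈ A, a ≠ 1 → (m a - 1) ≠ 0 ∧ (m a - 1) ∘ₗ (m a - 1) = 0 := fun a ha ha1 => by
    refine ⟨fun h => ha1 (hm1 (sub_eq_zero.1 h)), LinearMap.ext fun c => ?_⟩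
    obtain ⟨x, rfl⟩ := hπs c
    show m a (m a (π x) - π x) - (m a (π x) - π x) = 0
    rw [← hπm, ← map_sub, ← hπm, ← map_sub, hquad a ha x a ha, sub_self, map_zero]
  obtain ⟨a₀, ha₀, ha₀1⟩ : ∃ a ∈ A, a ≠ 1 := by
    by_contra h; push Not at h; exact hne ((Subgroup.eq_bot_iff_forall A).2 h)
  set L := LinearMap.ker (m a₀ - 1) with hL
  obtain ⟨hL1, hL2⟩ := line_of_quad _ (hne' a₀ ha₀ ha₀1).1 (hne' a₀ ha₀ ha₀1).2
  have hline : ∀ a ∈ A, a ≠ 1 → LinearMap.ker (m a - 1) = L ∧ LinearMap.range (m a - 1) = L := by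
    intro a ha ha1
    obtain ⟨h1, h2⟩ := line_of_quad _ (hne' a ha ha1).1 (hne' a ha ha1).2
    have h3 : LinearMap.range (m a₀ - 1) ≤ LinearMap.ker (m a - 1) := by
      rintro _ ⟨c, rfl⟩
      obtain ⟨x, rfl⟩ := hπs c
      show m a (m a₀ (π x) - π x) - (m a₀ (π x) - π x) = 0
      rw [← hπm, ← map_sub, ← hπm, ← map_sub, hquad a₀ ha₀ x a ha, sub_self, map_zero]
    have h4 : L = LinearMap.ker (m a - 1) :=
      SetLike.coe_injective (Set.eq_of_subset_of_ncard_le ((hL.trans hL1.symm).le.trans h3) (by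
        rw [← Nat.card_coe_set_eq, ← Nat.card_coe_set_eq]
        exact (h2.trans hL2.symm).le) (Set.toFinite _))
    exact ⟨h4.symm, h1.trans h4.symm⟩
  have hfixL : ∀ a ∈ A, ∀ d ∈ L, m a d = d := fun a ha d hd => by
    by_cases ha1 : a = 1
    · rw [ha1, hm1']
    · rw [← (hline a ha ha1).1] at hd
      exact sub_eq_zero.1 hd
  obtain ⟨x₀, hx₀⟩ : ∃ x, x ∉ M₀ := by
    by_contra h; push Not at h; exact hM₀ (eq_top_iff.2 fun x _ => h x)
  obtain ⟨c₀, hc₀, hc₀0⟩ : ∃ c ∈ L, c ≠ 0 := by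
    by_contra hno; push Not at hno
    refine (hne' a₀ ha₀ ha₀1).1 (LinearMap.ext fun c => ?_)
    rw [hno _ (hL1.le ⟨c, rfl⟩ : (m a₀ - 1) c ∈ L)]
    rfl
  set d₀ := m x₀ c₀ with hd₀
  have hd₀L : d₀ ∉ L := fun hd => by
    obtain ⟨g, hg⟩ := hmv d₀ (fun e => hc₀0 (by rw [← hmi x₀ c₀, ← hd₀, e, map_zero]))
    let H : Subgroup Γ :=
      { carrier := {k | m k d₀ = d₀}
        one_mem' := hm1' d₀
        mul_mem' := fun {k l} (hk : m k d₀ = d₀) (hl : m l d₀ = d₀) => show m (k * l) d₀ = d₀ by rw [hmm, hl, hk]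
        inv_mem' := fun {k} (hk : m k d₀ = d₀) => show m k⁻¹ d₀ = d₀ by
          conv_lhs => rw [← hk, hmi] }
    have hle : A ⊔ cm x₀ A ≤ H := sup_le (fun a ha => hfixL a ha _ hd) (by
      rintro _ ⟨a, ha, rfl⟩
      show m (x₀ * a * x₀⁻¹) d₀ = d₀
      rw [hmm, hmm, hd₀, hmi, hfixL a ha _ hc₀])
    exact hg (hle ((hgen x₀ hx₀).ge (Subgroup.mem_top g)))
  have hLline : ∀ v ∈ L, ∃ t : F, v = t • c₀ := fun v hv => by
    obtain ⟨t, ht⟩ := ((Nat.bijective_iff_injective_and_card (fun t : F => (⟨t • c₀, L.smul_mem t hc₀⟩ : L))).2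
      ⟨fun s t e => smul_left_injective F hc₀0 (congrArg Subtype.val e),
        (hL ▸ hL2.symm : Nat.card F = Nat.card L)⟩).2 ⟨v, hv⟩
    exact ⟨t, (congrArg Subtype.val ht).symm⟩
  have hzero : ∀ s t : F, s • c₀ + t • d₀ = 0 → s = 0 ∧ t = 0 := by
    intro s t hst
    have ht : t = 0 := by
      by_contra ht
      refine hd₀L ?_
      have h1 : t • d₀ ∈ L := by rw [eq_neg_of_add_eq_zero_right hst]; exact L.neg_mem (L.smul_mem s hc₀)
      have := L.smul_mem t⁻¹ h1
      rwa [inv_smul_smul₀ ht] at this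
    rw [ht, zero_smul, add_zero, smul_eq_zero] at hst
    exact ⟨hst.resolve_right hc₀0, ht⟩
  have hcoord : ∀ v : Fin 2 → F, ∃ s t : F, v = s • c₀ + t • d₀ := fun v => by
    obtain ⟨⟨s, t⟩, h⟩ := ((Nat.bijective_iff_injective_and_card (fun z : F × F => z.1 • c₀ + z.2 • d₀)).2
      ⟨fun z w e => by
        obtain ⟨h1, h2⟩ := hzero (z.1 - w.1) (z.2 - w.2) (by
          rw [sub_smul, sub_smul, sub_add_sub_comm]; exact sub_eq_zero.2 e)
        exact Prod.ext (sub_eq_zero.1 h1) (sub_eq_zero.1 h2),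
        by rw [Nat.card_prod, Nat.card_fun, Nat.card_fin, sq]⟩).2 v
    exact ⟨s, t, h.symm⟩
  -- the parameters of `A`
  have hpar : ∀ a ∈ A, ∃ t : F, m a d₀ = t • c₀ + d₀ := fun a ha => by
    by_cases ha1 : a = 1
    · exact ⟨0, by rw [ha1, hm1', zero_smul, zero_add]⟩
    obtain ⟨t, ht⟩ := hLline _ ((hline a ha ha1).2.le ⟨d₀, rfl⟩)
    exact ⟨t, sub_eq_iff_eq_add.1 ht⟩
  choose! tA htA using hpar
  have hmA : ∀ a ∈ A, ∀ s t : F, m a (s • c₀ + t • d₀) = (s + t * tA a) • c₀ + t • d₀ := fun a ha s t => by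
    rw [map_add, map_smul, map_smul, hfixL a ha c₀ hc₀, htA a ha, smul_add, smul_smul, add_smul, add_assoc]
  have htAinj : ∀ a ∈ A, ∀ b ∈ A, tA a = tA b → a = b := fun a ha b hb e => hinj fun v => by
    obtain ⟨s, t, rfl⟩ := hcoord v
    rw [hmA a ha, hmA b hb, e]
  have htAbij : Function.Bijective fun a : A => tA a :=
    (Nat.bijective_iff_injective_and_card _).2 ⟨fun a b e => Subtype.ext (htAinj a a.2 b b.2 e),
      (Nat.card_eq_fintype_card (α := F) ▸ hFc.symm)⟩
  set av : F → Γ := fun t => (Equiv.ofBijective _ htAbij).symm t with hav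
  have hav_mem : ∀ t, av t ∈ A := fun t => ((Equiv.ofBijective _ htAbij).symm t).2
  have hav_t : ∀ t, tA (av t) = t := fun t => (Equiv.ofBijective _ htAbij).apply_symm_apply t
  have hmav : ∀ u s t : F, m (av u) (s • c₀ + t • d₀) = (s + t * u) • c₀ + t • d₀ := fun u s t => by
    rw [hmA _ (hav_mem u), hav_t]
  have hav_add : ∀ s t, av (s + t) = av s * av t := fun s t => hinj fun v => by
    obtain ⟨a, b, rfl⟩ := hcoord v
    rw [hmm, hmav, hmav, hmav, mul_add]
    congr 2; ring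
  have hav0 : av 0 = 1 := left_eq_mul.1 (show av 0 = av 0 * av 0 by rw [← hav_add, add_zero])
  -- characteristic two
  have h2 : (2 : F) = 0 := by
    have h := hpow _ (hav_mem 1)
    rw [pow_two, ← hav_add] at h
    have h' := congrArg (fun g => m g ((0 : F) • c₀ + (1 : F) • d₀)) h
    simp only [hmav, hm1'] at h'
    have h'' := (hzero ((0 + 1 * (1 + 1)) - 0) 0 (by rw [zero_smul F d₀, add_zero, sub_smul]; exact sub_eq_zero.2 (add_right_cancel h'))).1
    simpa [one_add_one_eq_two] using h''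
  -- the opposite subgroup
  set R := cm x₀ A with hR
  have hRfix : ∀ r ∈ R, m r d₀ = d₀ := by
    rintro _ ⟨a, ha, rfl⟩
    show m (x₀ * a * x₀⁻¹) d₀ = d₀
    rw [hmm, hmm, hd₀, hmi, hfixL a ha c₀ hc₀]
  have hparR : ∀ r ∈ R, ∃ t : F, m r c₀ = c₀ + t • d₀ := by
    rintro _ ⟨a, ha, rfl⟩
    obtain ⟨s, t, hst⟩ := hcoord (m x₀⁻¹ c₀)
    refine ⟨t * tA a, ?_⟩
    show m (x₀ * a * x₀⁻¹) c₀ = _
    have e : m x₀ (m x₀⁻¹ c₀) = c₀ := by rw [← hmm, mul_inv_cancel, hm1']
    rw [hmm, hmm, hst, hmA a ha, add_smul, add_assoc, add_comm ((t * tA a) • c₀) (t • d₀), ← add_assoc, map_add,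
      ← hst, e, map_smul, hd₀]
  choose! tR htR using hparR
  have hmR : ∀ r ∈ R, ∀ s t : F, m r (s • c₀ + t • d₀) = s • c₀ + (t + s * tR r) • d₀ := fun r hr s t => by
    rw [map_add, map_smul, map_smul, htR r hr, hRfix r hr, smul_add, smul_smul, add_smul, add_assoc,
      add_comm ((s * tR r) • d₀)]
  have hRcard : Nat.card R = Fintype.card F :=
    (Subgroup.card_map_of_injective (MulAut.conj x₀).injective).trans hFc.symm
  have htRbij : Function.Bijective fun r : R => tR r :=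
    (Nat.bijective_iff_injective_and_card _).2 ⟨fun a b e => Subtype.ext (hinj fun v => by
      obtain ⟨s, t, rfl⟩ := hcoord v
      rw [hmR a a.2, hmR b b.2, show tR (a : Γ) = tR b from e]),
      hRcard.trans Nat.card_eq_fintype_card.symm⟩
  set rv : F → Γ := fun t => (Equiv.ofBijective _ htRbij).symm t with hrv
  have hrv_mem : ∀ t, rv t ∈ R := fun t => ((Equiv.ofBijective _ htRbij).symm t).2
  have hrv_t : ∀ t, tR (rv t) = t := fun t => (Equiv.ofBijective _ htRbij).apply_symm_apply t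
  have hmrv : ∀ u s t : F, m (rv u) (s • c₀ + t • d₀) = s • c₀ + (t + s * u) • d₀ := fun u s t => by
    rw [hmR _ (hrv_mem u), hrv_t]
  -- the torus
  obtain ⟨lu, hlu⟩ := IsCyclic.exists_generator (α := Fˣ)
  set lam : F := (lu : F) with hlam
  set wt : Fˣ → Γ := fun t => av t * rv ((t : F))⁻¹ * av t with hwt
  have hw : ∀ (u : Fˣ) (s t : F), m (wt u) (s • c₀ + t • d₀) = (t * u) • c₀ + (s * (u : F)⁻¹) • d₀ := fun u s t => by
    have hu : (u : F) ≠ 0 := u.ne_zero
    rw [hwt, hmm, hmm, hmav, hmrv, hmav]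
    have e1 : t + (s + t * u) * (u : F)⁻¹ = s * (u : F)⁻¹ := by
      field_simp
      linear_combination (t * u) * h2
    have e2 : s + t * u + (s * (u : F)⁻¹) * u = t * u := by
      field_simp
      linear_combination s * h2
    rw [e1, e2]
  set h : Γ := wt lu * wt 1 with hh
  have hmh : ∀ s t : F, m h (s • c₀ + t • d₀) = (lam * s) • c₀ + (lam⁻¹ * t) • d₀ := fun s t => by
    rw [hh, hmm, hw, hw, Units.val_one, inv_one, mul_one, mul_one, mul_comm lam, mul_comm lam⁻¹]
  have hgenU : ∀ x : F, x ≠ 0 → ∃ k : ℕ, x = lam ^ k := fun x hx => by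
    have h1 : Units.mk0 x hx ∈ Subgroup.zpowers lu := hlu _
    rw [← mem_powers_iff_mem_zpowers] at h1
    obtain ⟨k, hk⟩ := h1
    exact ⟨k, by simpa [hlam] using (congrArg Units.val hk).symm⟩
  have hav_h : ∀ t, h * av t * h⁻¹ = av (lam ^ 2 * t) := fun u => by
    rw [mul_inv_eq_iff_eq_mul]
    refine hinj fun v => ?_
    obtain ⟨s, t, rfl⟩ := hcoord v
    rw [hmm h (av u), hmm (av (lam ^ 2 * u)) h, hmav, hmh, hmh, hmav]
    congr 2
    have : lam ≠ 0 := lu.ne_zero
    field_simp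
  have hrv_h : ∀ t, h * rv t * h⁻¹ = rv (lam⁻¹ ^ 2 * t) := fun u => by
    rw [mul_inv_eq_iff_eq_mul]
    refine hinj fun v => ?_
    obtain ⟨s, t, rfl⟩ := hcoord v
    rw [hmm h (rv u), hmm (rv (lam⁻¹ ^ 2 * u)) h, hmrv, hmh, hmh, hmrv]
    congr 2
    have : lam ≠ 0 := lu.ne_zero
    field_simp
  have hswap : ∀ t, av 1 * rv 1 * av 1 * av t = rv t * (av 1 * rv 1 * av 1) := fun u => by
    have e : av 1 * rv 1 * av 1 = wt 1 := by rw [hwt]; simp
    rw [e]
    refine hinj fun v => ?_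
    obtain ⟨s, t, rfl⟩ := hcoord v
    rw [hmm (wt 1) (av u), hmm (rv u) (wt 1), hmav, hw, hw, hmrv, Units.val_one, inv_one, mul_one, mul_one, mul_one]
  -- the fixed lifts
  set K := fix σ (⊤ : Subgroup Γ) with hK
  have hKfix : ∀ u, π u ∈ L → u ∈ fix σ A := fun u hu => by
    obtain ⟨d, hd⟩ := (hline a₀ ha₀ ha₀1).2.ge hu
    obtain ⟨x, rfl⟩ := hπs d
    have hd' : π (σ a₀ x - x) = π u := by rw [map_sub, hπm]; exact hd
    have h1 : u - (σ a₀ x - x) ∈ K := (hπk _).1 (by rw [map_sub, hd', sub_self])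
    have h2' := add_mem (fix_antitone σ le_top h1 : u - (σ a₀ x - x) ∈ fix σ A) (hquad a₀ ha₀ x)
    rwa [sub_add_cancel] at h2'
  have hKfixR : ∀ u, (∃ t : F, π u = t • d₀) → u ∈ fix σ R := by
    rintro u ⟨t, ht⟩
    refine (mem_fix_cm σ).2 (hKfix _ ?_)
    rw [hπm, ht, map_smul, hd₀, hmi]
    exact L.smul_mem t hc₀
  have hsec : ∃ s : F × F →+ U, (∀ z : F × F, π (s z) = z.1 • c₀ + z.2 • d₀) ∧
      ∀ z : F × F, σ h (s z) = s (lam * z.1, lam⁻¹ * z.2) := by
    by_cases hq : lam = 1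
    · have hF2 : ∀ x : F, x = 0 ∨ x = 1 := fun x => by
        by_cases hx : x = 0
        · exact Or.inl hx
        · obtain ⟨k, hk⟩ := hgenU x hx
          exact Or.inr (by rw [hk, hq, one_pow])
      have hone : h = 1 := hinj fun v => by
        obtain ⟨s, t, rfl⟩ := hcoord v
        rw [hmh, hm1', hq, inv_one, one_mul, one_mul]
      obtain ⟨u₁, hu₁⟩ := hπs c₀
      obtain ⟨u₂, hu₂⟩ := hπs d₀
      have h11 : (1 : F) + 1 = 0 := by rw [one_add_one_eq_two, h2]
      refine ⟨AddMonoidHom.mk' (fun z => (if z.1 = 0 then 0 else u₁) + (if z.2 = 0 then 0 else u₂))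
        (fun z w => ?_), fun z => ?_, fun z => ?_⟩
      · have hadd : ∀ (u : U) (x y : F), (if x + y = 0 then 0 else u) = (if x = 0 then (0 : U) else u) + if y = 0 then 0 else u := by
          intro u x y
          rcases hF2 x with rfl | rfl <;> rcases hF2 y with rfl | rfl <;> simp [h11, ← two_nsmul, hU]
        rw [Prod.fst_add, Prod.snd_add, hadd, hadd]; abel
      · show π ((if z.1 = 0 then 0 else u₁) + (if z.2 = 0 then 0 else u₂)) = _
        rcases hF2 z.1 with h | h <;> rcases hF2 z.2 with h' | h' <;> simp [h, h', hu₁, hu₂]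
      · rw [hone, act_one, hq, inv_one, one_mul, one_mul]
    · let D : U →+ U := AddMonoidHom.mk' (fun u => σ h u - u) fun a b => by rw [map_add]; abel
      set N := Fintype.card F - 1 with hN
      have hlamN : lam ^ N = 1 := FiniteField.pow_card_sub_one_eq_one _ lu.ne_zero
      have hhpow : ∀ (k : ℕ) (s t : F), m (h ^ k) (s • c₀ + t • d₀) = (lam ^ k * s) • c₀ + ((lam⁻¹) ^ k * t) • d₀ := by
        intro k
        induction k with
        | zero => intro s t; simp [hm1']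
        | succ k ih => intro s t; rw [pow_succ', hmm, ih, hmh, pow_succ', pow_succ', mul_assoc, mul_assoc]
      have hhN : h ^ N = 1 := hinj fun v => by
        obtain ⟨s, t, rfl⟩ := hcoord v
        rw [hhpow, hm1', inv_pow, hlamN, inv_one, one_mul, one_mul]
      have hNodd : Odd N := by
        obtain ⟨j, hj⟩ := IsPGroup.iff_card.1 (T₀.2.to_le hA)
        rw [← hFc] at hj
        have hj0 : 1 < Fintype.card F := Fintype.one_lt_card
        cases j with
        | zero => omega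
        | succ j => exact ⟨2 ^ j - 1, by have := Nat.one_le_two_pow (n := j); rw [hN, hj, pow_succ]; omega⟩
      have hz : ∀ u, π (D u) = 0 → D u = 0 := fun u hu => by
        have hfix : σ h (D u) = D u := (hπk _).1 hu h (Subgroup.mem_top _)
        have key : ∀ k, σ (h ^ k) u = u + k • D u := by
          intro k
          induction k with
          | zero => rw [pow_zero, act_one, zero_smul, add_zero]
          | succ k ih =>
            rw [pow_succ', act_mul, ih, map_add, map_nsmul, hfix, succ_nsmul]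
            show σ h u + k • D u = u + (k • D u + D u)
            show σ h u + k • D u = u + (k • D u + (σ h u - u))
            abel
        have h3 := key N
        rw [hhN, act_one, left_eq_add] at h3
        obtain ⟨i, hi⟩ := hNodd
        rw [hi, add_nsmul, mul_nsmul', hU, one_nsmul, zero_add] at h3
        exact h3
      have hπD : ∀ u, π (D u) = m h (π u) - π u := fun u => by
        show π (σ h u - u) = _
        rw [map_sub, hπm]
      have hlam1 : lam - 1 ≠ 0 := sub_ne_zero.2 hq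
      have hlami : lam⁻¹ - 1 ≠ 0 := sub_ne_zero.2 fun e => hq (by rwa [inv_eq_one] at e)
      have honto : ∀ z : F × F, ∃ u, π (D u) = z.1 • c₀ + z.2 • d₀ := fun z => by
        obtain ⟨u, hu⟩ := hπs (((lam - 1)⁻¹ * z.1) • c₀ + ((lam⁻¹ - 1)⁻¹ * z.2) • d₀)
        refine ⟨u, ?_⟩
        rw [hπD, hu, hmh, add_sub_add_comm, ← sub_smul, ← sub_smul, ← sub_one_mul, ← sub_one_mul,
          ← mul_assoc, ← mul_assoc, mul_inv_cancel₀ hlam1, mul_inv_cancel₀ hlami, one_mul, one_mul]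
      choose f hf using honto
      have huniq : ∀ u u', π (D u) = π (D u') → D u = D u' := fun u u' e => by
        rw [← sub_eq_zero, ← map_sub]
        exact hz _ (by rw [map_sub, map_sub, e, sub_self])
      refine ⟨AddMonoidHom.mk' (fun z => D (f z)) fun z w => ?_, hf, fun z => ?_⟩
      · rw [← map_add]
        refine huniq _ _ ?_
        rw [hf, map_add, map_add, hf, hf, Prod.fst_add, Prod.snd_add, add_smul, add_smul]
        abel
      · show σ h (D (f z)) = D (f (lam * z.1, lam⁻¹ * z.2))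
        have e : σ h (D (f z)) = D (σ h (f z)) := by
          show σ h (σ h (f z) - f z) = σ h (σ h (f z)) - σ h (f z)
          rw [map_sub]
        rw [e]
        refine huniq _ _ ?_
        rw [← e, hπm, hf, hf, hmh]
  obtain ⟨s, hs, hsh⟩ := hsec
  have hsup : A ⊔ R = ⊤ := hgen x₀ hx₀
  refine ⟨R, F, iF, iF', hsup, ⟨x₀, rfl⟩, ⟨?_⟩⟩
  exact
  { ex := s.comp (AddMonoidHom.inl F F)
    ey := s.comp (AddMonoidHom.inr F F)
    av := av
    rv := rv
    h := h
    lam := lam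
    av_mem := hav_mem
    av_surj := fun a ha => ⟨tA a, htAinj _ (hav_mem _) a ha (hav_t _)⟩
    av_add := hav_add
    rv_mem := hrv_mem
    rv_surj := fun r hr => ⟨tR r, hinj fun v => by
      obtain ⟨a, b, rfl⟩ := hcoord v
      rw [hmrv, hmR r hr]⟩
    rv_add := fun a b => hinj fun v => by
      obtain ⟨x, y, rfl⟩ := hcoord v
      rw [hmm, hmrv, hmrv, hmrv]
      congr 2; ring
    dec := fun u => by
      obtain ⟨x, y, hxy⟩ := hcoord (π u)
      refine ⟨x, y, ?_⟩
      rw [hsup]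
      refine (hπk _).1 ?_
      rw [map_sub, map_sub, hxy]
      show x • c₀ + y • d₀ - π (s (x, 0)) - π (s (0, y)) = 0
      rw [hs, hs]; simp
    indep := fun x y hxy => by
      rw [hsup] at hxy
      have h1 := (hπk _).2 hxy
      rw [map_add] at h1
      refine hzero x y ?_
      rw [← h1]
      show _ = π (s (x, 0)) + π (s (0, y))
      rw [hs, hs]; simp
    a_ex := fun t x => hKfix _ (by
      show π (s (x, 0)) ∈ L
      rw [hs]; simpa using L.smul_mem x hc₀) _ (hav_mem t)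
    a_ey := fun t y => by
      rw [hsup]
      refine (hπk _).1 ?_
      rw [map_sub, map_sub, hπm]
      show m (av t) (π (s (0, y))) - π (s (0, y)) - π (s (t * y, 0)) = 0
      rw [hs, hs, hmav]; simp [mul_comm t y]
    r_ey := fun t y => hKfixR _ ⟨y, by
      show π (s (0, y)) = _
      rw [hs]; simp⟩ _ (hrv_mem t)
    r_ex := fun t x => by
      rw [hsup]
      refine (hπk _).1 ?_
      rw [map_sub, map_sub, hπm]
      show m (rv t) (π (s (x, 0))) - π (s (x, 0)) - π (s (0, t * x)) = 0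
      rw [hs, hs, hmrv]; simp [mul_comm t x]
    h_mem := by rw [hsup]; exact Subgroup.mem_top _
    h_ex := fun x => by
      show σ h (s (x, 0)) = s (lam * x, 0)
      rw [hsh]; simp
    h_ey := fun y => by
      show σ h (s (0, y)) = s (0, lam⁻¹ * y)
      rw [hsh]; simp
    h_av := hav_h
    h_rv := hrv_h
    swap := hswap
    lam_ne := lu.ne_zero
    lam_gen := hgenU
    char_two := h2
    not_le := fun hle => hM₀ (eq_top_iff.2 (hsup.ge.trans (sup_le (hA.trans hT₀) hle)))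
    le_M := hA.trans hT₀
    gen := fun g _ hgM => (hgen g hgM).trans hsup.symm
    natural := ⟨(MulEquiv.subgroupCongr hsup).trans (Subgroup.topEquiv.trans hiso.some)⟩ }

variable {P : Type u} [Group P] [Finite P] {ρ : P →* AddMonoid.End U} {M A R : Subgroup P} {F : Type} [Field F]
  [Fintype F]

/-- A chart carried by conjugation. -/
noncomputable def Chart.conj (c : Chart ρ M A R F) (g : P) : Chart ρ (cm g M) (cm g A) (cm g R) F :=
  have hsup : cm g A ⊔ cm g R = cm g (A ⊔ R) := (Subgroup.map_sup A R _).symm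
  have hfix : ∀ {u : U}, u ∈ fix ρ (A ⊔ R) → ρ g u ∈ fix ρ (cm g A ⊔ cm g R) := fun {u} hu => by
    rw [hsup, mem_fix_cm, act_inv]; exact hu
  { ex := (ρ g : U →+ U).comp c.ex
    ey := (ρ g : U →+ U).comp c.ey
    av := fun t => g * c.av t * g⁻¹
    rv := fun t => g * c.rv t * g⁻¹
    h := g * c.h * g⁻¹
    lam := c.lam
    av_mem := fun t => ⟨_, c.av_mem t, rfl⟩
    av_surj := by
      rintro _ ⟨a, ha, rfl⟩
      obtain ⟨t, rfl⟩ := c.av_surj a ha
      exact ⟨t, rfl⟩
    av_add := fun s t => by rw [c.av_add]; group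
    rv_mem := fun t => ⟨_, c.rv_mem t, rfl⟩
    rv_surj := by
      rintro _ ⟨a, ha, rfl⟩
      obtain ⟨t, rfl⟩ := c.rv_surj a ha
      exact ⟨t, rfl⟩
    rv_add := fun s t => by rw [c.rv_add]; group
    dec := fun u => by
      obtain ⟨x, y, hxy⟩ := c.dec (ρ g⁻¹ u)
      refine ⟨x, y, ?_⟩
      have h := hfix hxy
      rwa [map_sub, map_sub, act_inv'] at h
    indep := fun x y hxy => c.indep x y (by
      rw [hsup, mem_fix_cm] at hxy
      show c.ex x + c.ey y ∈ _
      have e : ρ g⁻¹ (ρ g (c.ex x) + ρ g (c.ey y)) = c.ex x + c.ey y := by rw [map_add, act_inv, act_inv]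
      exact e ▸ hxy)
    a_ex := fun t x => by
      show ρ (g * c.av t * g⁻¹) (ρ g (c.ex x)) = ρ g (c.ex x)
      rw [act_mul, act_inv, act_mul, c.a_ex]
    a_ey := fun t y => by
      show ρ (g * c.av t * g⁻¹) (ρ g (c.ey y)) - ρ g (c.ey y) - ρ g (c.ex (t * y)) ∈ _
      rw [act_mul, act_inv, act_mul, ← map_sub, ← map_sub]
      exact hfix (c.a_ey t y)
    r_ey := fun t x => by
      show ρ (g * c.rv t * g⁻¹) (ρ g (c.ey x)) = ρ g (c.ey x)
      rw [act_mul, act_inv, act_mul, c.r_ey]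
    r_ex := fun t y => by
      show ρ (g * c.rv t * g⁻¹) (ρ g (c.ex y)) - ρ g (c.ex y) - ρ g (c.ey (t * y)) ∈ _
      rw [act_mul, act_inv, act_mul, ← map_sub, ← map_sub]
      exact hfix (c.r_ex t y)
    h_mem := hsup.ge ⟨_, c.h_mem, rfl⟩
    h_ex := fun x => by
      show ρ (g * c.h * g⁻¹) (ρ g (c.ex x)) = ρ g (c.ex (c.lam * x))
      rw [act_mul, act_inv, act_mul, c.h_ex]
    h_ey := fun y => by
      show ρ (g * c.h * g⁻¹) (ρ g (c.ey y)) = ρ g (c.ey (c.lam⁻¹ * y))
      rw [act_mul, act_inv, act_mul, c.h_ey]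
    h_av := fun t => by rw [← c.h_av]; group
    h_rv := fun t => by rw [← c.h_rv]; group
    swap := fun t => by
      calc g * c.av 1 * g⁻¹ * (g * c.rv 1 * g⁻¹) * (g * c.av 1 * g⁻¹) * (g * c.av t * g⁻¹)
          = g * (c.av 1 * c.rv 1 * c.av 1 * c.av t) * g⁻¹ := by group
        _ = _ := by rw [c.swap]; group
    lam_ne := c.lam_ne
    lam_gen := c.lam_gen
    char_two := c.char_two
    not_le := fun h => c.not_le fun r hr => by
      obtain ⟨x, hx, he⟩ := h ⟨r, hr, rfl⟩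
      rwa [← (MulAut.conj g).injective he]
    le_M := cm_mono c.le_M
    gen := fun k hk hkM => by
      rw [hsup] at hk ⊢
      obtain ⟨k', hk', rfl⟩ := hk
      show cm g A ⊔ cm (g * k' * g⁻¹) (cm g A) = _
      rw [cm_cm _ g A, show g * k' * g⁻¹ * g = g * k' by group, ← cm_cm g k' A]
      exact (Subgroup.map_sup A (cm k' A) _).symm.trans (congrArg _ (c.gen k' hk' fun h => hkM ⟨k', h, rfl⟩))
    natural := ⟨(MulEquiv.subgroupCongr hsup).trans
      (((A ⊔ R).equivMapOfInjective (MulAut.conj g).toMonoidHom (MulAut.conj g).injective).symm.trans c.natural.some)⟩ }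

end CfsgLib.RootTwo
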