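import Cfsg.Agent.Lib.RootTwo.Anchor
import Mathlib.LinearAlgebra.Dual.Lemmas

/-!
Vectors and functionals fixed only inside `M`, and the core they determine.
-/

set_option autoImplicit false
set_option linter.unusedSectionVars false
set_option linter.unusedVariables false
set_option linter.style.haveILetI false

namespace CfsgLib.RootTwo

open CfsgLib CfsgLib.RootCommute CfsgLib.StrongFusion
open CfsgLib.SL2Pair (fix)

universe u v

variable {P : Type u} [Group P] [Finite P] {U : Type v} [AddCommGroup U] [Finite U] {ρ : P →* AddMonoid.End U}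
  {T : Sylow 2 P} {M : Subgroup P}

variable (ρ) in
/-- The stabiliser of a functional. -/
def funStab (f : U →+ ZMod 2) : Subgroup P where
  carrier := {g | ∀ u, f (ρ g u) = f u}
  one_mem' u := by rw [act_one]
  mul_mem' {g h} hg hh u := by rw [act_mul, hg, hh]
  inv_mem' {g} hg u := by rw [← hg (ρ g⁻¹ u), act_inv']

variable (ρ) in
/-- The vectors killed by every functional fixed only inside `M`. -/
def core (M : Subgroup P) : AddSubgroup U where
  carrier := {u | ∀ f : U →+ ZMod 2, funStab ρ f ≤ M → f u = 0}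
  zero_mem' f _ := map_zero f
  add_mem' hu hv f hf := by rw [map_add, hu f hf, hv f hf, add_zero]
  neg_mem' hu f hf := by rw [map_neg, hu f hf, neg_zero]

theorem good_comp {f : U →+ ZMod 2} (hf : funStab ρ f ≤ M) {m : P} (hm : m ∈ M) :
    funStab ρ (f.comp (ρ m : U →+ U)) ≤ M := fun g hg => by
  have h1 : m * g * m⁻¹ ∈ M := hf fun u => by
    have := hg (ρ m⁻¹ u)
    rw [act_mul, act_mul]
    show f (ρ m (ρ g (ρ m⁻¹ u))) = f u
    calc f (ρ m (ρ g (ρ m⁻¹ u))) = f (ρ m (ρ m⁻¹ u)) := this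
      _ = f u := by rw [act_inv']
  have := M.mul_mem (M.mul_mem (M.inv_mem hm) h1) hm
  simpa [mul_assoc] using this

theorem core_inv {m : P} (hm : m ∈ M) {u : U} (hu : u ∈ core ρ M) : ρ m u ∈ core ρ M := fun f hf =>
  hu _ (good_comp hf hm)

/-- Outside a proper additive subgroup some functional is nonzero. -/
theorem exists_functional (hU : ∀ x : U, 2 • x = 0) {W : AddSubgroup U} (hW : W ≠ ⊤) :
    ∃ f : U →+ ZMod 2, f ≠ 0 ∧ ∀ w ∈ W, f w = 0 := by
  letI : Module (ZMod 2) U := AddCommGroup.zmodModule hU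
  obtain ⟨x, hx⟩ : ∃ x, x ∉ W := by
    by_contra h; push Not at h; exact hW (eq_top_iff.2 fun x _ => h x)
  let W' : Submodule (ZMod 2) U :=
    { W.toAddSubmonoid with
      smul_mem' := fun c u hu => by
        have hcases : c = 0 ∨ c = 1 := by revert c; decide
        rcases hcases with rfl | rfl
        · rw [zero_smul]; exact W.zero_mem
        · rw [one_smul]; exact hu }
  obtain ⟨f, hfx, hf⟩ := Submodule.exists_dual_map_eq_bot_of_notMem (p := W') (show x ∉ W' from hx) inferInstance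
  refine ⟨f.toAddMonoidHom, fun e => hfx (DFunLike.congr_fun e x), fun w hw => ?_⟩
  have := Submodule.mem_map_of_mem (f := f) (show w ∈ W' from hw)
  rw [hf] at this
  exact (Submodule.mem_bot _).1 this

/-- A nonzero functional fixed by the Sylow subgroup. -/
theorem Setting.exists_good (hs : Setting ρ T M) : ∃ f : U →+ ZMod 2, f ≠ 0 ∧ funStab ρ f ≤ M := by
  haveI := hs.nontriv
  obtain ⟨f, hf0, hf⟩ := exists_functional hs.smul_zero (img_lt_top ρ hs.smul_zero T.2).ne
  refine ⟨f, hf0, hs.over_le _ (fun t ht u => ?_) fun e => hf0 ?_⟩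
  · rw [← sub_eq_zero, ← map_sub]; exact hf _ (sub_mem_img ρ ht u)
  · have hW : f.ker = ⊤ := hs.full _ fun g u => by
      rw [AddMonoidHom.mem_ker, map_sub, sub_eq_zero]
      exact e.ge (Subgroup.mem_top g) u
    ext u
    exact AddMonoidHom.mem_ker.1 (hW.ge (AddSubgroup.mem_top u))

/-- Square roots in characteristic two. -/
theorem exists_sqrt {F : Type} [Field F] [Fintype F] (h2 : (2 : F) = 0) (a : F) : ∃ y, a = y * y := by
  haveI : CharP F 2 := CharTwo.of_one_ne_zero_of_two_eq_zero one_ne_zero h2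
  exact FiniteField.isSquare_of_char_two (ringChar.eq F 2) a

namespace Chart

variable {F : Type} [Field F] [Fintype F] {A R : Subgroup P} (c : Chart ρ M A R F)
include c

theorem add_self_F (x : F) : x + x = 0 := by rw [← two_mul, c.char_two, zero_mul]

/-- An element of the join inside `M` keeps the fixed vectors of `A`. -/
theorem keep {g : P} (hg : g ∈ A ⊔ R) (hgM : g ∈ M) {u : U} (hu : c.cy u = 0) : c.cy (ρ g u) = 0 := by
  by_contra hne
  set x := c.cx u
  set v := ρ g u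
  set s := (1 - c.cx v) * (c.cy v)⁻¹ with hs
  set k := c.rv (-c.cy v) * c.av s * g with hk
  have hkΓ : k ∈ A ⊔ R := mul_mem (mul_mem (Subgroup.mem_sup_right (c.rv_mem _)) (Subgroup.mem_sup_left (c.av_mem _))) hg
  have hcy : c.cy (ρ k u) = 0 := by
    rw [hk, act_mul, act_mul, c.cy_r, c.cy_a, c.cx_a, hs, mul_assoc, inv_mul_cancel₀ hne, mul_one,
      add_sub_cancel, mul_one, add_neg_cancel]
  have hkM : k ∈ M := by
    by_contra hn
    -- the join fixes `ρ k u`
    have hle : A ⊔ R ≤ pointStab ρ (ρ k u) := (c.gen k hkΓ hn).ge.trans (sup_le (fun a ha => c.fix_of_cy hcy a ha) (by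
      rintro _ ⟨a, ha, rfl⟩
      show ρ (k * a * k⁻¹) (ρ k u) = ρ k u
      rw [act_mul, act_inv, act_mul, c.fix_of_cy hu a ha]))
    have hu' : u ∈ fix ρ (A ⊔ R) := fun y hy => act_injective ρ k (by
      have h1 : k * y * k⁻¹ ∈ A ⊔ R := mul_mem (mul_mem hkΓ hy) (inv_mem hkΓ)
      have h2 : ρ (k * y * k⁻¹) (ρ k u) = ρ k u := hle h1
      rwa [act_mul, act_inv, act_mul] at h2)
    exact hne (by rw [show v = u from c.fix_sup hu' hg]; exact hu)
  have hr : c.rv (-c.cy v) ∈ M := by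
    have := M.mul_mem (M.mul_mem hkM (M.inv_mem hgM)) (M.inv_mem (c.le_M (c.av_mem s)))
    simpa [hk, mul_assoc] using this
  -- the torus spreads it over `R`
  have key : ∀ k : ℕ, c.rv ((c.lam⁻¹ ^ 2) ^ k * -c.cy v) ∈ M := by
    intro k
    induction k with
    | zero => rwa [pow_zero, one_mul]
    | succ k ih =>
      rw [pow_succ', mul_assoc, ← c.h_rv]
      exact M.mul_mem (M.mul_mem c.h_memM ih) (M.inv_mem c.h_memM)
  refine c.not_le fun r hr' => ?_
  obtain ⟨t, rfl⟩ := c.rv_surj r hr'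
  by_cases ht : t = 0
  · rw [ht, c.rv_zero]; exact M.one_mem
  obtain ⟨y, hy⟩ := exists_sqrt c.char_two (t * (-c.cy v)⁻¹)
  obtain ⟨j, hj⟩ := c.lam_gen y⁻¹ (inv_ne_zero (by rintro rfl; simp [ht, hne] at hy))
  have := key j
  rw [← pow_mul, mul_comm 2 j, pow_mul, inv_pow, ← hj, inv_inv, pow_two, ← hy, mul_assoc,
    inv_mul_cancel₀ (neg_ne_zero.2 hne), mul_one] at this
  exact this

/-- An element of `R` other than one is outside `M`. -/
theorem rv_notMem {t : F} (ht : t ≠ 0) : c.rv t ∉ M := fun h => by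
  have := c.keep (Subgroup.mem_sup_right (c.rv_mem t)) h (c.cy_ex 1)
  rw [c.cy_r, c.cy_ex, c.cx_ex, zero_add, mul_one] at this
  exact ht this

/-- A vector fixed only inside `M` is fixed by `A`. -/
theorem good_fix {u : U} (hu : pointStab ρ u ≤ M) : c.cy u = 0 := by
  by_contra hne
  set s := (1 - c.cx u) * (c.cy u)⁻¹ with hs
  set g := c.rv (-c.cy u) * c.av s with hg
  have hcy : c.cy (ρ g u) = 0 := by
    rw [hg, act_mul, c.cy_r, c.cy_a, c.cx_a, hs, mul_assoc, inv_mul_cancel₀ hne, mul_one, add_sub_cancel, mul_one,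
      add_neg_cancel]
  have hgΓ : g ∈ A ⊔ R := mul_mem (Subgroup.mem_sup_right (c.rv_mem _)) (Subgroup.mem_sup_left (c.av_mem _))
  have hgM : g ∉ M := fun h => c.rv_notMem (neg_ne_zero.2 hne) (by
    have := M.mul_mem h (M.inv_mem (c.le_M (c.av_mem s)))
    rwa [hg, mul_inv_cancel_right] at this)
  refine c.not_le (le_sup_right.trans ((c.gen g⁻¹ (inv_mem hgΓ) fun h => hgM (by simpa using M.inv_mem h)).ge.trans
    (sup_le c.le_M ?_)))
  rintro _ ⟨a, ha, rfl⟩
  refine hu ?_
  show ρ (g⁻¹ * a * g⁻¹⁻¹) u = u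
  rw [inv_inv, act_mul, act_mul, c.fix_of_cy hcy a ha, act_inv]

theorem bet_add_left (s t y : F) : c.bet (s + t) y = c.bet s y + c.bet t y := by
  unfold bet
  have e : ρ (c.av (s + t)) (c.ey y) - c.ey y =
      (ρ (c.av s) (c.ey y) - c.ey y) + (ρ (c.av t) (c.ey y) - c.ey y) := by
    have h1 : ρ (c.av t) (c.ey y) - c.ey y ∈ fix ρ A := c.img_le_fix (sub_mem_img ρ (c.av_mem t) _)
    have h2 := h1 _ (c.av_mem s)
    rw [map_sub, ← act_mul, ← c.av_add] at h2
    rw [← h2]; abel
  rw [e, add_mul, map_add]; abel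

/-- The part of the displacements in the fixed vectors, as a function of one variable. -/
noncomputable def L : F →+ U := AddMonoidHom.mk' (fun z => c.bet z 1) fun s t => c.bet_add_left s t 1

theorem bet_inv (t y : F) : c.bet (c.lam ^ 2 * t) (c.lam⁻¹ * y) = c.bet t y := by
  conv_rhs => rw [← c.h_fix (c.bet_mem t y)]
  unfold bet
  rw [map_sub, map_sub, ← act_mul, show c.h * c.av t = c.av (c.lam ^ 2 * t) * c.h by rw [← c.h_av]; group, act_mul,
    c.h_ey, c.h_ex, show c.lam ^ 2 * t * (c.lam⁻¹ * y) = c.lam * (t * y) by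
      have := c.lam_ne
      field_simp]

theorem bet_eq (t y : F) : c.bet t y = c.L (t * y ^ 2) := by
  by_cases hy : y = 0
  · subst hy
    unfold bet
    rw [map_zero, map_zero, mul_zero, zero_pow two_ne_zero, mul_zero, map_zero, map_zero]
    simp
  obtain ⟨k, rfl⟩ := c.lam_gen y hy
  show _ = c.bet _ 1
  clear hy
  induction k generalizing t with
  | zero => simp
  | succ k ih =>
    rw [← c.bet_inv t (c.lam ^ (k + 1)), pow_succ' c.lam k, ← mul_assoc, inv_mul_cancel₀ c.lam_ne, one_mul, ih,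
      pow_two (c.lam * c.lam ^ k)]
    congr 1
    ring

theorem L_mem (z : F) : c.L z ∈ fix ρ (A ⊔ R) := c.bet_mem z 1

theorem a_ey' (t y : F) : ρ (c.av t) (c.ey y) = c.ey y + c.ex (t * y) + c.L (t * y ^ 2) := by
  rw [← c.bet_eq]; unfold bet; abel

/-- The same map serves the opposite subgroup. -/
theorem r_ex' (hU : ∀ x : U, 2 • x = 0) (hq : 2 < Fintype.card F) (t x : F) :
    ρ (c.rv t) (c.ex x) = c.ex x + c.ey (t * x) + c.L (t * x ^ 2) := by
  let b : F → F → U := fun t x => ρ (c.rv t) (c.ex x) - c.ex x - c.ey (t * x)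
  have hbm : ∀ t x, b t x ∈ fix ρ (A ⊔ R) := c.r_ex
  have hinv : ∀ t x, b (c.lam⁻¹ ^ 2 * t) (c.lam * x) = b t x := fun t x => by
    conv_rhs => rw [← c.h_fix (hbm t x)]
    show ρ (c.rv _) (c.ex _) - c.ex _ - c.ey _ = ρ c.h (ρ (c.rv t) (c.ex x) - c.ex x - c.ey (t * x))
    rw [map_sub, map_sub, ← act_mul, show c.h * c.rv t = c.rv (c.lam⁻¹ ^ 2 * t) * c.h by rw [← c.h_rv]; group,
      act_mul, c.h_ex, c.h_ey, show c.lam⁻¹ ^ 2 * t * (c.lam * x) = c.lam⁻¹ * (t * x) by
        have := c.lam_ne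
        field_simp]
  have hbadd : ∀ s t, b (s + t) 1 = b s 1 + b t 1 := fun s t => by
    show ρ (c.rv (s + t)) (c.ex 1) - c.ex 1 - c.ey ((s + t) * 1) = _
    have h2 : ρ (c.rv s) (ρ (c.rv t) (c.ex 1) - c.ex 1) = ρ (c.rv t) (c.ex 1) - c.ex 1 := by
      have h3 := c.r_fix s (hbm t 1)
      rw [map_sub, c.r_ey] at h3
      exact sub_left_inj.1 h3
    rw [map_sub, ← act_mul, ← c.rv_add] at h2
    have e : ρ (c.rv (s + t)) (c.ex 1) =
        ρ (c.rv t) (c.ex 1) - c.ex 1 + ρ (c.rv s) (c.ex 1) := by rw [← h2]; abel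
    show _ = (ρ (c.rv s) (c.ex 1) - c.ex 1 - c.ey (s * 1)) + (ρ (c.rv t) (c.ex 1) - c.ex 1 - c.ey (t * 1))
    rw [e, add_mul, map_add]; abel
  have hb : ∀ t x, b t x = b (t * x ^ 2) 1 := fun t x => by
    by_cases hx : x = 0
    · subst hx
      have h0 : b 0 1 = 0 := by
        have h := hbadd 0 0
        rw [add_zero] at h
        exact left_eq_add.1 h
      rw [zero_pow two_ne_zero, mul_zero, h0]
      show ρ (c.rv t) (c.ex 0) - c.ex 0 - c.ey (t * 0) = 0
      rw [map_zero, map_zero, mul_zero, map_zero]; simp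
    obtain ⟨k, rfl⟩ := c.lam_gen x hx
    clear hx
    induction k generalizing t with
    | zero => simp
    | succ k ih =>
      have := hinv (c.lam ^ 2 * t) (c.lam ^ k)
      rw [← mul_assoc, inv_pow, inv_mul_cancel₀ (pow_ne_zero 2 c.lam_ne), one_mul, ← pow_succ'] at this
      rw [this, ih]
      congr 1
      ring
  -- compare through the element exchanging the halves
  set w := c.av 1 * c.rv 1 * c.av 1 with hw
  let K : F → U := fun z => b z 1 + c.L z
  have hKadd : ∀ s t, K (s + t) = K s + K t := fun s t => by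
    show b (s + t) 1 + c.L (s + t) = _
    rw [hbadd, map_add]
    show _ = b s 1 + c.L s + (b t 1 + c.L t)
    abel
  have hr1 : ∀ t y, ρ (c.rv t) (c.ex y) = c.ex y + c.ey (t * y) + b t y := fun t y => by
    show _ = _ + _ + (_ - _ - _); abel
  have hwy : ∀ y, ρ w (c.ey y) = c.ex y + (b 1 y + c.L (y ^ 2)) := fun y => by
    rw [hw, act_mul, act_mul, c.a_ey', one_mul, one_mul, map_add (ρ (c.rv 1)), map_add (ρ (c.rv 1)), c.r_ey,
      c.r_fix 1 (c.L_mem _), hr1,
      one_mul, show c.ey y + (c.ex y + c.ey y + b 1 y) + c.L (y ^ 2) =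
        c.ex y + (b 1 y + c.L (y ^ 2)) + (c.ey y + c.ey y) by abel,
      add_self hU, add_zero, map_add, map_add, c.a_ex, c.a_fix 1 (hbm 1 y), c.a_fix 1 (c.L_mem _)]
  have hwx : ∀ x, ρ w (c.ex x) = c.ey x + (c.L (x ^ 2) + b 1 x) := fun x => by
    rw [hw, act_mul, act_mul, c.a_ex, hr1, one_mul, map_add, map_add, c.a_ex, c.a_ey', one_mul, one_mul,
      c.a_fix 1 (hbm 1 x), show c.ex x + (c.ey x + c.ex x + c.L (x ^ 2)) + b 1 x =
        c.ey x + (c.L (x ^ 2) + b 1 x) + (c.ex x + c.ex x) by abel,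
      add_self hU, add_zero]
  have hwfix : ∀ z, ρ w (c.L z) = c.L z := fun z => by
    rw [hw, act_mul, act_mul, c.a_fix 1 (c.L_mem z), c.r_fix 1 (c.L_mem z), c.a_fix 1 (c.L_mem z)]
  have hK : ∀ t y, K (t * y ^ 2) = K (t ^ 2 * y ^ 2) := fun t y => by
    have e : ρ (w * c.av t) (c.ey y) = ρ (c.rv t * w) (c.ey y) := by rw [hw, c.swap t]
    rw [act_mul ρ w (c.av t), act_mul ρ (c.rv t) w, c.a_ey', map_add (ρ w), map_add (ρ w), hwy, hwx, hwfix, map_add,
      map_add, hr1,
      c.r_fix t (hbm 1 y), c.r_fix t (c.L_mem _)] at e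
    rw [hb t y, hb 1 (t * y), one_mul, mul_pow] at e
    have e2 : c.ex y + c.ey (t * y) + (b 1 y + c.L (y ^ 2)) + b (t * y ^ 2) 1 =
        c.ex y + c.ey (t * y) + (b 1 y + c.L (y ^ 2)) +
          (c.L (t ^ 2 * y ^ 2) + b (t ^ 2 * y ^ 2) 1 + c.L (t * y ^ 2)) := by
      refine (Eq.trans ?_ (e.symm.trans ?_)) <;> abel
    show b (t * y ^ 2) 1 + c.L (t * y ^ 2) = b (t ^ 2 * y ^ 2) 1 + c.L (t ^ 2 * y ^ 2)
    rw [add_left_cancel e2, add_assoc _ (c.L (t * y ^ 2)), add_self hU, add_zero, add_comm]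
  have hK0 : ∀ z, K z = 0 := by
    have hscale : ∀ t z, t ≠ 0 → K (t * z) = K z := fun t z ht => by
      obtain ⟨y, hy⟩ := exists_sqrt c.char_two (z * t⁻¹)
      have := hK t y
      rw [pow_two, ← hy, mul_comm z, ← mul_assoc, mul_inv_cancel₀ ht, one_mul, pow_two, mul_assoc, ← mul_assoc t t⁻¹,
        mul_inv_cancel₀ ht, one_mul] at this
      exact this.symm
    intro z
    obtain ⟨t, ht0, ht1⟩ : ∃ t : F, t ≠ 0 ∧ t + 1 ≠ 0 := by
      classical
      by_contra hno
      push Not at hno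
      have hsub : (Finset.univ : Finset F) ⊆ {0, -1} := fun t _ => by
        by_cases ht : t = 0
        · simp [ht]
        · simp [eq_neg_of_add_eq_zero_left (hno t ht)]
      exact absurd ((Finset.card_le_card hsub).trans Finset.card_le_two) (by rw [Finset.card_univ]; omega)
    have h1 := hscale (t + 1) z ht1
    rw [add_mul, one_mul, hKadd, hscale t z ht0, add_eq_left] at h1
    exact h1
  have h1 := hK0 (t * x ^ 2)
  rw [eq_comm, ← sub_eq_zero, ← h1]
  show _ = b (t * x ^ 2) 1 + c.L (t * x ^ 2)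
  rw [← hb t x]
  show _ = ρ (c.rv t) (c.ex x) - c.ex x - c.ey (t * x) + c.L (t * x ^ 2)
  simp only [sub_eq_add' hU]
  abel

end Chart

end CfsgLib.RootTwo
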