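import Cfsg.Agent.Lib.RootTwo.Sep

/-!
Over a field with more than two elements: the charts of two members are separated, and all charts of one
member have the same join.
-/

set_option autoImplicit false
set_option linter.unusedSectionVars false
set_option linter.unusedVariables false
set_option linter.style.haveILetI false

namespace CfsgLib.RootTwo

open CfsgLib CfsgLib.RootCommute CfsgLib.StrongFusion
open CfsgLib.SL2Pair (fix)

universe u v

variable {P : Type u} [Group P] [Finite P] {U : Type v} [AddCommGroup U] [Finite U] {ρ : P →* AddMonoid.End U}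
  {T : Sylow 2 P} {M : Subgroup P}

/-- Two additive maps cancelling on all products and twisted products vanish. -/
theorem twist_zero {F : Type} [Field F] [Fintype F] (h2 : (2 : F) = 0) (hq : 2 < Fintype.card F) {f g : F →+ F}
    (h : ∀ t y, f (t * y) + g (t * y ^ 2) = 0) : (∀ x, f x = 0) ∧ ∀ z, g z = 0 := by
  classical
  have hg : ∀ z, z ≠ 0 → g z = f 1 := fun z hz => by
    have := h z⁻¹ z
    rw [inv_mul_cancel₀ hz, pow_two, inv_mul_cancel_left₀ hz] at this
    linear_combination this - f 1 * h2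
  obtain ⟨a, ha0, ha1⟩ : ∃ a : F, a ≠ 0 ∧ 1 + a ≠ 0 := by
    by_contra hno
    push Not at hno
    have hsub : (Finset.univ : Finset F) ⊆ {0, -1} := fun t _ => by
      by_cases ht : t = 0
      · simp [ht]
      · simp [eq_neg_of_add_eq_zero_right (hno t ht)]
    exact absurd ((Finset.card_le_card hsub).trans Finset.card_le_two) (by rw [Finset.card_univ]; omega)
  have hf1 : f 1 = 0 := by
    have := hg _ ha1
    rw [map_add, hg 1 one_ne_zero, hg a ha0] at this
    exact left_eq_add.1 this.symm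
  have hg0 : ∀ z, g z = 0 := fun z => by
    by_cases hz : z = 0
    · rw [hz, map_zero]
    · rw [hg z hz, hf1]
  exact ⟨fun x => by have := h 1 x; rwa [one_mul, hg0, add_zero] at this, hg0⟩

theorem zg_le_T (hs : Setting ρ T M) (h : subStab ρ (core ρ M) ≤ M) : zg ρ M ≤ (T : Subgroup P) := by
  have hZS : zg ρ M ≤ subStab ρ (core ρ M) := fun g hg x => ⟨fun hx => by
      have := sub_mem hx (hg.2.2 x); rwa [sub_sub_cancel] at this,
    fun hx => by have := add_mem (hg.2.2 x) hx; rwa [sub_add_cancel] at this⟩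
  obtain ⟨k, hk, hle⟩ := hs.exists_conj_le (isPGroup_flag hs.inj hs.smul_zero ⊥ (core ρ M)) (hZS.trans h)
  intro g hg
  have h1 := RootCommute.mem_cm.1 (hle (conj_mem_zg (m := k) hk hg))
  rwa [show k⁻¹ * (k * g * k⁻¹) * k = g by group] at h1

namespace Chart

variable {F : Type} [Field F] [Fintype F] {A R : Subgroup P} (c : Chart ρ M A R F)
include c

theorem cx_h_inv (u : U) : c.cx (ρ c.h⁻¹ u) = c.lam⁻¹ * c.cx u := by
  have h := c.cx_h (ρ c.h⁻¹ u)
  rw [act_inv'] at h
  rw [h, inv_mul_cancel_left₀ c.lam_ne]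

theorem h_of_cy {u : U} (hu : c.cy u = 0) : ρ c.h u = u + c.ex ((c.lam - 1) * c.cx u) := by
  conv_lhs => rw [c.split u, hu, map_zero, add_zero, map_add, c.h_ex, c.h_fix (v := c.rest u) (c.rest_mem u)]
  conv_rhs => arg 1; rw [c.split u, hu, map_zero, add_zero]
  rw [sub_mul, one_mul, map_sub]
  abel

theorem h_inv_of_cy {u : U} (hu : c.cy u = 0) : ρ c.h⁻¹ u = u + c.ex ((c.lam⁻¹ - 1) * c.cx u) := by
  refine act_injective ρ c.h ?_
  rw [act_inv', map_add, c.h_of_cy hu, c.h_ex, add_assoc, ← map_add,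
    show (c.lam - 1) * c.cx u + c.lam * ((c.lam⁻¹ - 1) * c.cx u) = 0 by
      have := c.lam_ne
      field_simp
      ring, map_zero, add_zero]

/-- Commuting with the subgroup and fixing its displacements keeps the second coordinate. -/
theorem cy_of_comm {g : P} (hg : g * c.av 1 = c.av 1 * g) (hx : ∀ x, ρ g (c.ex x) = c.ex x)
    (hL : ∀ z, ρ g (c.L z) = c.L z) (u : U) : c.cy (ρ g u) = c.cy u := by
  have e : ρ (c.av 1) (ρ g u) = ρ g (ρ (c.av 1) u) := by rw [← act_mul, ← hg, act_mul]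
  rw [c.a_act 1 u, map_add, map_add, hx, c.bet_eq 1 (c.cy u), hL] at e
  have h := congrArg c.cx e
  rw [c.cx_a, map_add, map_add, c.cx_ex, (c.coords_of_fix (c.L_mem _)).1, add_zero, one_mul, one_mul] at h
  exact add_left_cancel h

end Chart

section Two

variable {X : Subgroup P} {cl : Set (Subgroup P)} {F : Type} [Field F] [Fintype F]
  (r : Roots ρ T M X cl F) (hq : 2 < Fintype.card F)
  {A B RA RB : Subgroup P} (c : Chart ρ M A RA F) (d : Chart ρ M B RB F)
include r hq c

theorem Roots.member_le_X {A : Subgroup P} (hA : A ∈ membersIn cl (T : Subgroup P)) : A ≤ X :=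
  r.sup_eq ▸ le_sSup hA

theorem Roots.fix_X {u : U} (h : ∀ E ∈ membersIn cl (T : Subgroup P), u ∈ fix ρ E) : u ∈ fix ρ X := fun x hx => by
  have h1 : X ≤ pointStab ρ u := r.sup_eq ▸ sSup_le fun E hE e he => h E hE e he
  exact h1 hx

theorem Roots.permute {m : P} (hm : m ∈ M) {E : Subgroup P} (hE : E ∈ membersIn cl (T : Subgroup P)) :
    cm m E ∈ membersIn cl (T : Subgroup P) := by
  have hs := r.set_up
  obtain ⟨R', ⟨e⟩⟩ := r.charted E hE
  refine ⟨r.data.conj E hE.1 m, ?_⟩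
  rintro _ ⟨a, ha, rfl⟩
  exact zg_le_T hs (c.subStab_core_le hs.smul_zero hq hs) (conj_mem_zg hm (e.mem_zg hs hq ha))

theorem Roots.mem_M {w : U} (hw : pointStab ρ w ≤ M) {g : P} (h : ρ g w ∈ fix ρ X) : g ∈ M := by
  have hs := r.set_up
  have hp : IsPGroup 2 X := T.2.to_le r.le
  have h1 : cm g⁻¹ X ≤ M := by
    rintro _ ⟨x, hx, rfl⟩
    refine hw ?_
    show ρ (g⁻¹ * x * g⁻¹⁻¹) w = w
    rw [inv_inv, act_mul, act_mul, h x hx, act_inv]
  obtain ⟨k, hk, hle⟩ := hs.exists_conj_le (hp.map (MulAut.conj g⁻¹).toMonoidHom) h1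
  have h2 := cm_mono (g := k⁻¹) hle
  rw [cm_inv_cm, cm_cm] at h2
  have h3 := r.normalizer_le (Local.mem_normalizer_of_map_conj_eq (r.closed _ h2))
  have h4 := M.mul_mem hk h3
  rw [mul_inv_cancel_left] at h4
  simpa using M.inv_mem h4

variable (hA : A ∈ membersIn cl (T : Subgroup P))
include hA

theorem Roots.triv {B : Subgroup P} (hB : B ∈ membersIn cl (T : Subgroup P)) (hne : B ≠ A) {b : P} (hb : b ∈ B) :
    (∀ y, ρ b (c.ey y) = c.ey y) ∧ (∀ x, ρ b (c.ex x) = c.ex x) ∧ (∀ z, ρ b (c.L z) = c.L z) ∧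
      ∀ u, c.cx (dl ρ b u) = 0 := by
  have hs := r.set_up
  obtain ⟨R', ⟨e⟩⟩ := r.charted B hB
  have hz : B ≤ zg ρ M := fun x hx => e.mem_zg hs hq hx
  obtain ⟨h1, h2⟩ := (c.cases hs hq (r.reg B hB.1) hz).resolve_left hne b hb
  exact ⟨h1, fun x => zg_fix (hz hb) (c.ex_core hs hq x), fun z => zg_fix (hz hb) (c.L_core hs hq z), h2⟩

theorem Roots.comm_member {B : Subgroup P} (hB : B ∈ membersIn cl (T : Subgroup P)) (hne : B ≠ A) {b : P}
    (hb : b ∈ B) {g : P} (hg : g ∈ A ⊔ RA) : b * g = g * b := by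
  have hs := r.set_up
  obtain ⟨hey, hex, hL, hcx⟩ := r.triv hq c hA hB hne hb
  have h1 : A ⊔ RA ≤ Subgroup.centralizer ({b} : Set P) := sup_le
    (fun a ha => Subgroup.mem_centralizer_singleton_iff.2 (r.comm a (r.member_le_X hq c hA ha) b (r.member_le_X hq c hB hb)))
    fun x hx => Subgroup.mem_centralizer_singleton_iff.2 (act_ext ρ hs.inj fun u => by
      obtain ⟨t, rfl⟩ := c.rv_surj x hx
      have e1 : c.cx (ρ b u) = c.cx u := by
        have := hcx u
        rwa [dl_apply, map_sub, sub_eq_zero] at this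
      have e2 := c.r_disp hx e1
      have e3 : ρ b (ρ (c.rv t) u - u) = ρ (c.rv t) u - u := by
        rw [c.r_disp hx (u := u) (v := c.ex (c.cx u)) (by rw [c.cx_ex]), c.r_ex' hs.smul_zero hq, add_assoc,
          add_sub_cancel_left, map_add, hey, hL]
      rw [map_sub] at e3
      rw [act_mul, act_mul, sub_eq_iff_eq_add.1 e2, sub_eq_iff_eq_add.1 e3])
  exact (Subgroup.mem_centralizer_singleton_iff.1 (h1 hg)).symm

variable (hB : B ∈ membersIn cl (T : Subgroup P)) (hne : B ≠ A)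
include d hB hne

theorem Roots.cross_ex : (∀ x, d.ex x ∈ fix ρ (A ⊔ RA)) ∧ ∀ z, d.L z ∈ fix ρ (A ⊔ RA) := by
  have hs := r.set_up
  have hzero := twist_zero c.char_two hq (f := c.cx.comp d.ex) (g := c.cx.comp d.L) fun t y => by
    have h := (r.triv hq c hA hB hne (d.av_mem t)).2.2.2 (d.ey y)
    rw [dl_apply, d.a_ey', add_assoc, add_sub_cancel_left, map_add] at h
    exact h
  exact ⟨fun x => c.mem_fix_sup_iff.2 ⟨hzero.1 x, c.cy_core hs.smul_zero hq hs (d.ex_core hs hq x)⟩,
    fun z => c.mem_fix_sup_iff.2 ⟨hzero.2 z, c.cy_core hs.smul_zero hq hs (d.L_core hs hq z)⟩⟩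

theorem Roots.cross_cy (y : F) : c.cy (d.ey y) = 0 :=
  c.cy_of_fix one_ne_zero ((r.triv hq d hB hA hne.symm (c.av_mem 1)).1 y)

theorem Roots.cy_keep {g : P} (hg : g ∈ A ⊔ RA) (u : U) : d.cy (ρ g u) = d.cy u :=
  d.cy_of_comm (r.comm_member hq c hA hB hne (d.av_mem 1) hg).symm
    (fun x => c.fix_sup ((r.cross_ex hq c d hA hB hne).1 x) hg)
    (fun z => c.fix_sup ((r.cross_ex hq c d hA hB hne).2 z) hg) u

/-- **The halves of one member are fixed by the join of another.** -/
theorem Roots.cross_ey (y : F) : d.ey y ∈ fix ρ (A ⊔ RA) := by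
  classical
  have hs := r.set_up
  have hU := hs.smul_zero
  refine c.mem_fix_sup_iff.2 ⟨?_, r.cross_cy hq c d hA hB hne y⟩
  set g := c.h * d.rv y * c.h⁻¹ * d.rv y with hg
  set l := c.lam
  have hdA : ∀ u, c.cy (ρ (d.rv y) u) = c.cy u :=
    r.cy_keep hq d c hB hA hne.symm (Subgroup.mem_sup_right (d.rv_mem y))
  have hact : ∀ u, c.cy u = 0 → ρ g u = u + c.ex ((1 + l) * c.cx (d.ey (y * d.cx u))) := by
    intro u hu
    have hr : ∀ v, ρ (d.rv y) v = v + (d.ey (y * d.cx v) + d.L (y * d.cx v ^ 2)) := fun v => by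
      have e : ρ (d.rv y) v - v = ρ (d.rv y) (d.ex (d.cx v)) - d.ex (d.cx v) :=
        d.r_disp (d.rv_mem y) (by rw [d.cx_ex])
      rw [sub_eq_iff_eq_add.1 e, d.r_ex' hU hq]
      abel
    set φ := c.cx (d.ey (y * d.cx u))
    set u1 := ρ (d.rv y) u with hu1
    have hy1 : c.cy u1 = 0 := by rw [hu1, hdA, hu]
    have hx1 : c.cx u1 = c.cx u + φ := by
      rw [hu1, hr, map_add, map_add, (c.coords_of_fix ((r.cross_ex hq c d hA hB hne).2 _)).1, add_zero]
    set u2 := ρ c.h⁻¹ u1 with hu2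
    have e2 : u2 = u1 + c.ex ((l⁻¹ - 1) * c.cx u1) := c.h_inv_of_cy hy1
    have hx2 : d.cx u2 = d.cx u := by
      rw [e2, map_add, (d.coords_of_fix ((r.cross_ex hq d c hB hA hne.symm).1 _)).1, add_zero, hu1, d.cx_r]
    set u3 := ρ (d.rv y) u2 with hu3
    have e3 : u3 = u + c.ex ((l⁻¹ - 1) * (c.cx u + φ)) := by
      rw [hu3, hr, hx2, e2, hx1, hu1, hr]
      calc _ = u + c.ex ((l⁻¹ - 1) * (c.cx u + φ)) + ((d.ey (y * d.cx u) + d.ey (y * d.cx u)) +
            (d.L (y * d.cx u ^ 2) + d.L (y * d.cx u ^ 2))) := by abel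
        _ = _ := by rw [add_self hU, add_self hU, add_zero, add_zero]
    have hy3 : c.cy u3 = 0 := by rw [e3, map_add, hu, c.cy_ex, add_zero]
    rw [hg, act_mul, act_mul, act_mul, ← hu1, ← hu2, ← hu3, c.h_of_cy hy3, e3, map_add, c.cx_ex, add_assoc,
      ← map_add]
    congr 2
    have hl : l ≠ 0 := c.lam_ne
    field_simp
    linear_combination (-φ * l ^ 2) * c.char_two
  obtain ⟨w, hw, hw0, hwst⟩ := hs.exists_fixed M.one_mem
  rw [cm_one] at hw
  have hwE : ∀ E ∈ membersIn cl (T : Subgroup P), w ∈ fix ρ E := fun E hE => fix_antitone ρ hE.2 hw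
  have hgM : g ∈ M := r.mem_M hq c hwst (r.fix_X hq c fun E hE => by
    rw [hact w (c.mem_fix_iff.1 (hwE A hA))]
    refine add_mem (hwE E hE) ?_
    obtain ⟨R', ⟨e⟩⟩ := r.charted E hE
    exact e.fix_of_cy (e.cy_core hU hq hs (c.ex_core hs hq _)))
  set b := d.av 1
  have hv := sub_mem_img ρ (d.av_mem 1) (d.ey 1)
  rw [d.a_ey', add_assoc, add_sub_cancel_left, one_pow, one_mul] at hv
  set v := d.ex 1 + d.L 1
  have hB' := r.permute hq c hgM hB
  have hgv : ρ g v ∈ img ρ (cm g B) := mem_img_cm ρ hv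
  have hcv : c.cy v = 0 ∧ c.cx v = 0 ∧ d.cx v = 1 := by
    obtain ⟨h1, h2⟩ := r.cross_ex hq c d hA hB hne
    obtain ⟨a1, a2⟩ := c.coords_of_fix (add_mem (h1 1) (h2 1))
    exact ⟨a2, a1, by rw [map_add, d.cx_ex, (d.coords_of_fix (d.L_mem 1)).1, add_zero]⟩
  have hgve := hact v hcv.1
  rw [hcv.2.2, mul_one] at hgve
  have key : ∀ {E S : Subgroup P} (e : Chart ρ M E S F), E ∈ membersIn cl (T : Subgroup P) → cm g B ≠ E →
      e.cx (ρ g v) = 0 := fun {E S} e hE hne' => by
    have h1 : img ρ (cm g B) ≤ e.cx.ker := (img_le ρ).2 fun b' hb' u => by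
      rw [AddMonoidHom.mem_ker, ← dl_apply]
      exact (r.triv hq e hE hB' hne' hb').2.2.2 u
    exact AddMonoidHom.mem_ker.1 (h1 hgv)
  by_cases hEA : cm g B = A
  · have := key d hB fun e => hne (e.symm.trans hEA)
    rw [hgve, map_add, hcv.2.2, (d.coords_of_fix ((r.cross_ex hq d c hB hA hne.symm).1 _)).1, add_zero] at this
    exact absurd this one_ne_zero
  · have := key c hA hEA
    rw [hgve, map_add, hcv.2.1, c.cx_ex, zero_add, mul_eq_zero] at this
    refine this.resolve_left fun e => c.lam_ne_one hq ?_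
    linear_combination e - c.char_two

/-- **Different members have commuting joins.** -/
theorem Roots.comm_join {g k : P} (hg : g ∈ A ⊔ RA) (hk : k ∈ B ⊔ RB) : g * k = k * g := by
  have hs := r.set_up
  have hU := hs.smul_zero
  have hfix : ∀ (t : F) v, ρ (d.rv t) v - v ∈ fix ρ (A ⊔ RA) := fun t v => by
    rw [d.r_disp (d.rv_mem t) (u := v) (v := d.ex (d.cx v)) (by rw [d.cx_ex]), d.r_ex' hU hq, add_assoc,
      add_sub_cancel_left]
    exact add_mem (r.cross_ey hq c d hA hB hne _) ((r.cross_ex hq c d hA hB hne).2 _)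
  have hfix' : ∀ (t : F) v, ρ (c.rv t) v - v ∈ fix ρ (B ⊔ RB) := fun t v => by
    rw [c.r_disp (c.rv_mem t) (u := v) (v := c.ex (c.cx v)) (by rw [c.cx_ex]), c.r_ex' hU hq, add_assoc,
      add_sub_cancel_left]
    exact add_mem (r.cross_ey hq d c hB hA hne.symm _) ((r.cross_ex hq d c hB hA hne.symm).2 _)
  have h1 : B ⊔ RB ≤ Subgroup.centralizer ({g} : Set P) := by
    refine sup_le (fun b hb => Subgroup.mem_centralizer_singleton_iff.2 (r.comm_member hq c hA hB hne hb hg)) ?_
    intro x hx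
    have h2 : A ⊔ RA ≤ Subgroup.centralizer ({x} : Set P) := sup_le
      (fun a ha => Subgroup.mem_centralizer_singleton_iff.2
        (r.comm_member hq d hB hA hne.symm ha (Subgroup.mem_sup_right hx)))
      fun y hy => Subgroup.mem_centralizer_singleton_iff.2 (act_ext ρ hs.inj fun u => by
        obtain ⟨t, rfl⟩ := c.rv_surj y hy
        obtain ⟨s, rfl⟩ := d.rv_surj x hx
        have e1 := c.r_fix t (hfix s u)
        have e2 := d.r_fix s (hfix' t u)
        rw [map_sub] at e1 e2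
        rw [act_mul, act_mul, sub_eq_iff_eq_add.1 e1, sub_eq_iff_eq_add.1 e2]
        abel)
    exact Subgroup.mem_centralizer_singleton_iff.2 (Subgroup.mem_centralizer_singleton_iff.1 (h2 hg)).symm
  exact (Subgroup.mem_centralizer_singleton_iff.1 (h1 hk)).symm

end Two

/-- **All charts of one member have the same join.** -/
theorem Roots.join_eq {X : Subgroup P} {cl : Set (Subgroup P)} {F : Type} [Field F] [Fintype F]
    (r : Roots ρ T M X cl F) (hq : 2 < Fintype.card F) {A R R' : Subgroup P} (c : Chart ρ M A R F)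
    (c' : Chart ρ M A R' F) (hA : A ∈ membersIn cl (T : Subgroup P)) : A ⊔ R' = A ⊔ R := by
  classical
  suffices ∀ {R R' : Subgroup P} (c : Chart ρ M A R F) (c' : Chart ρ M A R' F), A ⊔ R' ≤ A ⊔ R from
    le_antisymm (this c c') (this c' c)
  intro R R' c c'
  have hs := r.set_up
  obtain ⟨w, hw, hw0, hwst⟩ := hs.exists_fixed M.one_mem
  rw [cm_one] at hw
  set g := c'.rv 1
  have hgΓ : g ∈ A ⊔ R' := Subgroup.mem_sup_right (c'.rv_mem 1)
  obtain ⟨γ, hγ, hcy⟩ := c.exists_move (ρ g w)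
  set n := γ * g with hn
  have hcomm : ∀ B ∈ membersIn cl (T : Subgroup P), B ≠ A → ∀ b ∈ B, b * n = n * b := fun B hB hne b hb => by
    rw [hn, ← mul_assoc, r.comm_member hq c hA hB hne hb hγ, mul_assoc, r.comm_member hq c' hA hB hne hb hgΓ,
      mul_assoc]
  have hnM : n ∈ M := r.mem_M hq c hwst (r.fix_X hq c fun B hB => by
    by_cases hne : B = A
    · subst hne
      rw [hn, act_mul]; exact c.fix_of_cy hcy
    · exact fun b hb => by rw [← act_mul, hcomm B hB hne b hb, act_mul, hw b (hB.2 hb)])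
  have hnA : cm n A = A := by
    by_contra hne
    have h1 : cm n⁻¹ (cm n A) = cm n A := cm_eq_self fun b hb => by
      have := hcomm _ (r.permute hq c hnM hA) hne b hb
      rw [inv_inv, mul_assoc, this, ← mul_assoc, inv_mul_cancel, one_mul]
    exact hne (h1.symm.trans (cm_inv_cm n A))
  rw [← c'.gen g hgΓ (c'.rv_notMem one_ne_zero)]
  refine sup_le le_sup_left ?_
  rw [show g = γ⁻¹ * n by rw [hn, inv_mul_cancel_left], ← cm_cm, hnA]
  exact Local.map_conj_le fun a ha => mul_mem (mul_mem (inv_mem hγ) (Subgroup.mem_sup_left ha)) (inv_mem (inv_mem hγ))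

end CfsgLib.RootTwo
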