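import Cfsg.Agent.Lib.RootTwo.Trans
import Mathlib.Data.Set.Card

/-!
An outside transvection disagrees with exactly one member.
-/

set_option autoImplicit false
set_option linter.unusedSectionVars false
set_option linter.style.haveILetI false

namespace CfsgLib.RootTwo

open CfsgLib CfsgLib.RootCommute CfsgLib.StrongFusion
open CfsgLib.SL2Pair (fix)

universe u v

variable {P : Type u} [Group P] [Finite P] {U : Type v} [AddCommGroup U] [Finite U] {ρ : P →* AddMonoid.End U}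
  {T : Sylow 2 P} {M : Subgroup P}

variable (ρ) in
/-- The elements keeping a set. -/
def setStab (S : Set U) : Subgroup P where
  carrier := {g | ∀ y, ρ g y ∈ S ↔ y ∈ S}
  one_mem' y := by rw [RootCommute.act_one]
  mul_mem' {g h} hg hh y := by rw [act_mul]; exact (hg _).trans (hh y)
  inv_mem' {g} hg y := by
    have := hg (ρ g⁻¹ y)
    rw [act_inv'] at this
    exact this.symm

theorem setStab_of_mapsTo {S : Set U} {g : P} (h : ∀ y ∈ S, ρ g y ∈ S) : g ∈ setStab ρ S := fun y => by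
  refine ⟨fun hy => ?_, h y⟩
  have hinj : Function.Injective fun z : S => (⟨ρ g z, h z z.2⟩ : S) := fun a b e =>
    Subtype.ext (act_injective ρ g (congrArg Subtype.val e))
  obtain ⟨⟨z, hz⟩, hze⟩ := Finite.injective_iff_surjective.1 hinj ⟨_, hy⟩
  rwa [← act_injective ρ g (congrArg Subtype.val hze)]

/-- A set swept out from one point by two-elements keeping it has two-power size. -/
theorem card_pow {S : Set U} {t₀ : U} {Fs : Set P} (hFT : Fs ⊆ (T : Subgroup P))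
    (hkeep : ∀ f ∈ Fs, ∀ y ∈ S, ρ f y ∈ S) (ht₀ : t₀ ∈ S) (hall : ∀ s ∈ S, ∃ f ∈ Fs, ρ f t₀ = s) :
    ∃ n, S.ncard = 2 ^ n := by
  set K := Subgroup.closure Fs with hK
  have hKT : K ≤ (T : Subgroup P) := (Subgroup.closure_le _).2 hFT
  have hKS : K ≤ setStab ρ S := (Subgroup.closure_le _).2 fun f hf => setStab_of_mapsTo (hkeep f hf)
  letI : MulAction K U :=
    { smul := fun g u => ρ (g : P) u
      one_smul := fun u => RootCommute.act_one ρ u
      mul_smul := fun g h u => act_mul ρ _ _ u }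
  obtain ⟨n, hn⟩ := (T.2.to_le hKT).card_orbit t₀
  refine ⟨n, ?_⟩
  rw [← Nat.card_coe_set_eq, ← hn]
  refine Nat.card_congr (Equiv.setCongr (Set.ext fun y => ⟨fun hy => ?_, ?_⟩))
  · obtain ⟨f, hf, e⟩ := hall y hy
    exact ⟨⟨f, Subgroup.subset_closure hf⟩, e⟩
  · rintro ⟨g, rfl⟩
    exact (hKS g.2 t₀).2 ht₀

namespace Tv

variable {C : Set U} {tv : U → P} {B : U →+ U →+ ZMod 2} (h : Tv ρ T M C tv B)
include h

theorem add_self (x : U) : x + x = 0 := RootTwo.add_self h.set_up.smul_zero x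

theorem act (c : U) (hc : c ∈ C) (u : U) :
    B u c = 0 ∧ ρ (tv c) u = u ∨ B u c = 1 ∧ ρ (tv c) u = u + c :=
  (zmod_two_cases (B u c)).imp (fun e => ⟨e, h.act_zero c hc u e⟩) fun e => ⟨e, h.act_one c hc u e⟩

theorem exists_one {c : U} (hc : c ∈ C) : ∃ d ∈ C, B c d = 1 := by
  by_contra hno
  push Not at hno
  exact h.ne c hc (h.nondeg c fun d hd => (zmod_two_cases _).resolve_right (hno d hd))

theorem fixed_iff {c : U} (hc : c ∈ C) {u : U} : ρ (tv c) u = u ↔ B u c = 0 := by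
  rcases h.act c hc u with ⟨e, e'⟩ | ⟨e, e'⟩
  · exact iff_of_true e' e
  · refine iff_of_false (fun e'' => h.ne c hc ?_) (by rw [e]; exact one_ne_zero)
    rwa [e', add_eq_left] at e''

theorem tv_ne_one {c : U} (hc : c ∈ C) : tv c ≠ 1 := fun e => by
  obtain ⟨d, -, hd⟩ := h.exists_one hc
  have : B d c = 0 := (h.fixed_iff hc).1 (by rw [e, RootCommute.act_one])
  rw [h.symm, hd] at this
  exact one_ne_zero this

theorem tv_self {c : U} (hc : c ∈ C) : ρ (tv c) c = c := h.act_zero c hc c (h.self c)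

theorem tv_sq {c : U} (hc : c ∈ C) : tv c * tv c = 1 := act_ext ρ h.set_up.inj fun u => by
  rw [act_mul, RootCommute.act_one]
  rcases h.act c hc u with ⟨-, e⟩ | ⟨-, e⟩
  · rw [e, e]
  · rw [e, map_add, e, h.tv_self hc, add_assoc, h.add_self, add_zero]

theorem conj {c : U} (hc : c ∈ C) (g : P) : g * tv c * g⁻¹ = tv (ρ g c) := act_ext ρ h.set_up.inj fun u => by
  have hB : B u (ρ g c) = B (ρ g⁻¹ u) c := by
    have := h.form_inv g (ρ g⁻¹ u) c
    rwa [act_inv'] at this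
  rw [act_mul, act_mul]
  rcases h.act c hc (ρ g⁻¹ u) with ⟨e1, e2⟩ | ⟨e1, e2⟩
  · rw [e2, act_inv', h.act_zero _ (h.C_inv g c hc) u (hB.trans e1)]
  · rw [e2, map_add, act_inv', h.act_one _ (h.C_inv g c hc) u (hB.trans e1)]

theorem inM_conj {c : U} (hc : c ∈ C) {m : P} (hm : m ∈ M) : tv (ρ m c) ∈ M ↔ tv c ∈ M := by
  rw [← h.conj hc]
  refine ⟨fun hh => ?_, fun hh => M.mul_mem (M.mul_mem hm hh) (M.inv_mem hm)⟩
  have := M.mul_mem (M.mul_mem (M.inv_mem hm) hh) hm
  rwa [show m⁻¹ * (m * tv c * m⁻¹) * m = tv c by group] at this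

theorem mem_T_conj {c : U} (hc : c ∈ C) {t : P} (ht : t ∈ (T : Subgroup P)) (hcT : tv c ∈ (T : Subgroup P)) :
    tv (ρ t c) ∈ (T : Subgroup P) := by
  rw [← h.conj hc]; exact mul_mem (mul_mem ht hcT) (inv_mem ht)

/-- A vector fixed by the Sylow subgroup is moved by every outside transvection. -/
theorem fixed_one {w : U} (hw : w ∈ fix ρ (T : Subgroup P)) (hw0 : w ≠ 0) {e : U} (he : e ∈ C) (heM : tv e ∉ M) :
    B w e = 1 := (zmod_two_cases _).resolve_left fun h0 => by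
  refine heM (h.set_up.stab_le M.one_mem ?_ hw0 (h.act_zero e he w h0))
  rwa [cm_one]

/-- No invariant subgroup is killed by an outside transvection. -/
theorem eq_bot_of_inv {S : AddSubgroup U} (hS : ∀ g ∈ (T : Subgroup P), ∀ x ∈ S, ρ g x ∈ S) {e : U} (he : e ∈ C)
    (heM : tv e ∉ M) (h0 : ∀ x ∈ S, B x e = 0) : S = ⊥ := by
  by_contra hne
  obtain ⟨w, hw, hw0, hwT⟩ := exists_fix ρ h.set_up.smul_zero (E := (T : Subgroup P)) T.2 (W := S) hS hne
  exact one_ne_zero ((h.fixed_one hwT hw0 he heM).symm.trans (h0 w hw))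

/-- The members disagreeing with a transvection. -/
def opposed (_h : Tv ρ T M C tv B) (e : U) : Set U := {t | t ∈ C ∧ tv t ∈ (T : Subgroup P) ∧ B t e = 1}

theorem opposed_nonempty {e : U} (he : e ∈ C) (heM : tv e ∉ M) : (h.opposed e).Nonempty := by
  by_contra hno
  refine heM (h.set_up.le_M (h.max e he fun d hd hdT => ?_))
  rw [h.symm]
  exact (zmod_two_cases _).resolve_right fun h1 => hno ⟨d, hd, hdT, h1⟩

theorem add_mem_C {e t : U} (he : e ∈ C) (ht : t ∈ C) (h1 : B e t = 1) : e + t ∈ C := by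
  rw [← h.act_one t ht e h1]; exact h.C_inv _ e he

theorem add_out {e t : U} (he : e ∈ C) (heM : tv e ∉ M) (ht : t ∈ C) (htT : tv t ∈ (T : Subgroup P))
    (h1 : B e t = 1) : tv (e + t) ∉ M := by
  rw [← h.act_one t ht e h1]
  exact fun hh => heM ((h.inM_conj he (h.set_up.le_M htT)).1 hh)

/-- The product of two translates of an outside transvection. -/
def shift (_h : Tv ρ T M C tv B) (e t s : U) : P := tv (e + t) * tv (e + s)

theorem shift_act {e t s u : U} (he : e ∈ C) (ht : t ∈ h.opposed e) (hs : s ∈ h.opposed e) (hu : u ∈ C)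
    (huT : tv u ∈ (T : Subgroup P)) :
    (B u e = 0 → ρ (h.shift e t s) u = u) ∧ (B u e = 1 → ρ (h.shift e t s) u = u + t + s) := by
  have het : e + t ∈ C := h.add_mem_C he ht.1 (by rw [h.symm]; exact ht.2.2)
  have hes : e + s ∈ C := h.add_mem_C he hs.1 (by rw [h.symm]; exact hs.2.2)
  have h1 : B u (e + t) = B u e := by rw [map_add, h.comm u hu t ht.1 huT ht.2.1, add_zero]
  have h2 : B u (e + s) = B u e := by rw [map_add, h.comm u hu s hs.1 huT hs.2.1, add_zero]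
  rw [shift, act_mul]
  constructor
  · intro h0
    rw [h.act_zero _ hes u (h2.trans h0), h.act_zero _ het u (h1.trans h0)]
  · intro h0
    have h3 : B (e + s) (e + t) = 0 := by
      simp only [map_add, AddMonoidHom.add_apply, h.self, ht.2.2, hs.2.2, h.symm e t,
        h.comm s hs.1 t ht.1 hs.2.1 ht.2.1]
      decide
    rw [h.act_one _ hes u (h2.trans h0), h.act_one _ het (u + (e + s)) (by
      rw [show B (u + (e + s)) = B u + B (e + s) from map_add _ _ _, AddMonoidHom.add_apply, h1, h0, h3, add_zero])]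
    calc u + (e + s) + (e + t) = u + t + s + (e + e) := by abel
      _ = _ := by rw [h.add_self, add_zero]

theorem shift_mem {e t s u : U} (he : e ∈ C) (ht : t ∈ h.opposed e) (hs : s ∈ h.opposed e) (hu : u ∈ C)
    (huT : tv u ∈ (T : Subgroup P)) :
    tv (ρ (h.shift e t s) u) ∈ (T : Subgroup P) ∧ B (ρ (h.shift e t s) u) e = B u e := by
  obtain ⟨h0, h1⟩ := h.shift_act he ht hs hu huT
  rcases zmod_two_cases (B u e) with hb | hb
  · rw [h0 hb]; exact ⟨huT, rfl⟩
  · have hC := h.C_inv (h.shift e t s) u hu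
    rw [h1 hb] at hC ⊢
    refine ⟨h.max _ hC fun d hd hdT => ?_, ?_⟩
    · simp only [map_add, AddMonoidHom.add_apply, h.comm u hu d hd huT hdT, h.comm t ht.1 d hd ht.2.1 hdT,
        h.comm s hs.1 d hd hs.2.1 hdT, add_zero]
    · simp only [map_add, AddMonoidHom.add_apply, hb, ht.2.2, hs.2.2]; decide

theorem shift_opposed {e t s u : U} (he : e ∈ C) (ht : t ∈ h.opposed e) (hs : s ∈ h.opposed e)
    (hu : u ∈ h.opposed e) : ρ (h.shift e t s) u ∈ h.opposed e := by
  obtain ⟨h1, h2⟩ := h.shift_mem he ht hs hu.1 hu.2.1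
  exact ⟨h.C_inv _ u hu.1, h1, h2.trans hu.2.2⟩

/-- With the shifts in the Sylow subgroup. -/
theorem opposed_subsingleton_aux {e : U} (he : e ∈ C) (heM : tv e ∉ M)
    (hT : ∀ t ∈ h.opposed e, ∀ s ∈ h.opposed e, h.shift e t s ∈ (T : Subgroup P)) :
    (h.opposed e).Subsingleton := by
  set N := h.opposed e with hN
  intro u₀ hu₀ v₀ hv₀
  -- moves inside a set of members
  have hstay : ∀ t ∈ N, ∀ s ∈ N, ∀ y ∈ C, tv y ∈ (T : Subgroup P) → y ∉ N → ρ (h.shift e t s) y = y :=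
    fun t ht s hs y hy hyT hyN =>
      (h.shift_act he ht hs hy hyT).1 ((zmod_two_cases _).resolve_right fun h1 => hyN ⟨hy, hyT, h1⟩)
  have hhit : ∀ t₀ ∈ N, ∀ s ∈ N, ρ (h.shift e t₀ s) t₀ = s := fun t₀ ht s hs => by
    rw [(h.shift_act he ht hs ht.1 ht.2.1).2 ht.2.2, h.add_self, zero_add]
  have hblock : ∀ x ∈ (T : Subgroup P), ∀ t₀ ∈ N, ρ x t₀ ∈ N → ∀ y ∈ N, ρ x y ∈ N := by
    intro x hx t₀ ht₀ hxt
    set N' := (fun y => ρ x y) '' N with hN'
    set m := ρ x t₀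
    let F₁ : Set P := {f | ∃ s ∈ N, f = h.shift e m s}
    let F₂ : Set P := {f | ∃ s ∈ N, f = x * h.shift e t₀ s * x⁻¹}
    obtain ⟨k, hk⟩ := card_pow (ρ := ρ) (T := T) (S := N) (t₀ := m) (Fs := F₁)
      (by rintro _ ⟨s, hs, rfl⟩; exact hT _ hxt _ hs)
      (by rintro _ ⟨s, hs, rfl⟩ y hy; exact h.shift_opposed he hxt hs hy)
      hxt (fun s hs => ⟨_, ⟨s, hs, rfl⟩, hhit _ hxt s hs⟩)
    have hmem : ∀ y ∈ N', y ∈ C ∧ tv y ∈ (T : Subgroup P) := by
      rintro _ ⟨y, hy, rfl⟩; exact ⟨h.C_inv _ y hy.1, h.mem_T_conj hy.1 hx hy.2.1⟩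
    obtain ⟨a, ha⟩ := card_pow (ρ := ρ) (T := T) (S := N ∪ N') (t₀ := m) (Fs := F₁ ∪ F₂)
      (by
        rintro _ (⟨s, hs, rfl⟩ | ⟨s, hs, rfl⟩)
        · exact hT _ hxt _ hs
        · exact mul_mem (mul_mem hx (hT _ ht₀ _ hs)) (inv_mem hx))
      (by
        rintro _ (⟨s, hs, rfl⟩ | ⟨s, hs, rfl⟩) y hy
        · by_cases hyN : y ∈ N
          · exact Or.inl (h.shift_opposed he hxt hs hyN)
          · obtain ⟨hyC, hyT⟩ := hmem y (hy.resolve_left hyN)
            rw [hstay _ hxt _ hs y hyC hyT hyN]; exact hy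
        · rw [act_mul, act_mul]
          by_cases hyN : y ∈ N'
          · obtain ⟨z, hz, rfl⟩ := hyN
            refine Or.inr ⟨_, h.shift_opposed he ht₀ hs hz, ?_⟩
            rw [act_inv]
          · have hyC : y ∈ C ∧ tv y ∈ (T : Subgroup P) := by
              obtain hy' | hy' := hy
              · exact ⟨hy'.1, hy'.2.1⟩
              · exact hmem y hy'
            rw [hstay _ ht₀ _ hs _ (h.C_inv _ y hyC.1) (h.mem_T_conj hyC.1 (inv_mem hx) hyC.2)
              (fun hz => hyN ⟨_, hz, act_inv' ρ x y⟩), act_inv']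
            exact hy)
      (Or.inl hxt) (by
        rintro s (hs | ⟨z, hz, rfl⟩)
        · exact ⟨_, Or.inl ⟨s, hs, rfl⟩, hhit _ hxt s hs⟩
        · refine ⟨_, Or.inr ⟨z, hz, rfl⟩, ?_⟩
          rw [act_mul, act_mul, act_inv, hhit _ ht₀ z hz])
    have hcard' : N'.ncard = N.ncard := Set.ncard_image_of_injective _ (act_injective ρ x)
    have hsum := Set.ncard_union_add_ncard_inter N N' (Set.toFinite _) (Set.toFinite _)
    have hpos : 0 < (N ∩ N').ncard := (Set.ncard_pos (Set.toFinite _)).2 ⟨m, hxt, t₀, ht₀, rfl⟩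
    have hlt : a < k + 1 := (Nat.pow_lt_pow_iff_right (le_refl 2)).1 (by rw [pow_succ, ← ha, ← hk]; omega)
    have hle : (N ∪ N').ncard ≤ N.ncard := by
      rw [ha, hk]; exact Nat.pow_le_pow_right (by norm_num) (Nat.lt_succ_iff.1 hlt)
    have heq : N = N ∪ N' := Set.eq_of_subset_of_ncard_le Set.subset_union_left hle (Set.toFinite _)
    exact fun y hy => heq.ge (Or.inr ⟨y, hy, rfl⟩)
  set S := AddSubgroup.closure {w | ∃ x ∈ (T : Subgroup P), ∃ u ∈ N, ∃ v ∈ N, w = ρ x u + ρ x v} with hS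
  have hSbot : S = ⊥ := by
    refine h.eq_bot_of_inv (fun g hg x hx => ?_) he heM fun x hx => ?_
    · have h1 : S ≤ S.comap (ρ g : U →+ U) := (AddSubgroup.closure_le _).2 (by
        rintro _ ⟨x, hxT, u, hu, v, hv, rfl⟩
        exact AddSubgroup.subset_closure ⟨g * x, mul_mem hg hxT, u, hu, v, hv, by
          show ρ g (ρ x u + ρ x v) = _
          rw [map_add, act_mul, act_mul]⟩)
      exact h1 hx
    · have h1 : S ≤ (B.flip e).ker := (AddSubgroup.closure_le _).2 (by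
        rintro _ ⟨x, hxT, u, hu, v, hv, rfl⟩
        show B (ρ x u + ρ x v) e = 0
        rw [map_add, AddMonoidHom.add_apply]
        have hz : ∀ w ∈ N, ρ x w ∉ N → B (ρ x w) e = 0 := fun w hw hn =>
          (zmod_two_cases _).resolve_right fun h1 =>
            hn ⟨h.C_inv _ w hw.1, h.mem_T_conj hw.1 hxT hw.2.1, h1⟩
        by_cases hxu : ρ x u ∈ N
        · rw [hxu.2.2, (hblock x hxT u hu hxu v hv).2.2]; decide
        · rw [hz u hu hxu, hz v hv fun hxv => hxu (hblock x hxT v hv hxv u hu), add_zero])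
      exact h1 hx
  have hw : u₀ + v₀ ∈ S := AddSubgroup.subset_closure
    ⟨1, one_mem _, u₀, hu₀, v₀, hv₀, by rw [RootCommute.act_one, RootCommute.act_one]⟩
  rw [hSbot, AddSubgroup.mem_bot] at hw
  calc u₀ = u₀ + (v₀ + v₀) := by rw [h.add_self, add_zero]
    _ = (u₀ + v₀) + v₀ := by abel
    _ = v₀ := by rw [hw, zero_add]

/-- **One partner.** -/
theorem opposed_subsingleton {e : U} (he : e ∈ C) (heM : tv e ∉ M) : (h.opposed e).Subsingleton := by
  set Xm := Subgroup.closure {g | ∃ c ∈ C, tv c ∈ (T : Subgroup P) ∧ g = tv c} with hXm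
  have hXT : Xm ≤ (T : Subgroup P) := (Subgroup.closure_le _).2 (by rintro _ ⟨c, -, hcT, rfl⟩; exact hcT)
  set Ws : Set P := {g | ∃ t ∈ h.opposed e, ∃ s ∈ h.opposed e, g = h.shift e t s} with hWs
  set S₁ := AddSubgroup.closure {w | ∃ t ∈ h.opposed e, w = e + t} with hS₁
  have hW2 : IsPGroup 2 (Subgroup.closure Ws) := by
    refine (isPGroup_flag h.set_up.inj h.set_up.smul_zero S₁ S₁).to_le ?_
    have hgen : ∀ t ∈ h.opposed e, tv (e + t) ∈ flag ρ S₁ S₁ := by
      intro t ht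
      have het : e + t ∈ C := h.add_mem_C he ht.1 (by rw [h.symm]; exact ht.2.2)
      have hin : e + t ∈ S₁ := AddSubgroup.subset_closure ⟨t, ht, rfl⟩
      have h1 : S₁ ≤ (B.flip (e + t)).ker := (AddSubgroup.closure_le _).2 (by
        rintro _ ⟨s, hs, rfl⟩
        show B (e + s) (e + t) = 0
        simp only [map_add, AddMonoidHom.add_apply, h.self, ht.2.2, hs.2.2, h.symm e t,
          h.comm s hs.1 t ht.1 hs.2.1 ht.2.1]
        decide)
      refine ⟨fun x hx => h.act_zero _ het x (h1 hx), fun x hx => ?_, fun x => ?_⟩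
      · rw [h.act_zero _ het x (h1 hx), sub_self]; exact zero_mem _
      · rcases h.act _ het x with ⟨-, hh⟩ | ⟨-, hh⟩ <;> rw [hh]
        · rw [sub_self]; exact zero_mem _
        · rwa [add_sub_cancel_left]
    refine (Subgroup.closure_le _).2 ?_
    rintro _ ⟨t, ht, s, hs, rfl⟩
    exact mul_mem (hgen t ht) (hgen s hs)
  have hWN : Subgroup.closure Ws ≤ Subgroup.normalizer (Xm : Set P) := by
    refine (Subgroup.closure_le _).2 ?_
    rintro f ⟨t, ht, s, hs, rfl⟩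
    refine ZJFailure.mem_normalizer_of_forall fun x hx => ?_
    have h1 : Xm ≤ Xm.comap (MulAut.conj (h.shift e t s)).toMonoidHom := (Subgroup.closure_le _).2 (by
      rintro _ ⟨c, hc, hcT, rfl⟩
      show h.shift e t s * tv c * (h.shift e t s)⁻¹ ∈ Xm
      rw [h.conj hc]
      exact Subgroup.subset_closure ⟨_, h.C_inv _ c hc, (h.shift_mem he ht hs hc hcT).1, rfl⟩)
    exact h1 hx
  obtain ⟨g, hg⟩ := ZJFailure.exists_le_cm T (hW2.to_sup_of_normal_right' (T.2.to_le hXT) hWN)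
  have hmap : ∀ c ∈ C, tv c ∈ (T : Subgroup P) → tv (ρ g⁻¹ c) ∈ (T : Subgroup P) := fun c hc hcT => by
    have h1 : tv c ∈ cm g (T : Subgroup P) := hg (Subgroup.mem_sup_right (Subgroup.subset_closure ⟨c, hc, hcT, rfl⟩))
    have h2 := RootCommute.mem_cm.1 h1
    rwa [← h.conj hc, inv_inv]
  have hgM : g⁻¹ ∈ M := h.closed _ hmap
  have hstab : g⁻¹ ∈ setStab ρ {c | c ∈ C ∧ tv c ∈ (T : Subgroup P)} :=
    setStab_of_mapsTo fun c hc => ⟨h.C_inv _ c hc.1, hmap c hc.1 hc.2⟩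
  have hopp : ∀ t, ρ g⁻¹ t ∈ h.opposed (ρ g⁻¹ e) ↔ t ∈ h.opposed e := fun t => by
    constructor
    · rintro ⟨h1, h2, h3⟩
      obtain ⟨h4, h5⟩ := (hstab t).1 ⟨h1, h2⟩
      exact ⟨h4, h5, by rwa [h.form_inv] at h3⟩
    · rintro ⟨h1, h2, h3⟩
      exact ⟨h.C_inv _ t h1, hmap t h1 h2, by rwa [h.form_inv]⟩
  have key := h.opposed_subsingleton_aux (e := ρ g⁻¹ e) (h.C_inv _ e he) (fun hh => heM ((h.inM_conj he hgM).1 hh))
    (fun t' ht' s' hs' => ?_)
  · intro t ht s hs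
    exact act_injective ρ g⁻¹ (key ((hopp t).2 ht) ((hopp s).2 hs))
  · obtain ⟨t, rfl⟩ : ∃ t, ρ g⁻¹ t = t' := ⟨ρ g t', act_inv ρ g t'⟩
    obtain ⟨s, rfl⟩ : ∃ s, ρ g⁻¹ s = s' := ⟨ρ g s', act_inv ρ g s'⟩
    rw [hopp] at ht' hs'
    have h1 := hg (Subgroup.mem_sup_left (Subgroup.subset_closure ⟨t, ht', s, hs', rfl⟩ :
      h.shift e t s ∈ Subgroup.closure Ws))
    have h2 := RootCommute.mem_cm.1 h1
    have het : e + t ∈ C := h.add_mem_C he ht'.1 (by rw [h.symm]; exact ht'.2.2)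
    have hes : e + s ∈ C := h.add_mem_C he hs'.1 (by rw [h.symm]; exact hs'.2.2)
    show tv (ρ g⁻¹ e + ρ g⁻¹ t) * tv (ρ g⁻¹ e + ρ g⁻¹ s) ∈ (T : Subgroup P)
    rw [← map_add, ← map_add, ← h.conj het, ← h.conj hes, inv_inv]
    convert h2 using 1
    simp only [shift]
    group

end Tv

end CfsgLib.RootTwo
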