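import Mathlib.FieldTheory.Finite.Basic
import Mathlib.FieldTheory.Minpoly.IsConjRoot
import Mathlib.FieldTheory.Separable
import Mathlib.FieldTheory.Finite.GaloisField
import Mathlib.Algebra.Module.ZMod

/-!
Weights of a generator `lam` of the multiplicative group of a field of characteristic two on additive maps:
two sets of exponents separate the linear maps from the others.
-/

set_option autoImplicit false
set_option linter.unusedSectionVars false

namespace CfsgLib.RootTwo

open Polynomial

variable {F : Type} [Field F]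

/-- Twist of a map by a set of exponents. -/
def twist (lam : F) (S : Finset ℕ) (α : F → F) (y : F) : F := ∑ i ∈ S, lam ^ i * α (lam ^ i * y)

/-- What the two sets of exponents do. -/
structure Weights (lam : F) (Sm Sf : Finset ℕ) : Prop where
  m_root : ∑ i ∈ Sm, lam ^ i = 0
  m_one : (Sm.card : F) ≠ 0
  f_root : ∑ i ∈ Sf, lam ^ i ≠ 0
  f_one : (Sf.card : F) = 0
  lin : ∀ α : F →+ F, (∀ y, twist lam Sm (twist lam Sm α) y = 0) → ∀ y, α y = α 1 * y
  f_lin : ∀ α : F →+ F, ∀ y, twist lam Sf α y = twist lam Sf α 1 * y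

theorem aeval_supp {A : Type} [Semiring A] [Algebra (ZMod 2) A] (p : (ZMod 2)[X]) (x : A) :
    aeval x p = ∑ i ∈ p.support, x ^ i := by
  rw [aeval_def, eval₂_eq_sum, sum_def]
  refine Finset.sum_congr rfl fun i hi => ?_
  have h : p.coeff i = 1 := by
    have hne := mem_support_iff.1 hi
    revert hne
    generalize p.coeff i = z
    revert z
    decide
  rw [h, map_one, one_mul]

variable [Fintype F]

theorem orderOf_of_gen {lam : F} (h0 : lam ≠ 0) (hgen : ∀ x : F, x ≠ 0 → ∃ k : ℕ, x = lam ^ k) :
    orderOf lam = Fintype.card F - 1 := by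
  classical
  have hN : lam ^ (Fintype.card F - 1) = 1 := FiniteField.pow_card_sub_one_eq_one _ h0
  have hpos : 0 < Fintype.card F - 1 := by have := Fintype.one_lt_card (α := F); omega
  have hfin : 0 < orderOf lam := (isOfFinOrder_iff_pow_eq_one.2 ⟨_, hpos, hN⟩).orderOf_pos
  refine le_antisymm (orderOf_le_of_pow_eq_one hpos hN) ?_
  have h : (Finset.univ : Finset F).erase 0 ⊆ (Finset.range (orderOf lam)).image (lam ^ ·) := fun x hx => by
    obtain ⟨k, rfl⟩ := hgen x (Finset.ne_of_mem_erase hx)
    exact Finset.mem_image.2 ⟨k % orderOf lam, Finset.mem_range.2 (Nat.mod_lt _ hfin), pow_mod_orderOf lam k⟩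
  have := (Finset.card_le_card h).trans Finset.card_image_le
  rwa [Finset.card_erase_of_mem (Finset.mem_univ _), Finset.card_univ, Finset.card_range] at this

/-- The two sets of exponents exist. -/
theorem exists_weights {lam : F} (h2 : (2 : F) = 0) (h0 : lam ≠ 0)
    (hgen : ∀ x : F, x ≠ 0 → ∃ k : ℕ, x = lam ^ k) (h1 : lam ≠ 1) : ∃ Sm Sf, Weights lam Sm Sf := by
  classical
  haveI : CharP F 2 := CharTwo.of_one_ne_zero_of_two_eq_zero one_ne_zero h2
  letI : Algebra (ZMod 2) F := ZMod.algebra F 2
  set N := Fintype.card F - 1 with hNdef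
  have hord := orderOf_of_gen h0 hgen
  have hN : lam ^ N = 1 := FiniteField.pow_card_sub_one_eq_one _ h0
  set n := Module.finrank (ZMod 2) F with hndef
  have hcard : Fintype.card F = 2 ^ n := by rw [Module.card_eq_pow_finrank (K := ZMod 2) (V := F), ZMod.card]
  have hn : 2 ≤ n := by
    by_contra hlt
    have hle : (2 : ℕ) ^ n ≤ 2 ^ 1 := Nat.pow_le_pow_right (by norm_num) (by omega)
    have hN1 : N = 1 := by have := Fintype.one_lt_card (α := F); omega
    rw [hN1, pow_one] at hN
    exact h1 hN
  have hNodd : (N : ZMod 2) ≠ 0 := by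
    rw [Ne, ZMod.natCast_eq_zero_iff_even, hNdef, hcard]
    obtain ⟨j, hj⟩ : ∃ j, n = j + 1 := ⟨n - 1, by omega⟩
    rw [hj]
    rw [Nat.not_even_iff_odd]
    exact ⟨2 ^ j - 1, by have := Nat.one_le_two_pow (n := j); rw [pow_succ]; omega⟩
  set m := minpoly (ZMod 2) lam with hm
  have hmlam : aeval lam m = 0 := minpoly.aeval _ _
  have hdvd : m ∣ X ^ N - 1 := minpoly.dvd _ _ (by rw [map_sub, map_pow, aeval_X, map_one, hN, sub_self])
  obtain ⟨f, hf⟩ := hdvd
  have hsep : (X ^ N - 1 : (ZMod 2)[X]).Separable := by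
    have := separable_X_pow_sub_C (n := N) (1 : ZMod 2) hNodd one_ne_zero
    rwa [map_one] at this
  have hcop : IsCoprime m f := by rw [hf] at hsep; exact hsep.isCoprime
  obtain ⟨a, b, hab⟩ := hcop
  have hm1 : m.eval 1 ≠ 0 := fun e => h1 (by
    have hd : X - C 1 ∣ m := dvd_iff_isRoot.2 e
    have hirr : Irreducible m := minpoly.irreducible (Algebra.IsIntegral.isIntegral lam)
    have hass := (irreducible_X_sub_C (1 : ZMod 2)).associated_of_dvd hirr hd
    obtain ⟨u, hu⟩ := hass.symm
    have h3 := congrArg (aeval lam) hu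
    rw [map_mul, hmlam, zero_mul, map_sub, aeval_X, aeval_C, map_one] at h3
    exact sub_eq_zero.1 h3.symm)
  have hflam : aeval lam f ≠ 0 := fun e => by
    have h3 := congrArg (aeval lam) hab
    rw [map_add, map_mul, map_mul, hmlam, e, mul_zero, mul_zero, add_zero, map_one] at h3
    exact zero_ne_one h3
  have hf1 : f.eval 1 = 0 := by
    have h3 := congrArg (eval 1) hf
    rw [eval_sub, eval_pow, eval_X, one_pow, eval_one, sub_self, eval_mul] at h3
    exact (mul_eq_zero.1 h3.symm).resolve_left hm1
  have hcount : ∀ p : (ZMod 2)[X], (p.support.card : F) = algebraMap (ZMod 2) F (p.eval 1) := fun p => by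
    have := aeval_supp p (1 : F)
    simp only [one_pow, Finset.sum_const, nsmul_eq_mul, mul_one] at this
    rw [← this, aeval_def, ← map_one (algebraMap (ZMod 2) F), eval₂_at_apply]
  -- operators on additive maps
  let R : Module.End F (F →ₗ[ZMod 2] F) :=
    { toFun := fun α => α.comp (LinearMap.mulLeft (ZMod 2) lam)
      map_add' := fun α β => rfl
      map_smul' := fun r α => rfl }
  set Cop : Module.End F (F →ₗ[ZMod 2] F) := lam • R with hCop
  have hRpow : ∀ (k : ℕ) (α : F →ₗ[ZMod 2] F) (y : F), (R ^ k) α y = α (lam ^ k * y) := by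
    intro k
    induction k with
    | zero => intro α y; simp
    | succ k ih =>
      intro α y
      rw [pow_succ, Module.End.mul_apply, ih, pow_succ']
      show α (lam * (lam ^ k * y)) = _
      rw [mul_assoc]
  have hCpow : ∀ (k : ℕ) (α : F →ₗ[ZMod 2] F) (y : F), (Cop ^ k) α y = lam ^ k * α (lam ^ k * y) := by
    intro k α y
    rw [hCop, smul_pow, LinearMap.smul_apply, LinearMap.smul_apply, hRpow]; rfl
  have htw : ∀ (p : (ZMod 2)[X]) (α : F →ₗ[ZMod 2] F) (y : F), (aeval Cop p) α y = twist lam p.support α y := by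
    intro p α y
    have h3 : aeval Cop p = ∑ i ∈ p.support, Cop ^ i := by
      rw [aeval_def, eval₂_eq_sum, sum_def]
      refine Finset.sum_congr rfl fun i hi => ?_
      have h : p.coeff i = 1 := by
        have hne := mem_support_iff.1 hi
        revert hne
        generalize p.coeff i = z
        revert z
        decide
      rw [h, map_one, one_mul]
    rw [h3, LinearMap.sum_apply, LinearMap.sum_apply]
    exact Finset.sum_congr rfl fun i _ => hCpow i α y
  have hzero : aeval Cop (X ^ N - 1 : (ZMod 2)[X]) = 0 := by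
    rw [map_sub, map_pow, aeval_X, map_one, sub_eq_zero]
    refine LinearMap.ext fun α => LinearMap.ext fun y => ?_
    rw [hCpow, hN, one_mul, one_mul, Module.End.one_apply]
  have hlin : ∀ α : F →ₗ[ZMod 2] F, (aeval Cop m) ((aeval Cop m) α) = 0 → ∀ y, α y = α 1 * y := by
    intro α hα
    have h3 : aeval Cop m α = 0 := by
      have e : m = a * m * m + b * (X ^ N - 1) := by
        rw [hf]
        calc m = (a * m + b * f) * m := by rw [hab, one_mul]
          _ = _ := by ring
      conv_lhs => rw [e]
      rw [map_add, map_mul, map_mul, map_mul, hzero, mul_zero, add_zero, Module.End.mul_apply, Module.End.mul_apply,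
        hα, map_zero]
    set m₁ : F[X] := m.map (algebraMap (ZMod 2) F) with hm₁
    have h4 : aeval R m₁ α = 0 := by
      refine LinearMap.ext fun y => ?_
      rw [hm₁, aeval_map_algebraMap, aeval_def, eval₂_eq_sum, sum_def, LinearMap.sum_apply, LinearMap.sum_apply,
        LinearMap.zero_apply]
      have h5 : ∑ i ∈ m.support, α (lam ^ i * y) = 0 := by
        rw [← map_sum, ← Finset.sum_mul, ← aeval_supp, hmlam, zero_mul, map_zero]
      refine Eq.trans (Finset.sum_congr rfl fun i hi => ?_) h5
      have h : m.coeff i = 1 := by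
        have hne := mem_support_iff.1 hi
        revert hne
        generalize m.coeff i = z
        revert z
        decide
      rw [h, map_one, one_mul, hRpow]
    set m₂ : F[X] := m₁.comp (C lam * X) with hm₂
    have h5 : aeval R m₂ α = 0 := by
      rw [hm₂, aeval_comp, map_mul, aeval_C, aeval_X, Algebra.algebraMap_eq_smul_one, smul_mul_assoc, one_mul,
        ← hCop, hm₁, aeval_map_algebraMap, h3]
    set d := EuclideanDomain.gcd m₁ m₂ with hd
    have h6 : aeval R d α = 0 := by
      rw [hd, EuclideanDomain.gcd_eq_gcd_ab, mul_comm m₁, mul_comm m₂, map_add, map_mul, map_mul,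
        LinearMap.add_apply, Module.End.mul_apply, Module.End.mul_apply, h4, h5, map_zero, map_zero, add_zero]
    have hm0 : m₁ ≠ 0 := Polynomial.map_ne_zero
      (minpoly.ne_zero (Algebra.IsIntegral.isIntegral lam))
    have hd0 : d ≠ 0 := fun e => hm0 (EuclideanDomain.gcd_eq_zero_iff.1 e).1
    have hspl : m₁.Splits := Normal.splits (inferInstance : Normal (ZMod 2) F) lam
    have hdspl : d.Splits := hspl.of_dvd hm0 (EuclideanDomain.gcd_dvd_left _ _)
    have hdsep : d.Separable :=
      (Separable.map (PerfectField.separable_of_irreducible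
        (minpoly.irreducible (Algebra.IsIntegral.isIntegral lam)))).of_dvd (EuclideanDomain.gcd_dvd_left _ _)
    -- the only common root is `lam`
    have hroot : ∀ μ : F, d.IsRoot μ → μ = lam := by
      intro μ hμ
      have hmu : m₁.IsRoot μ := hμ.dvd (EuclideanDomain.gcd_dvd_left _ _)
      have hmu2 : m₂.IsRoot μ := hμ.dvd (EuclideanDomain.gcd_dvd_right _ _)
      have hconj : ∀ z : F, aeval z m = 0 → ∃ i < n, z = lam ^ 2 ^ i := by
        intro z hz
        have hc : IsConjRoot (ZMod 2) z lam := (isConjRoot_iff_aeval_eq_zero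
          (Algebra.IsIntegral.isIntegral lam)).2 hz |>.symm
        obtain ⟨σ, hσ⟩ := isConjRoot_iff_exists_algEquiv.1 hc
        obtain ⟨i, hi⟩ := (FiniteField.bijective_frobeniusAlgEquivOfAlgebraic_pow (ZMod 2) F).2 σ
        refine ⟨i, i.2, ?_⟩
        rw [← hσ, ← hi]
        simp [AlgEquiv.coe_pow, FiniteField.coe_frobeniusAlgEquivOfAlgebraic, pow_iterate, ZMod.card]
      obtain ⟨i, hi, rfl⟩ := hconj μ (by rwa [IsRoot, hm₁, eval_map, ← aeval_def] at hmu)
      obtain ⟨j, hj, hje⟩ := hconj (lam * lam ^ 2 ^ i) (by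
        rwa [IsRoot, hm₂, eval_comp, eval_mul, eval_C, eval_X, hm₁, eval_map, ← aeval_def] at hmu2)
      have hfo : IsOfFinOrder lam := isOfFinOrder_iff_pow_eq_one.2 ⟨N, by have := Fintype.one_lt_card (α := F); omega, hN⟩
      rw [← pow_succ', hfo.pow_eq_pow_iff_modEq, hord, Nat.ModEq] at hje
      have hb1 : (2 : ℕ) ^ i ≤ 2 ^ (n - 1) := Nat.pow_le_pow_right (by norm_num) (by omega)
      have hb2 : (2 : ℕ) ^ j ≤ 2 ^ (n - 1) := Nat.pow_le_pow_right (by norm_num) (by omega)
      have hb3 : (2 : ℕ) ^ n = 2 * 2 ^ (n - 1) := by rw [← pow_succ']; congr 1; omega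
      have hb4 : (2 : ℕ) ≤ 2 ^ (n - 1) := le_trans (by norm_num) (Nat.pow_le_pow_right (by norm_num) (by omega : 1 ≤ n - 1))
      have hj0 : 1 ≤ (2 : ℕ) ^ j := Nat.one_le_two_pow
      rw [hNdef, hcard] at *
      have hjm : 2 ^ j % (2 ^ n - 1) = 2 ^ j := Nat.mod_eq_of_lt (by omega)
      rw [hjm] at hje
      have him : (2 ^ i + 1) % (2 ^ n - 1) = 2 ^ i + 1 ∨ (2 ^ i + 1) % (2 ^ n - 1) = 0 := by
        rcases lt_or_eq_of_le (show 2 ^ i + 1 ≤ 2 ^ n - 1 by omega) with h | h
        · exact Or.inl (Nat.mod_eq_of_lt h)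
        · exact Or.inr (by rw [h, Nat.mod_self])
      rcases him with h | h <;> rw [h] at hje
      · cases i with
        | zero => simp
        | succ i =>
          cases j with
          | zero => simp [pow_succ] at hje
          | succ j => exfalso; rw [pow_succ, pow_succ] at hje; omega
      · omega
    have hdd : d ∣ X - C lam := by
      refine hdspl.dvd_of_roots_le_roots hd0 ?_
      rw [roots_X_sub_C]
      refine (Multiset.le_iff_subset (nodup_roots hdsep)).2 fun μ hμ => ?_
      rw [Multiset.mem_singleton]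
      exact hroot μ (isRoot_of_mem_roots hμ)
    obtain ⟨e, he⟩ := hdd
    have h7 : aeval R (X - C lam) α = 0 := by
      rw [he, mul_comm, map_mul, Module.End.mul_apply, h6, map_zero]
    rw [map_sub, aeval_X, aeval_C, Algebra.algebraMap_eq_smul_one, LinearMap.sub_apply, sub_eq_zero] at h7
    have hstep : ∀ y, α (lam * y) = lam * α y := fun y => LinearMap.congr_fun h7 y
    have hkey : ∀ k : ℕ, α (lam ^ k) = α 1 * lam ^ k := by
      intro k
      induction k with
      | zero => simp
      | succ k ih => rw [pow_succ', hstep, ih]; ring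
    intro y
    by_cases hy : y = 0
    · rw [hy, map_zero, mul_zero]
    · obtain ⟨k, rfl⟩ := hgen y hy
      exact hkey k
  refine ⟨m.support, f.support, ?_, ?_, ?_, ?_, fun α hα => ?_, fun α => ?_⟩
  · rw [← aeval_supp, hmlam]
  · rw [hcount, Ne, map_eq_zero]; exact hm1
  · rwa [← aeval_supp]
  · rw [hcount, hf1, map_zero]
  · refine hlin (α.toZModLinearMap 2) (LinearMap.ext fun y => ?_)
    rw [htw, show ⇑((aeval Cop m) (α.toZModLinearMap 2)) = twist lam m.support α from funext fun z => htw _ _ z]
    exact hα y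
  · intro y
    have h3 : aeval Cop m (aeval Cop m (aeval Cop f (α.toZModLinearMap 2))) = 0 := by
      rw [← Module.End.mul_apply (aeval Cop m) (aeval Cop f), ← map_mul, ← hf, hzero, LinearMap.zero_apply, map_zero]
    have := hlin _ h3 y
    rwa [htw, htw] at this

end CfsgLib.RootTwo
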