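import Cfsg.Agent.Lib.RootTwo.Core
import Cfsg.Agent.Lib.RootTwo.Weights

/-!
An element fixing the core pointwise and displacing into it acts on the halves of every chart like an
element of the charted subgroup, and keeps the fixed part of the chart modulo itself.
-/

set_option autoImplicit false
set_option linter.unusedSectionVars false
set_option linter.unusedVariables false
set_option linter.style.haveILetI false

namespace CfsgLib.RootTwo

open CfsgLib CfsgLib.RootCommute CfsgLib.StrongFusion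
open CfsgLib.SL2Pair (fix)

universe u v

variable {P : Type u} [Group P] [Finite P] {U : Type v} [AddCommGroup U] [Finite U] {ρ : P →* AddMonoid.End U}
  {T : Sylow 2 P} {M : Subgroup P}

variable (ρ) in
/-- The elements fixing the core pointwise and displacing into it. -/
def zg (M : Subgroup P) : Subgroup P := flag ρ ⊥ (core ρ M)

variable (ρ) in
/-- The displacement of an element, as an additive map. -/
def dl (g : P) : U →+ U := AddMonoidHom.mk' (fun u => ρ g u - u) fun a b => by rw [map_add]; abel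

theorem dl_apply (g : P) (u : U) : dl ρ g u = ρ g u - u := rfl

theorem act_eq_dl (g : P) (u : U) : ρ g u = u + dl ρ g u := by rw [dl_apply]; abel

theorem zg_fix {g : P} (hg : g ∈ zg ρ M) {u : U} (hu : u ∈ core ρ M) : ρ g u = u :=
  sub_eq_zero.1 (AddSubgroup.mem_bot.1 (hg.2.1 u hu))

theorem dl_core {g : P} (hg : g ∈ zg ρ M) {u : U} (hu : u ∈ core ρ M) : dl ρ g u = 0 := by
  rw [dl_apply, zg_fix hg hu, sub_self]

theorem dl_mem {g : P} (hg : g ∈ zg ρ M) (u : U) : dl ρ g u ∈ core ρ M := hg.2.2 u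

theorem dl_mul {g k : P} (hg : g ∈ zg ρ M) (hk : k ∈ zg ρ M) (u : U) : dl ρ (g * k) u = dl ρ g u + dl ρ k u := by
  have e : ρ g (ρ k u) = ρ g u + dl ρ k u := by
    conv_lhs => rw [act_eq_dl k u]
    rw [map_add, zg_fix hg (dl_mem hk u)]
  rw [dl_apply (g * k), act_mul, e, dl_apply g]
  abel

theorem conj_mem_zg {g m : P} (hm : m ∈ M) (hg : g ∈ zg ρ M) : m * g * m⁻¹ ∈ zg ρ M :=
  (Subgroup.mem_normalizer_iff.1 (le_normalizer_flag (E := M)
    (fun e _ x hx => by rw [AddSubgroup.mem_bot.1 hx, map_zero]; exact zero_mem _)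
    (fun e he x hx => core_inv he hx) hm) g).1 hg

namespace Chart

variable {F : Type} [Field F] [Fintype F] {A R : Subgroup P} (c : Chart ρ M A R F)
include c

/-- The part in the common fixed vectors. -/
noncomputable def rest : U →+ U :=
  AddMonoidHom.mk' (fun u => u - c.ex (c.cx u) - c.ey (c.cy u)) fun a b => by
    simp only [map_add]; abel

theorem rest_apply (u : U) : c.rest u = u - c.ex (c.cx u) - c.ey (c.cy u) := rfl

theorem split (u : U) : u = c.ex (c.cx u) + c.ey (c.cy u) + c.rest u := by rw [c.rest_apply]; abel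

theorem rest_of_fix {v : U} (hv : v ∈ fix ρ (A ⊔ R)) : c.rest v = v := by
  rw [c.rest_apply, (c.coords_of_fix hv).1, (c.coords_of_fix hv).2, map_zero, map_zero, sub_zero, sub_zero]

theorem rest_ex (x : F) : c.rest (c.ex x) = 0 := by
  rw [c.rest_apply, c.cx_ex, c.cy_ex, map_zero, sub_zero, sub_self]

theorem rest_ey (y : F) : c.rest (c.ey y) = 0 := by
  rw [c.rest_apply, c.cx_ey, c.cy_ey, map_zero, sub_zero, sub_self]

variable (hs : Setting ρ T M) (hq : 2 < Fintype.card F)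
include hs hq

theorem ex_core (x : F) : c.ex x ∈ core ρ M := fun _ hf => c.fun_ex hs.smul_zero hq hf x

theorem L_core (z : F) : c.L z ∈ core ρ M := fun _ hf => c.fun_L hs.smul_zero hq hf z

theorem rest_core {u : U} (hu : u ∈ core ρ M) : c.rest u ∈ core ρ M := by
  rw [c.rest_apply, c.cy_core hs.smul_zero hq hs hu, map_zero, sub_zero]
  exact sub_mem hu (c.ex_core hs hq _)

theorem mem_zg {a : P} (ha : a ∈ A) : a ∈ zg ρ M :=
  ⟨fun x hx => by rw [AddSubgroup.mem_bot.1 hx, map_zero],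
    fun x hx => by rw [c.fix_of_cy (c.cy_core hs.smul_zero hq hs hx) _ ha, sub_self]; exact zero_mem _,
    fun x => c.img_le_core hs.smul_zero hq (sub_mem_img ρ ha x)⟩

theorem dl_split {g : P} (hg : g ∈ zg ρ M) (u : U) : dl ρ g u = dl ρ g (c.ey (c.cy u)) + dl ρ g (c.rest u) := by
  conv_lhs => rw [c.split u]
  rw [map_add, map_add, dl_core hg (c.ex_core hs hq _), zero_add]

/-- Sums of torus conjugates. -/
theorem exists_twist {g : P} (hg : g ∈ zg ρ M) (S : Finset ℕ) :
    ∃ G ∈ zg ρ M, (∀ y, c.cx (dl ρ G (c.ey y)) = twist c.lam S (fun z => c.cx (dl ρ g (c.ey z))) y) ∧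
      (∀ y, c.rest (dl ρ G (c.ey y)) = c.rest (dl ρ g (c.ey ((∑ i ∈ S, c.lam ^ i) * y)))) ∧
      (∀ u, c.cx (dl ρ G (c.rest u)) = (∑ i ∈ S, c.lam ^ i) * c.cx (dl ρ g (c.rest u))) ∧
      ∀ u, c.rest (dl ρ G (c.rest u)) = S.card • c.rest (dl ρ g (c.rest u)) := by
  classical
  have hpw : ∀ k : ℕ, c.h ^ k ∈ M ∧ c.h ^ k ∈ A ⊔ R := fun k =>
    ⟨pow_mem c.h_memM k, pow_mem c.h_mem k⟩
  have hey : ∀ (k : ℕ) (y : F), ρ (c.h ^ k) (c.ey (c.lam ^ k * y)) = c.ey y := by
    intro k
    induction k with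
    | zero => intro y; simp [act_one]
    | succ k ih =>
      intro y
      rw [pow_succ, act_mul, c.h_ey, pow_succ' c.lam, ← mul_assoc, ← mul_assoc, inv_mul_cancel₀ c.lam_ne, one_mul]
      exact ih y
  have hcx : ∀ (k : ℕ) (u : U), c.cx (ρ (c.h ^ k) u) = c.lam ^ k * c.cx u := by
    intro k
    induction k with
    | zero => intro u; simp [act_one]
    | succ k ih => intro u; rw [pow_succ', act_mul, c.cx_h, ih, pow_succ', mul_assoc]
  have hrest : ∀ (k : ℕ) (u : U), c.rest (ρ (c.h ^ k) u) = c.rest u := by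
    intro k
    induction k with
    | zero => intro u; simp [act_one]
    | succ k ih =>
      intro u
      rw [pow_succ', act_mul, c.rest_apply, c.cx_h, c.cy_h, ← c.h_ex, ← c.h_ey, ← map_sub, ← map_sub,
        c.h_fix (c.rest_mem _), ← c.rest_apply, ih]
  induction S using Finset.induction_on with
  | empty =>
    exact ⟨1, one_mem _, fun y => by simp [dl_apply, act_one, twist], fun y => by simp [dl_apply, act_one],
      fun u => by simp [dl_apply, act_one], fun u => by simp [dl_apply, act_one]⟩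
  | insert i S hi ih =>
    obtain ⟨G, hG, h1, h2, h3, h4⟩ := ih
    set G' := c.h ^ i * g * (c.h ^ i)⁻¹
    have hG' : G' ∈ zg ρ M := conj_mem_zg (hpw i).1 hg
    have hd : ∀ u, dl ρ G' (ρ (c.h ^ i) u) = ρ (c.h ^ i) (dl ρ g u) := fun u => by
      rw [dl_apply, dl_apply, map_sub, act_mul, act_inv, act_mul]
    have hdy : ∀ y, dl ρ G' (c.ey y) = ρ (c.h ^ i) (dl ρ g (c.ey (c.lam ^ i * y))) := fun y => by
      rw [← hd, hey]
    have hdr : ∀ u, dl ρ G' (c.rest u) = ρ (c.h ^ i) (dl ρ g (c.rest u)) := fun u => by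
      conv_lhs => rw [← c.fix_sup (v := c.rest u) (c.rest_mem u) (hpw i).2]
      exact hd _
    refine ⟨G' * G, mul_mem hG' hG, fun y => ?_, fun y => ?_, fun u => ?_, fun u => ?_⟩
    · rw [dl_mul hG' hG, map_add, hdy, hcx, h1, twist, twist, Finset.sum_insert hi]
    · rw [dl_mul hG' hG, map_add, hdy, hrest, h2, Finset.sum_insert hi, add_mul, map_add, map_add, map_add]
    · rw [dl_mul hG' hG, map_add, hdr, hcx, h3, Finset.sum_insert hi, add_mul]
    · rw [dl_mul hG' hG, map_add, hdr, hrest, h4, Finset.card_insert_of_notMem hi, succ_nsmul']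

/-- An element without mixed parts is linear between the halves. -/
theorem linear_of_unmixed {g : P} (hg : g ∈ zg ρ M) (hd : ∀ u, c.cx (dl ρ g (c.rest u)) = 0) :
    ∃ t, ∀ y, c.cx (dl ρ g (c.ey y)) = t * y := by
  obtain ⟨f, -, hf⟩ := hs.exists_good
  have hU := hs.smul_zero
  have hη := c.fun_ey hU hq hf
  obtain ⟨t, ht⟩ := exists_rep c.char_two hη
    (AddMonoidHom.mk' (fun y => f (c.ey (c.cx (dl ρ g (c.ey y))))) fun a b => by simp only [map_add])
  refine ⟨t, fun y => ?_⟩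
  set g' := g * c.av t
  have hat := c.mem_zg hs hq (c.av_mem t)
  have hg' : g' ∈ zg ρ M := mul_mem hg hat
  have hcx : ∀ u, c.cx (dl ρ g' u) = c.cx (dl ρ g (c.ey (c.cy u))) + t * c.cy u := fun u => by
    rw [dl_mul hg hat, map_add, c.dl_split hs hq hg u, map_add, hd, add_zero, dl_apply (c.av t), map_sub, c.cx_a]
    abel
  have hk : c.rv 1 * g' * c.rv 1 ∈ M := hf fun u => by
    set v := ρ (c.rv 1) u with hv
    have hru : f (ρ (c.rv 1) v) = f u := by rw [hv, ← act_mul, ← c.rv_add, c.add_self_F, c.rv_zero, act_one]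
    set w := dl ρ g' v
    have hw : w ∈ core ρ M := dl_mem hg' v
    rw [act_mul, act_mul, ← hv, act_eq_dl g' v, map_add, map_add, hru]
    have e : ρ (c.rv 1) w - w = ρ (c.rv 1) (c.ex (c.cx w)) - c.ex (c.cx w) :=
      c.r_disp (c.rv_mem 1) (by rw [c.cx_ex])
    rw [sub_eq_iff_eq_add.1 e, c.r_ex' hU hq, one_mul, one_mul,
      show c.ex (c.cx w) + c.ey (c.cx w) + c.L (c.cx w ^ 2) - c.ex (c.cx w) + w =
        c.ey (c.cx w) + c.L (c.cx w ^ 2) + w by abel,
      map_add, map_add, c.fun_L hU hq hf, hw f hf, add_zero, add_zero, hcx, map_add, map_add]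
    have := ht (c.cy v)
    show f u + (f (c.ey (c.cx (dl ρ g (c.ey (c.cy v))))) + f (c.ey (t * c.cy v))) = f u
    rw [show f (c.ey (c.cx (dl ρ g (c.ey (c.cy v))))) = f (c.ey (t * c.cy v)) from this,
      show ∀ a : ZMod 2, a + a = 0 by decide, add_zero]
  have key := c.cy_core hU hq hs (core_inv hk (c.ex_core hs hq y))
  have e1 : c.cy (ρ g' (ρ (c.rv 1) (c.ex y))) = y ∧
      c.cx (ρ g' (ρ (c.rv 1) (c.ex y))) = y + (c.cx (dl ρ g (c.ey y)) + t * y) := by
    rw [act_eq_dl g', map_add, map_add, c.cy_core hU hq hs (dl_mem hg' _), hcx, c.cy_r, c.cx_r, c.cy_ex, c.cx_ex,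
      one_mul, zero_add, add_zero]
    exact ⟨rfl, rfl⟩
  rw [act_mul, act_mul, c.cy_r, e1.1, e1.2, one_mul, ← add_assoc, c.add_self_F, zero_add] at key
  linear_combination key - (t * y) * c.char_two

/-- An element with mixed parts only is trivial on the halves and keeps the fixed part. -/
theorem pure_trivial {d : P} (hd : d ∈ zg ρ M) (hal : ∀ y, c.cx (dl ρ d (c.ey y)) = 0)
    (hep : ∀ u, c.rest (dl ρ d (c.rest u)) = 0) :
    (∀ y, c.rest (dl ρ d (c.ey y)) = 0) ∧ ∀ u, c.cx (dl ρ d (c.rest u)) = 0 := by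
  classical
  haveI := hs.nontriv
  have hU := hs.smul_zero
  set Pu : Set P := {d | d ∈ zg ρ M ∧ (∀ y, c.cx (dl ρ d (c.ey y)) = 0) ∧
    ∀ u, c.rest (dl ρ d (c.rest u)) = 0} with hPu
  let be : P → F →+ U := fun d => c.rest.comp ((dl ρ d).comp c.ey)
  let de : P → U →+ F := fun d => c.cx.comp ((dl ρ d).comp c.rest)
  have hbe_core : ∀ d, d ∈ zg ρ M → ∀ y, be d y ∈ core ρ M := fun d hd y => c.rest_core hs hq (dl_mem hd _)
  have hbe_fix : ∀ d y, be d y ∈ fix ρ (A ⊔ R) := fun d y => c.rest_mem _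
  have hde : ∀ d, d ∈ zg ρ M → ∀ u, u ∈ core ρ M → de d u = 0 := fun d hd u hu => by
    show c.cx (dl ρ d (c.rest u)) = 0
    rw [dl_core hd (c.rest_core hs hq hu), map_zero]
  have hdeey : ∀ d y, de d (c.ey y) = 0 := fun d y => by
    show c.cx (dl ρ d (c.rest (c.ey y))) = 0
    rw [c.rest_ey, map_zero, map_zero]
  have hdl : ∀ d ∈ Pu, ∀ u, dl ρ d u = c.ex (de d u) + be d (c.cy u) := by
    intro d hd u
    rw [c.dl_split hs hq hd.1 u]
    conv_lhs => rw [c.split (dl ρ d (c.ey (c.cy u))), c.split (dl ρ d (c.rest u))]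
    rw [hd.2.1, hd.2.2, c.cy_core hU hq hs (dl_mem hd.1 _), c.cy_core hU hq hs (dl_mem hd.1 _), map_zero, map_zero]
    show 0 + 0 + be d (c.cy u) + (c.ex (de d u) + 0 + 0) = _
    abel
  let D : P → F → P := fun d b => c.rv b * d * c.rv b * d
  have hD : ∀ d ∈ Pu, ∀ b u, ρ (D d b) u =
      u + (c.ey (b * de d u) + c.L (b * de d u ^ 2) + be d (b * de d u) + be d (b * c.cx u)) := by
    intro d hd b u
    have hr : ∀ v, ρ (c.rv b) v = v + (c.ey (b * c.cx v) + c.L (b * c.cx v ^ 2)) := fun v => by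
      have e : ρ (c.rv b) v - v = ρ (c.rv b) (c.ex (c.cx v)) - c.ex (c.cx v) := c.r_disp (c.rv_mem b) (by rw [c.cx_ex])
      rw [sub_eq_iff_eq_add.1 e, c.r_ex' hU hq]
      abel
    set δ := de d u
    set x := c.cx u
    set y := c.cy u
    have cxL : ∀ z, c.cx (c.L z) = 0 := fun z => (c.coords_of_fix (c.L_mem z)).1
    have cyL : ∀ z, c.cy (c.L z) = 0 := fun z => (c.coords_of_fix (c.L_mem z)).2
    have cxb : ∀ z, c.cx (be d z) = 0 := fun z => (c.coords_of_fix (hbe_fix d z)).1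
    have cyb : ∀ z, c.cy (be d z) = 0 := fun z => (c.coords_of_fix (hbe_fix d z)).2
    have e1 : ρ d u = u + (c.ex δ + be d y) := by rw [act_eq_dl, hdl d hd]
    have e2 : ρ (c.rv b) (ρ d u) =
        u + (c.ex δ + be d y) + (c.ey (b * (x + δ)) + c.L (b * (x + δ) ^ 2)) := by
      rw [hr, e1]; simp only [map_add, c.cx_ex, cxb, add_zero]; rfl
    have e3 : ρ d (ρ (c.rv b) (ρ d u)) =
        u + (c.ey (b * (x + δ)) + c.L (b * (x + δ) ^ 2) + be d (b * (x + δ))) := by
      rw [act_eq_dl d, hdl d hd, e2, map_add (de d), map_add (de d), map_add (de d), map_add (de d),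
        hde d hd.1 _ (c.ex_core hs hq δ), hde d hd.1 _ (hbe_core d hd.1 y), hdeey, hde d hd.1 _ (c.L_core hs hq _)]
      simp only [map_add, c.cy_ex, cyb, c.cy_ey, cyL, add_zero, zero_add]
      calc u + (c.ex δ + be d y) + (c.ey (b * (x + δ)) + c.L (b * (x + δ) ^ 2)) +
            (c.ex (de d u) + (be d y + be d (b * (x + δ))))
          = u + (c.ey (b * (x + δ)) + c.L (b * (x + δ) ^ 2) + be d (b * (x + δ))) +
              ((c.ex δ + c.ex δ) + (be d y + be d y)) := by abel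
        _ = _ := by rw [add_self hU, add_self hU, add_zero, add_zero]
    rw [show D d b = c.rv b * d * c.rv b * d from rfl, act_mul, act_mul, act_mul, e3, hr]
    simp only [map_add, c.cx_ey, cxL, cxb, add_zero]
    have hsq : c.L (b * (x + δ) ^ 2) = c.L (b * x ^ 2) + c.L (b * δ ^ 2) := by
      rw [← map_add]; congr 1; linear_combination (b * x * δ) * c.char_two
    rw [hsq, mul_add, map_add c.ey, map_add (be d)]
    calc u + (c.ey (b * x) + c.ey (b * δ) + (c.L (b * x ^ 2) + c.L (b * δ ^ 2)) + (be d (b * x) + be d (b * δ))) +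
          (c.ey (b * x) + c.L (b * x ^ 2))
        = u + (c.ey (b * δ) + c.L (b * δ ^ 2) + be d (b * δ) + be d (b * x)) +
            ((c.ey (b * x) + c.ey (b * x)) + (c.L (b * x ^ 2) + c.L (b * x ^ 2))) := by abel
      _ = _ := by rw [add_self hU, add_self hU, add_zero, add_zero]
  -- these commutators form an elementary abelian group in `M`
  set G1 := Subgroup.closure {x | ∃ d ∈ Pu, ∃ b, x = D d b} with hG1
  have hfixd : ∀ d ∈ Pu, ∀ b, ∀ d' ∈ Pu, ∀ b' u,
      ρ (D d b) (ρ (D d' b') u - u) = ρ (D d' b') u - u := by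
    intro d hd b d' hd' b' u
    set w := ρ (D d' b') u - u with hw
    have hwe : w = c.ey (b' * de d' u) + c.L (b' * de d' u ^ 2) + be d' (b' * de d' u) + be d' (b' * c.cx u) := by
      rw [hw, hD d' hd', add_sub_cancel_left]
    rw [hD d hd, hwe]
    simp only [map_add, c.cx_ey, (c.coords_of_fix (c.L_mem _)).1, (c.coords_of_fix (hbe_fix d' _)).1, hdeey,
      hde d hd.1 _ (c.L_core hs hq _), hde d hd.1 _ (hbe_core d' hd'.1 _), add_zero, mul_zero, map_zero,
      zero_pow two_ne_zero]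
  have hG1S : G1 ≤ subStab ρ (core ρ M) := (Subgroup.closure_le _).2 (by
    rintro _ ⟨d, hd, b, rfl⟩
    have hfwd : ∀ x ∈ core ρ M, ρ (D d b) x ∈ core ρ M := fun x hx => by
      rw [hD d hd, hde d hd.1 x hx]
      simp only [mul_zero, map_zero, zero_pow two_ne_zero, add_zero, zero_add]
      exact add_mem hx (hbe_core d hd.1 _)
    intro x
    refine ⟨fun hx => ?_, hfwd x⟩
    have h2 : ρ (D d b) (ρ (D d b) x) = x := by
      have h := hfixd d hd b d hd b x
      rw [map_sub, sub_eq_iff_eq_add] at h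
      rw [h, sub_eq_add' hU, add_right_comm, add_self hU, zero_add]
    rw [← h2]; exact hfwd _ hx)
  have hGM : G1 ≤ M := hG1S.trans (c.subStab_core_le hU hq hs)
  have hgen : ∀ d ∈ Pu, ∀ b, ∀ d' ∈ Pu, ∀ b', D d b * D d' b' = D d' b' * D d b := fun d hd b d' hd' b' =>
    act_ext ρ hs.inj fun u => by
      have e1 := hfixd d hd b d' hd' b' u
      have e2 := hfixd d' hd' b' d hd b u
      rw [map_sub] at e1 e2
      rw [act_mul ρ (D d b) (D d' b'), act_mul ρ (D d' b') (D d b), sub_eq_iff_eq_add.1 e1, sub_eq_iff_eq_add.1 e2]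
      abel
  have hG1c : ∀ x ∈ G1, ∀ y ∈ G1, x * y = y * x := by
    have h1 : G1 ≤ Subgroup.centralizer (G1 : Set P) := by
      refine (Subgroup.closure_le _).2 ?_
      rintro _ ⟨d, hd, b, rfl⟩
      refine Subgroup.mem_centralizer_iff.2 fun x hx => ?_
      have h2 : G1 ≤ Subgroup.centralizer ({D d b} : Set P) := (Subgroup.closure_le _).2 (by
        rintro _ ⟨d', hd', b', rfl⟩
        exact Subgroup.mem_centralizer_singleton_iff.2 (hgen d' hd' b' d hd b))
      exact Subgroup.mem_centralizer_singleton_iff.1 (h2 hx)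
    exact fun x hx y hy => (Subgroup.mem_centralizer_iff.1 (h1 hx) y hy).symm
  have hG1p : IsPGroup 2 G1 := by
    let K : Subgroup P :=
      { carrier := {x | x ∈ G1 ∧ x ^ 2 = 1}
        one_mem' := ⟨one_mem _, one_pow _⟩
        mul_mem' := fun {a b} ha hb =>
          ⟨mul_mem ha.1 hb.1, by rw [Commute.mul_pow (hG1c a ha.1 b hb.1), ha.2, hb.2, one_mul]⟩
        inv_mem' := fun {a} ha => ⟨inv_mem ha.1, by rw [inv_pow, ha.2, inv_one]⟩ }
    have h1 : G1 ≤ K := (Subgroup.closure_le _).2 (by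
      rintro _ ⟨d, hd, b, rfl⟩
      refine ⟨Subgroup.subset_closure ⟨d, hd, b, rfl⟩, act_ext ρ hs.inj fun u => ?_⟩
      have h := hfixd d hd b d hd b u
      rw [map_sub, sub_eq_iff_eq_add] at h
      rw [pow_two, act_mul ρ (D d b) (D d b), h, act_one, sub_eq_add' hU, add_right_comm, add_self hU, zero_add])
    exact fun x => ⟨1, Subtype.ext (by rw [pow_one]; exact (h1 x.2).2)⟩
  have hH : IsPGroup 2 ↥(G1 ⊔ zg ρ M) := hG1p.to_sup_of_normal_right' (isPGroup_flag hs.inj hU _ _)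
    (hG1S.trans (le_normalizer_flag
      (fun e _ x hx => by rw [AddSubgroup.mem_bot.1 hx, map_zero]; exact zero_mem _) fun e he x hx => (he x).2 hx))
  have hZS : zg ρ M ≤ subStab ρ (core ρ M) := fun g hg x => ⟨fun hx => by
      have := sub_mem hx (hg.2.2 x); rwa [sub_sub_cancel] at this,
    fun hx => by have := add_mem (hg.2.2 x) hx; rwa [sub_add_cancel] at this⟩
  have hZM : zg ρ M ≤ M := hZS.trans (c.subStab_core_le hU hq hs)
  obtain ⟨k, hk, hle⟩ := hs.exists_conj_le hH (sup_le hGM hZM)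
  obtain ⟨w, hw, hw0, hwst⟩ := hs.exists_fixed hk
  have hwy : c.cy w = 0 := c.good_fix hwst
  have hwx : c.cx w ≠ 0 := c.cx_ne hwst (c.fix_of_cy hwy)
  have hGk : ∀ d ∈ Pu, ∀ b, D d b ∈ cm k (T : Subgroup P) := fun d hd b =>
    hle (Subgroup.mem_sup_left (Subgroup.subset_closure ⟨d, hd, b, rfl⟩))
  have hdew : ∀ d ∈ Pu, de d w = 0 := fun d hd => by
    have h1 : dl ρ d w = 0 := by rw [dl_apply, hw d (hle (Subgroup.mem_sup_right hd.1)), sub_self]
    rw [hdl d hd, hwy, map_zero, add_zero] at h1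
    have h2 := congrArg c.cx h1
    rwa [c.cx_ex, map_zero] at h2
  have hbe0 : ∀ d ∈ Pu, ∀ y, be d y = 0 := fun d hd y => by
    have h1 : ρ (D d (y * (c.cx w)⁻¹)) w = w := hw _ (hGk d hd _)
    rw [hD d hd, hdew d hd, inv_mul_cancel_right₀ hwx] at h1
    simpa using h1
  have hdPu : d ∈ Pu := ⟨hd, hal, hep⟩
  refine ⟨hbe0 d hdPu, fun u => ?_⟩
  by_contra hne
  -- every opposite displacement comes from these commutators
  refine c.not_le fun r hr => hs.cosetStab_le hk fun v => ?_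
  obtain ⟨t, rfl⟩ := c.rv_surj r hr
  rw [show ρ (c.rv t) v - v = c.ey (t * c.cx v) + c.L (t * c.cx v ^ 2) by
    have e : ρ (c.rv t) v - v = ρ (c.rv t) (c.ex (c.cx v)) - c.ex (c.cx v) := c.r_disp hr (by rw [c.cx_ex])
    rw [e, c.r_ex' hU hq, add_assoc, add_sub_cancel_left]]
  by_cases hv : c.cx v = 0
  · rw [hv, zero_pow two_ne_zero, mul_zero, map_zero, map_zero, add_zero]; exact zero_mem _
  obtain ⟨j, hj⟩ := c.lam_gen (c.cx v * (c.cx (dl ρ d (c.rest u)))⁻¹) (mul_ne_zero hv (inv_ne_zero hne))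
  obtain ⟨d', hd', h1, h2, h3, h4⟩ := c.exists_twist hs hq hd {j}
  have hd'Pu : d' ∈ Pu := ⟨hd', fun y => by rw [h1]; simp [twist, hal], fun u => by rw [h4, hep, smul_zero]⟩
  have hval : de d' u = c.cx v := by
    show c.cx (dl ρ d' (c.rest u)) = _
    rw [h3, Finset.sum_singleton, ← hj, mul_assoc, inv_mul_cancel₀ hne, mul_one]
  have h5 := sub_mem_img ρ (hGk d' hd'Pu t) u
  rwa [hD d' hd'Pu, add_sub_cancel_left, hbe0 d' hd'Pu, hbe0 d' hd'Pu, add_zero, add_zero, hval] at h5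

/-- **The shear.** -/
theorem shear {g : P} (hg : g ∈ zg ρ M) :
    ∃ t, (∀ y, ρ g (c.ey y) = ρ (c.av t) (c.ey y)) ∧ ∀ u, c.cx (dl ρ g (c.rest u)) = 0 := by
  classical
  have hU := hs.smul_zero
  obtain ⟨Sm, Sf, hW⟩ := exists_weights c.char_two c.lam_ne c.lam_gen (c.lam_ne_one hq)
  obtain ⟨g₁, hg₁, h11, -, h13, -⟩ := c.exists_twist hs hq hg Sm
  obtain ⟨t₁, ht₁⟩ := c.linear_of_unmixed hs hq hg₁ fun u => by rw [h13, hW.m_root, zero_mul]
  let al : F →+ F := c.cx.comp ((dl ρ g).comp c.ey)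
  have hlin : ∀ y, al y = al 1 * y := hW.lin al fun y => by
    haveI : CharP F 2 := CharTwo.of_one_ne_zero_of_two_eq_zero one_ne_zero c.char_two
    have e : ∀ z, twist c.lam Sm al z = t₁ * z := fun z => (h11 z).symm.trans (ht₁ z)
    rw [funext e]
    calc twist c.lam Sm (fun z => t₁ * z) y = t₁ * (∑ i ∈ Sm, c.lam ^ i * c.lam ^ i) * y := by
          rw [twist, Finset.mul_sum, Finset.sum_mul]
          exact Finset.sum_congr rfl fun i _ => by ring
      _ = 0 := by rw [← CharTwo.sum_mul_self, hW.m_root, mul_zero, mul_zero, zero_mul]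
  set t := al 1
  have hat := c.mem_zg hs hq (c.av_mem t)
  set g₂ := g * c.av t
  have hg₂ : g₂ ∈ zg ρ M := mul_mem hg hat
  have hav : ∀ y, dl ρ (c.av t) (c.ey y) = c.ex (t * y) + c.L (t * y ^ 2) := fun y => by
    rw [dl_apply, c.a_ey']; abel
  have hal₂ : ∀ y, c.cx (dl ρ g₂ (c.ey y)) = 0 := fun y => by
    rw [dl_mul hg hat, map_add, hav, map_add, c.cx_ex, (c.coords_of_fix (c.L_mem _)).1, add_zero,
      show c.cx (dl ρ g (c.ey y)) = t * y from hlin y, c.add_self_F]
  have hrest₂ : ∀ u, dl ρ g₂ (c.rest u) = dl ρ g (c.rest u) := fun u => by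
    rw [dl_mul hg hat, dl_apply (c.av t), c.a_fix t (v := c.rest u) (c.rest_mem u), sub_self, add_zero]
  obtain ⟨g₃, hg₃, h31, h32, h33, h34⟩ := c.exists_twist hs hq hg₂ Sf
  obtain ⟨hb, hd⟩ := c.pure_trivial hs hq hg₃ (fun y => by rw [h31]; simp [twist, hal₂]) fun u => by
    rw [h34]
    have hev : Even Sf.card := by
      haveI : CharP F 2 := CharTwo.of_one_ne_zero_of_two_eq_zero one_ne_zero c.char_two
      exact even_iff_two_dvd.2 ((CharP.cast_eq_zero_iff F 2 _).1 hW.f_one)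
    obtain ⟨j, hj⟩ := hev
    rw [hj, add_nsmul, add_self hU]
  refine ⟨t, fun y => ?_, fun u => ?_⟩
  · have hy : dl ρ g₂ (c.ey y) = 0 := by
      rw [c.split (dl ρ g₂ (c.ey y)), hal₂, c.cy_core hU hq hs (dl_mem hg₂ _), map_zero, map_zero, zero_add, zero_add]
      have := hb ((∑ i ∈ Sf, c.lam ^ i)⁻¹ * y)
      rwa [h32, ← mul_assoc, mul_inv_cancel₀ hW.f_root, one_mul] at this
    rw [dl_mul hg hat, dl_apply, dl_apply, add_eq_zero_iff_eq_neg, neg_self hU] at hy
    exact sub_left_inj.1 hy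
  · have := hd u
    rw [h33, mul_eq_zero, hrest₂] at this
    exact this.resolve_left hW.f_root

end Chart

end CfsgLib.RootTwo
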