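import Cfsg.Agent.Lib.RootTwo.Members
import Cfsg.Agent.Lib.RootTwo.Good

/-!
Over the field with two elements the members are transvections of a symmetric form.
-/

set_option autoImplicit false
set_option linter.unusedSectionVars false
set_option linter.style.haveILetI false

namespace CfsgLib.RootTwo

open CfsgLib CfsgLib.RootCommute CfsgLib.StrongFusion
open CfsgLib.SL2Pair (fix)

universe u v

variable {P : Type u} [Group P] [Finite P] {U : Type v} [AddCommGroup U] [Finite U] {ρ : P →* AddMonoid.End U}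
  {T : Sylow 2 P} {M : Subgroup P}

theorem zmod_two_cases (x : ZMod 2) : x = 0 ∨ x = 1 := by revert x; decide

variable (ρ) in
/-- A class of transvections of a symmetric form, in terms of centres. -/
structure Tv (T : Sylow 2 P) (M : Subgroup P) (C : Set U) (tv : U → P) (B : U →+ U →+ ZMod 2) : Prop where
  set_up : Setting ρ T M
  ne : ∀ c ∈ C, c ≠ 0
  symm : ∀ u v, B u v = B v u
  self : ∀ u, B u u = 0
  nondeg : ∀ u, (∀ c ∈ C, B u c = 0) → u = 0
  act_zero : ∀ c ∈ C, ∀ u, B u c = 0 → ρ (tv c) u = u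
  act_one : ∀ c ∈ C, ∀ u, B u c = 1 → ρ (tv c) u = u + c
  C_inv : ∀ g, ∀ c ∈ C, ρ g c ∈ C
  form_inv : ∀ g u v, B (ρ g u) (ρ g v) = B u v
  comm : ∀ c ∈ C, ∀ d ∈ C, tv c ∈ T → tv d ∈ T → B c d = 0
  closed : ∀ g, (∀ c ∈ C, tv c ∈ T → tv (ρ g c) ∈ T) → g ∈ M
  max : ∀ c ∈ C, (∀ d ∈ C, tv d ∈ T → B c d = 0) → tv c ∈ T
  outside : ∃ c ∈ C, tv c ∉ M

/-- A proper invariant subgroup and the displacements of the Sylow subgroup do not fill everything. -/
theorem sup_img_ne_top (hU : ∀ x : U, 2 • x = 0) {W : AddSubgroup U}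
    (hW : ∀ g ∈ (T : Subgroup P), ∀ x ∈ W, ρ g x ∈ W) (hne : W ≠ ⊤) : img ρ (T : Subgroup P) ⊔ W ≠ ⊤ := by
  intro he
  obtain ⟨S, ⟨hSi, hS⟩, hmin⟩ := Set.exists_min_image
    {S : AddSubgroup U | (∀ g ∈ (T : Subgroup P), ∀ x ∈ S, ρ g x ∈ S) ∧ S ⊔ W = ⊤} (fun S => Nat.card S)
    (Set.toFinite _) ⟨⊤, fun _ _ _ _ => trivial, top_sup_eq _⟩
  have hS0 : S ≠ ⊥ := fun e => hne (by rwa [e, bot_sup_eq] at hS)
  set D := AddSubgroup.closure {w | ∃ a ∈ (T : Subgroup P), ∃ x ∈ S, w = ρ a x - x} with hD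
  have hlt : D < S := disp_lt ρ hU T.2 hSi hS0
  have hDi : ∀ g ∈ (T : Subgroup P), ∀ x ∈ D, ρ g x ∈ D := fun g hg x hx => by
    have h1 : D ≤ D.comap (ρ g : U →+ U) := (AddSubgroup.closure_le _).2 (by
      rintro _ ⟨a, ha, x, hx, rfl⟩
      refine AddSubgroup.subset_closure ⟨g * a * g⁻¹, mul_mem (mul_mem hg ha) (inv_mem hg), ρ g x, hSi g hg x hx, ?_⟩
      show ρ g (ρ a x - x) = _
      rw [map_sub, act_mul, act_mul, act_inv])
    exact h1 hx
  have hDW : D ⊔ W = ⊤ := by
    rw [eq_top_iff, ← he]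
    refine sup_le ((img_le ρ).2 fun a ha u => ?_) le_sup_right
    obtain ⟨s, hs, w, hw, rfl⟩ := AddSubgroup.mem_sup.1 (hS.ge (AddSubgroup.mem_top u))
    rw [map_add, add_sub_add_comm]
    exact AddSubgroup.add_mem_sup (AddSubgroup.subset_closure ⟨a, ha, s, hs, rfl⟩) (sub_mem (hW a ha w hw) hw)
  exact hlt.ne (AddSubgroup.eq_of_le_of_card_ge hlt.le (hmin D ⟨hDi, hDW⟩))

variable {X : Subgroup P} {cl : Set (Subgroup P)} {F : Type} [Field F] [Fintype F]

/-- An element of a member of order two is a transvection. -/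
theorem Roots.exists_center (r : Roots ρ T M X cl F) (hq : Fintype.card F = 2) {E : Subgroup P} (hE : E ∈ cl)
    {d : P} (hd : d ∈ E) (hd1 : d ≠ 1) :
    ∃ c : U, c ≠ 0 ∧ ρ d c = c ∧ (∀ u, ρ d u = u ∨ ρ d u = u + c) ∧ ∀ g ∈ E, g = 1 ∨ g = d := by
  have rE := r.reg E hE
  have hU := r.set_up.smul_zero
  have hcard : Nat.card E = 2 := rE.card.trans hq
  have htwo : ∀ g ∈ E, g = 1 ∨ g = d := fun g hg => by
    obtain ⟨a, b, -, hab⟩ := Nat.card_eq_two_iff.1 hcard
    have h : ∀ x : E, x = a ∨ x = b := fun x => by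
      have := hab.ge (Set.mem_univ x)
      simpa using this
    have hne : (1 : E) ≠ ⟨d, hd⟩ := fun e => hd1 (congrArg Subtype.val e).symm
    rcases h ⟨g, hg⟩ with h1 | h1 <;> rcases h 1 with h2 | h2 <;> rcases h ⟨d, hd⟩ with h3 | h3
    all_goals
      first
        | exact absurd (h2.trans h3.symm) hne
        | exact Or.inl (congrArg Subtype.val (h1.trans h2.symm))
        | exact Or.inr (congrArg Subtype.val (h1.trans h3.symm))
  have hidx : (fix ρ E).index = 2 := by
    have h := (fix ρ E).card_mul_index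
    rw [rE.idx, hq, mul_comm 2] at h
    exact Nat.eq_of_mul_eq_mul_left Nat.card_pos h
  obtain ⟨v, hv⟩ : ∃ v, v ∉ fix ρ E := by
    by_contra hno
    push Not at hno
    rw [show fix ρ E = ⊤ from eq_top_iff.2 fun x _ => hno x, AddSubgroup.index_top] at hidx
    exact absurd hidx (by decide)
  have hdv : ρ d v ≠ v := fun e => hv (rE.ker d hd hd1 v e)
  refine ⟨ρ d v - v, sub_ne_zero.2 hdv, rE.quad (sub_mem_img ρ hd v) d hd, fun u => ?_, htwo⟩
  by_cases hu : u ∈ fix ρ E
  · exact Or.inl (hu d hd)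
  · refine Or.inr ?_
    have h := (AddSubgroup.add_mem_iff_of_index_two hidx).2 (iff_of_false hu hv)
    have h1 := h d hd
    rw [map_add] at h1
    rw [eq_sub_of_add_eq h1]
    calc u + v - ρ d v = u + -(ρ d v - v) := by abel
      _ = u + (ρ d v - v) := by rw [neg_self hU]

/-- **The transvections.** -/
theorem Roots.exists_tv (r : Roots ρ T M X cl F) (hq : Fintype.card F = 2) :
    ∃ (C : Set U) (tv : U → P) (B : U →+ U →+ ZMod 2), Tv ρ T M C tv B := by
  classical
  have hs := r.set_up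
  have hU := hs.smul_zero
  haveI := hs.nontriv
  let D : Set P := {d | d ≠ 1 ∧ ∃ E ∈ cl, d ∈ E}
  have hDc : ∀ d : D, ∃ c : U, c ≠ 0 ∧ ρ (d : P) c = c ∧ ∀ u, ρ (d : P) u = u ∨ ρ (d : P) u = u + c := by
    rintro ⟨d, hd1, E, hE, hd⟩
    obtain ⟨c, h1, h2, h3, -⟩ := r.exists_center hq hE hd hd1
    exact ⟨c, h1, h2, h3⟩
  choose cen hc0 hcfix hcact using hDc
  let g₀ : D → U → ZMod 2 := fun d u => if ρ (d : P) u = u then 0 else 1
  have hact : ∀ d u, (g₀ d u = 0 → ρ (d : P) u = u) ∧ (g₀ d u = 1 → ρ (d : P) u = u + cen d) := fun d u => by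
    by_cases h : ρ (d : P) u = u
    · exact ⟨fun _ => h, fun e => absurd e (by simp [g₀, h])⟩
    · exact ⟨fun e => absurd e (by simp [g₀, h]), fun _ => (hcact d u).resolve_left h⟩
  let φ : D → (U →+ ZMod 2) := fun d => AddMonoidHom.mk' (g₀ d) fun u w => by
    rcases hcact d u with hu | hu <;> rcases hcact d w with hw | hw
    all_goals
      have h1 : ρ (d : P) (u + w) = ρ (d : P) u + ρ (d : P) w := map_add _ _ _
      rw [hu, hw] at h1
    · simp [g₀, hu, hw, h1]
    · rw [← add_assoc] at h1; simp [g₀, hu, hw, h1, hc0 d]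
    · rw [add_right_comm] at h1; simp [g₀, hu, hw, h1, hc0 d]
    · rw [show u + cen d + (w + cen d) = u + w + (cen d + cen d) by abel, add_self hU, add_zero] at h1
      simp [g₀, hu, hw, h1, hc0 d]; decide
  have hφ : ∀ d u, φ d u = g₀ d u := fun _ _ => rfl
  -- members of one two-group commute, hence symmetry
  have hsq : ∀ d : D, (d : P) * d = 1 := fun d => act_ext ρ hs.inj fun u => by
    rw [act_mul, RootCommute.act_one]
    rcases hcact d u with h | h
    · rw [h, h]
    · rw [h, map_add, h, hcfix, add_assoc, add_self hU, add_zero]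
  have hmem : ∀ (d : D) (g : P), g * d * g⁻¹ ≠ 1 ∧ ∃ E ∈ cl, g * d * g⁻¹ ∈ E := fun d g => by
    obtain ⟨hd1, E, hE, hd⟩ := d.2
    exact ⟨fun e => hd1 (by rwa [mul_inv_eq_one, mul_eq_left] at e), cm g E, r.data.conj E hE g, ⟨d, hd, rfl⟩⟩
  have hTX : ∀ d : D, (d : P) ∈ (T : Subgroup P) → (d : P) ∈ X := by
    rintro ⟨d, hd1, E, hE, hd⟩ hdT
    obtain ⟨c, -, -, -, htwo⟩ := r.exists_center hq hE hd hd1
    rw [r.sup_eq]
    refine le_sSup (show E ∈ membersIn cl (T : Subgroup P) from ⟨hE, fun g hg => ?_⟩) hd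
    rcases htwo g hg with rfl | rfl
    · exact one_mem _
    · exact hdT
  have hpair : ∀ {Q : Subgroup P}, IsPGroup 2 Q → ∀ d e : D, (d : P) ∈ Q → (e : P) ∈ Q → (d : P) * e = e * d := by
    intro Q hQ d e hd he
    obtain ⟨a, ha⟩ := ZJFailure.exists_le_cm T hQ
    have h1 := RootCommute.mem_cm.1 (ha hd)
    have h2 := RootCommute.mem_cm.1 (ha he)
    have h3 := r.comm _ (hTX ⟨_, by have := hmem d a⁻¹; rwa [inv_inv] at this⟩ h1) _
      (hTX ⟨_, by have := hmem e a⁻¹; rwa [inv_inv] at this⟩ h2)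
    have h4 := congrArg (fun x => a * x * a⁻¹) h3
    simpa [mul_assoc] using h4
  have hcases : ∀ d u, φ d u = 0 ∧ ρ (d : P) u = u ∨ φ d u = 1 ∧ ρ (d : P) u = u + cen d := fun d u =>
    (zmod_two_cases (φ d u)).imp (fun h => ⟨h, (hact d u).1 h⟩) fun h => ⟨h, (hact d u).2 h⟩
  have hsym : ∀ d e, φ d (cen e) = φ e (cen d) := by
    suffices h : ∀ d e, φ e (cen d) = 0 → φ d (cen e) = 0 by
      intro d e
      rcases zmod_two_cases (φ e (cen d)) with h1 | h1
      · rw [h d e h1, h1]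
      · refine ((zmod_two_cases _).resolve_left fun h2 => ?_).trans h1.symm
        rw [h e d h2] at h1; exact zero_ne_one h1
    intro d e hed
    by_contra hne
    have h1 : φ d (cen e) = 1 := (zmod_two_cases _).resolve_left hne
    set B₁ := AddSubgroup.closure ({cen d} : Set U)
    set C₁ := AddSubgroup.closure ({cen d, cen e} : Set U)
    have hB : cen d ∈ B₁ := AddSubgroup.subset_closure rfl
    have hC : cen d ∈ C₁ ∧ cen e ∈ C₁ :=
      ⟨AddSubgroup.subset_closure (Or.inl rfl), AddSubgroup.subset_closure (Or.inr rfl)⟩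
    have hfl : ∀ f : D, ρ (f : P) (cen d) = cen d → ρ (f : P) (cen e) - cen e ∈ B₁ → cen f ∈ C₁ →
        (f : P) ∈ flag ρ B₁ C₁ := by
      intro f hd' he' hf
      have h2 : B₁ ≤ ((show U →+ U from ρ (f : P)) - AddMonoidHom.id U).ker := (AddSubgroup.closure_le _).2 (by
        rintro _ rfl
        exact sub_eq_zero.2 hd')
      have h3 : C₁ ≤ B₁.comap ((show U →+ U from ρ (f : P)) - AddMonoidHom.id U) := (AddSubgroup.closure_le _).2 (by
        rintro _ (rfl | rfl)
        · show ρ (f : P) (cen d) - cen d ∈ B₁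
          rw [hd', sub_self]; exact zero_mem _
        · exact he')
      refine ⟨fun x hx => sub_eq_zero.1 (h2 hx), fun x hx => h3 hx, fun x => ?_⟩
      rcases hcact f x with h | h <;> rw [h]
      · rw [sub_self]; exact zero_mem _
      · rwa [add_sub_cancel_left]
    have hdF : (d : P) ∈ flag ρ B₁ C₁ := hfl d (hcfix d) (by
      rw [(hact d _).2 h1, add_sub_cancel_left]; exact hB) hC.1
    have heF : (e : P) ∈ flag ρ B₁ C₁ := hfl e ((hact e _).1 hed) (by
      rw [hcfix, sub_self]; exact zero_mem _) hC.2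
    obtain ⟨u, hu⟩ : ∃ u, ρ (e : P) u ≠ u := by
      by_contra hno
      push Not at hno
      exact e.2.1 (act_ext ρ hs.inj fun u => by rw [hno u, RootCommute.act_one])
    have hu' := (hcact e u).resolve_left hu
    have h4 := congrArg (fun g => ρ g u) (hpair (isPGroup_flag hs.inj hU B₁ C₁) d e hdF heF)
    simp only [act_mul, hu', map_add, (hact d _).2 h1] at h4
    rcases hcases d u with ⟨-, hd'⟩ | ⟨-, hd'⟩
    · rw [hd', hu', ← add_assoc, add_eq_left] at h4
      exact hc0 d h4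
    · rw [hd', map_add, hu', (hact e _).1 hed] at h4
      rw [show u + cen d + (cen e + cen d) = u + cen e + cen d + cen d by abel, add_eq_left] at h4
      exact hc0 d h4
  -- the centres span
  set W := AddSubgroup.closure (Set.range cen) with hW
  have hcenW : ∀ d, cen d ∈ W := fun d => AddSubgroup.subset_closure ⟨d, rfl⟩
  have hrelD : ∀ (d : D) (g : P) u, ρ (g * d * g⁻¹) u = u ∨ ρ (g * d * g⁻¹) u = u + ρ g (cen d) := fun d g u => by
    rcases hcact d (ρ g⁻¹ u) with h | h
    · exact Or.inl (by rw [act_mul, act_mul, h, act_inv'])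
    · exact Or.inr (by rw [act_mul, act_mul, h, map_add, act_inv'])
  have hcenEq : ∀ (d : D) (g : P), cen ⟨g * d * g⁻¹, hmem d g⟩ = ρ g (cen d) := fun d g => by
    obtain ⟨v, hv⟩ : ∃ v, ρ (g * (d : P) * g⁻¹) v ≠ v := by
      by_contra hno
      push Not at hno
      exact (hmem d g).1 (act_ext ρ hs.inj fun u => by rw [hno u, RootCommute.act_one])
    have h1 := (hcact ⟨_, hmem d g⟩ v).resolve_left hv
    exact add_left_cancel (h1.symm.trans ((hrelD d g v).resolve_left hv))
  have hWi : ∀ g, ∀ x ∈ W, ρ g x ∈ W := fun g x hx => by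
    have h1 : W ≤ W.comap (ρ g : U →+ U) := (AddSubgroup.closure_le _).2 (by
      rintro _ ⟨d, rfl⟩
      show ρ g (cen d) ∈ W
      rw [← hcenEq]; exact hcenW _)
    exact h1 hx
  obtain ⟨A, hA⟩ := r.nonempty
  obtain ⟨R, ⟨c⟩⟩ := r.charted A hA
  have ha1 : c.av 1 ≠ 1 := fun e => one_ne_zero (c.av_injective (e.trans c.av_zero.symm))
  let a : D := ⟨c.av 1, ha1, A, hA.1, c.av_mem 1⟩
  have hb : ∃ b : D, (b : P) ∉ M := by
    refine ⟨⟨_, hmem a (c.av 1 * c.rv 1 * c.av 1)⟩, ?_⟩
    show c.av 1 * c.rv 1 * c.av 1 * c.av 1 * (c.av 1 * c.rv 1 * c.av 1)⁻¹ ∉ M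
    rw [c.swap, mul_inv_cancel_right]
    exact c.rv_notMem one_ne_zero
  obtain ⟨b₀, hb₀⟩ := hb
  have hWtop : W = ⊤ := by
    by_contra hne
    set W' := img ρ (T : Subgroup P) ⊔ W with hW'
    have hne' := sup_img_ne_top (ρ := ρ) (T := T) hU (fun g _ => hWi g) hne
    refine hne' (hs.full W' fun g x => ?_)
    have h1 : cosetStab ρ W' = ⊤ := by
      by_contra h
      refine hb₀ (hs.over_le (cosetStab ρ W') (fun t ht x => AddSubgroup.mem_sup_left (sub_mem_img ρ ht x)) h fun x => ?_)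
      rcases hcact b₀ x with e | e <;> rw [e]
      · rw [sub_self]; exact zero_mem _
      · rw [add_sub_cancel_left]; exact AddSubgroup.mem_sup_right (hcenW b₀)
    exact h1.ge (Subgroup.mem_top g) x
  -- the form
  let R₀ : AddSubgroup (U × (U →+ ZMod 2)) := AddSubgroup.closure (Set.range fun d => (cen d, φ d))
  have hR₀ : ∀ z ∈ R₀, ∀ d, z.2 (cen d) = φ d z.1 := fun z hz => by
    refine AddSubgroup.closure_induction ?_ (fun d => by simp) (fun x y _ _ hx hy d => ?_)
      (fun x _ hx d => ?_) hz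
    · rintro _ ⟨e, rfl⟩ d; exact hsym e d
    · simp [hx d, hy d]
    · simp [hx d]
  have hext : ∀ f g : U →+ ZMod 2, (∀ d, f (cen d) = g (cen d)) → f = g := fun f g h =>
    AddMonoidHom.ext fun u => AddMonoidHom.eqOn_closure (by
      rintro _ ⟨d, rfl⟩; exact h d) (hWtop.ge (AddSubgroup.mem_top u))
  let π : R₀ →+ U := (AddMonoidHom.fst U (U →+ ZMod 2)).comp R₀.subtype
  have hπ : Function.Bijective π := by
    refine ⟨(injective_iff_map_eq_zero π).2 fun z hz => Subtype.ext (Prod.ext hz (hext _ _ fun d => ?_)), ?_⟩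
    · have h1 := hR₀ z z.2 d
      rw [show (z : U × (U →+ ZMod 2)).1 = 0 from hz, map_zero] at h1
      exact h1
    · intro u
      have h1 : W ≤ π.range := (AddSubgroup.closure_le _).2 (by
        rintro _ ⟨d, rfl⟩
        exact ⟨⟨_, AddSubgroup.subset_closure ⟨d, rfl⟩⟩, rfl⟩)
      exact h1 (hWtop.ge (AddSubgroup.mem_top u))
  let B : U →+ U →+ ZMod 2 :=
    ((AddMonoidHom.snd U (U →+ ZMod 2)).comp R₀.subtype).comp (AddEquiv.ofBijective π hπ).symm.toAddMonoidHom
  have hBc : ∀ d, B (cen d) = φ d := fun d => by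
    have h1 : (AddEquiv.ofBijective π hπ).symm (cen d) = ⟨_, AddSubgroup.subset_closure ⟨d, rfl⟩⟩ :=
      (AddEquiv.symm_apply_eq _).2 rfl
    show ((AddMonoidHom.snd U (U →+ ZMod 2)).comp R₀.subtype) ((AddEquiv.ofBijective π hπ).symm (cen d)) = _
    rw [h1]; rfl
  have hBd : ∀ u d, B u (cen d) = φ d u := fun u d => by
    set z := (AddEquiv.ofBijective π hπ).symm u with hz
    have h1 : π z = u := (AddEquiv.ofBijective π hπ).apply_symm_apply u
    have h2 := hR₀ z z.2 d
    rw [show (z : U × (U →+ ZMod 2)).1 = u from h1] at h2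
    exact h2
  have hsymB : ∀ u w, B u w = B w u := fun u w => by
    refine DFunLike.congr_fun (hext (B u) (B.flip u) fun d => ?_) w
    rw [AddMonoidHom.flip_apply, hBd, hBc]
  have hself : ∀ u, B u u = 0 := fun u => by
    refine AddSubgroup.closure_induction ?_ (by simp) (fun x y _ _ hx hy => ?_) (fun x _ hx => ?_)
      (hWtop.ge (AddSubgroup.mem_top u))
    · rintro _ ⟨d, rfl⟩
      rw [hBc, hφ]
      simp [g₀, hcfix]
    · simp only [map_add, AddMonoidHom.add_apply, hx, hy, zero_add, add_zero, hsymB y x]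
      exact CharTwo.add_self_eq_zero _
    · simp [hx]
  have hcinj : Function.Injective cen := fun d e h => Subtype.ext (act_ext ρ hs.inj fun u => by
    have h1 : φ d = φ e := by rw [← hBc, ← hBc, h]
    rcases hcases d u with ⟨h2, h3⟩ | ⟨h2, h3⟩ <;> rw [h1] at h2
    · rw [h3, (hact e u).1 h2]
    · rw [h3, (hact e u).2 h2, h])
  have hconjφ : ∀ (d : D) g u, φ ⟨g * d * g⁻¹, hmem d g⟩ (ρ g u) = φ d u := fun d g u => by
    have h : ρ (g * (d : P) * g⁻¹) (ρ g u) = ρ g u ↔ ρ (d : P) u = u := by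
      rw [act_mul, act_mul, act_inv]
      exact (act_injective ρ g).eq_iff
    rw [hφ, hφ]
    simp only [g₀, h]
  have hinv : ∀ g u w, B (ρ g u) (ρ g w) = B u w := fun g u w => by
    refine DFunLike.congr_fun (hext ((B (ρ g u)).comp (ρ g : U →+ U)) (B u) fun d => ?_) w
    show B (ρ g u) (ρ g (cen d)) = _
    rw [← hcenEq, hBd, hBd, hconjφ]
  let tv : U → P := fun u => if h : ∃ d, cen d = u then (h.choose : P) else 1
  have htv : ∀ d, tv (cen d) = d := fun d => by
    have h : ∃ e, cen e = cen d := ⟨d, rfl⟩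
    simp only [tv, dif_pos h]
    exact congrArg Subtype.val (hcinj h.choose_spec)
  have hcl : ∀ g, (∀ d : D, (d : P) ∈ (T : Subgroup P) → g * (d : P) * g⁻¹ ∈ (T : Subgroup P)) → g ∈ M := fun g hg => by
    have h1 : cm g X ≤ (T : Subgroup P) := by
      refine Subgroup.map_le_iff_le_comap.2 ?_
      rw [r.sup_eq]
      refine sSup_le fun E hE e he => ?_
      by_cases he1 : e = 1
      · subst he1; exact one_mem _
      · show g * e * g⁻¹ ∈ (T : Subgroup P)
        exact hg ⟨e, he1, E, hE.1, he⟩ (hE.2 he)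
    exact r.normalizer_le (Local.mem_normalizer_of_map_conj_eq (r.closed g h1))
  refine ⟨Set.range cen, tv, B, ⟨hs, ?_, hsymB, hself, fun u hu => ?_, ?_, ?_, ?_, hinv, ?_, ?_, ?_, ?_⟩⟩
  · rintro _ ⟨d, rfl⟩; exact hc0 d
  · refine hs.no_fixed u fun g => ?_
    have hfix : ∀ d : D, ρ (d : P) u = u := fun d => (hact d u).1 (by
      show φ d u = 0
      rw [← hBd]; exact hu _ ⟨d, rfl⟩)
    by_contra hg
    -- a fixed vector of all transvections and of the Sylow subgroup
    let V₀ : AddSubgroup U :=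
      { carrier := {x | ∀ d : D, ρ (d : P) x = x}
        zero_mem' := fun d => map_zero _
        add_mem' := fun {x y} hx hy d => by rw [map_add, hx d, hy d]
        neg_mem' := fun {x} hx d => by rw [map_neg, hx d] }
    obtain ⟨w, hw, hw0, hwT⟩ := exists_fix ρ hU (E := (T : Subgroup P)) T.2 (W := V₀) (fun t _ x hx d => by
      have h := hx ⟨_, hmem d t⁻¹⟩
      have h' := congrArg (ρ t) h
      simp only [inv_inv, act_mul, act_inv'] at h'
      exact h') (fun e => hg (by
        rw [(AddSubgroup.eq_bot_iff_forall V₀).1 e u hfix, map_zero]))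
    exact hb₀ ((show pointStab ρ w ≤ M by
      have := hs.stab_le M.one_mem (x := w) (by rwa [cm_one]) hw0
      exact this) (hw b₀))
  · rintro _ ⟨d, rfl⟩ u hu
    rw [htv]; exact (hact d u).1 (by rw [← hφ, ← hBd]; exact hu)
  · rintro _ ⟨d, rfl⟩ u hu
    rw [htv]; exact (hact d u).2 (by rw [← hφ, ← hBd]; exact hu)
  · rintro g _ ⟨d, rfl⟩; exact ⟨_, hcenEq d g⟩
  · rintro _ ⟨d, rfl⟩ _ ⟨e, rfl⟩ hd he
    rw [htv] at hd he
    have h := congrArg (fun g => ρ g (cen e)) (r.comm _ (hTX d hd) _ (hTX e he))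
    rw [hBd]
    refine ((zmod_two_cases (φ e (cen d))).resolve_right fun h1 => ?_)
    have h2 : φ d (cen e) = 1 := (hsym d e).trans h1
    simp only [act_mul, hcfix, (hact d _).2 h2, map_add, (hact e _).2 h1] at h
    rw [← add_assoc, left_eq_add] at h
    exact hc0 e h
  · intro g hg
    refine hcl g fun d hd => ?_
    have h := hg _ ⟨d, rfl⟩ (by rw [htv]; exact hd)
    rwa [← hcenEq, htv] at h
  · rintro _ ⟨d, rfl⟩ hall
    rw [htv]
    have hcomm : ∀ x ∈ X, (d : P) * x = x * d := by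
      have h1 : X ≤ Subgroup.centralizer ({(d : P)} : Set P) := by
        rw [r.sup_eq]
        refine sSup_le fun E hE e he => Subgroup.mem_centralizer_singleton_iff.2 ?_
        by_cases he1 : e = 1
        · rw [he1, one_mul, mul_one]
        let e' : D := ⟨e, he1, E, hE.1, he⟩
        have h0 : φ e' (cen d) = 0 := by
          have := hall _ ⟨e', rfl⟩ (by rw [htv]; exact hE.2 he)
          rwa [hBd] at this
        have h0' : φ d (cen e') = 0 := (hsym d e').trans h0
        refine act_ext ρ hs.inj fun u => ?_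
        show ρ ((e' : P) * d) u = ρ ((d : P) * e') u
        rw [act_mul, act_mul]
        rcases hcact e' u with a | a <;> rcases hcact d u with b | b <;>
          simp only [a, b, map_add, (hact e' _).1 h0, (hact d _).1 h0']
        abel
      exact fun x hx => (Subgroup.mem_centralizer_singleton_iff.1 (h1 hx)).symm
    have hdN : (d : P) ∈ Subgroup.normalizer (X : Set P) := ZJFailure.mem_normalizer_of_forall fun x hx => by
      rw [hcomm x hx, mul_inv_cancel_right]; exact hx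
    have hz : IsPGroup 2 (Subgroup.zpowers (d : P)) := by
      rintro ⟨x, k, rfl⟩
      refine ⟨1, Subtype.ext ?_⟩
      show ((d : P) ^ k) ^ (2 ^ 1) = 1
      rw [pow_one, pow_two, ← zpow_add, ← two_mul, zpow_mul, zpow_two, hsq, one_zpow]
    have hY : IsPGroup 2 ((Subgroup.zpowers (d : P) ⊔ X : Subgroup P)) :=
      hz.to_sup_of_normal_right' (T.2.to_le r.le) (Subgroup.zpowers_le.2 hdN)
    obtain ⟨g, hg⟩ := ZJFailure.exists_le_cm T hY
    have hXg : cm g⁻¹ X = X := r.closed g⁻¹ (by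
      refine (cm_mono (le_sup_right.trans hg)).trans ?_
      rw [cm_inv_cm])
    have hd' := RootCommute.mem_cm.1 (hg (Subgroup.mem_sup_left (Subgroup.mem_zpowers (d : P))))
    have h2 := hTX ⟨_, by have := hmem d g⁻¹; rwa [inv_inv] at this⟩ hd'
    have h3 : (d : P) ∈ cm g X := RootCommute.mem_cm.2 h2
    rw [← hXg, cm_cm, mul_inv_cancel, cm_one] at h3
    exact r.le h3
  · exact ⟨_, ⟨b₀, rfl⟩, by rwa [htv]⟩

end CfsgLib.RootTwo
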